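import Cfsg.Agent.Lib.Local.FS.RankThreeAllNormal.Plane

/-!
Two moving members with `Ω₁Z(E₁) ≰ E₂` do not exist.
-/

set_option autoImplicit false
set_option linter.style.haveILetI false
set_option linter.unusedSectionVars false

open scoped commutatorElement

namespace Cfsg.Agent.Local.FS.AllNormal

universe u

variable {G : Type u} [Group G] [Finite G] {p : ℕ} [hp : Fact p.Prime]

/-- The situation: a `p`-group of sectional rank three with a group of automorphisms, in which nothing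
nontrivial is invariant under it and under all members. -/
structure Ctx (p : ℕ) (A : Subgroup (MulAut G)) : Prop where
  pgroup : IsPGroup p G
  ne_two : p ≠ 2
  rank : Cfsg.SectionalPRankLE p 3 G
  rank_two : ¬ Cfsg.SectionalPRankLE p 2 G
  core : ∀ Q : Subgroup G, (∀ β ∈ A, ∀ x ∈ Q, β x ∈ Q) →
    (∀ (E : Subgroup G) (Γ : Subgroup (MulAut E)), Member p A E Γ → Q ≤ E ∧ Inv Γ Q) → Q = ⊥
  cent : ∃ n : ℕ, ¬ p ∣ n ∧ ∀ α ∈ A, ∀ z ∈ Subgroup.center G, (α ^ n) z = z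
  inn : Fusion.SylIn p (MulAut.conj : G →* MulAut G).range A

/-- A member exists that moves `Ω₁Z(G)`. -/
theorem Ctx.exists_moving {A : Subgroup (MulAut G)} (C : Ctx p A) :
    ∃ (E : Subgroup G) (Γ : Subgroup (MulAut E)), Member p A E Γ ∧ ¬ Inv Γ (zG p G) := by
  by_contra hno
  push Not at hno
  have h := C.core (zG p G) (fun β _ x hx => map_mem_zG β hx) fun E Γ hM =>
    ⟨(hM.zG_le C.pgroup).trans (vE_le p E), hno E Γ hM⟩
  rcases subsingleton_or_nontrivial G with hs | hn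
  · refine C.rank_two fun H N _ A' _ _ => ?_
    haveI : Subsingleton (H ⧸ N) := Quotient.instSubsingletonQuotient _
    rw [Nat.card_of_subsingleton (1 : A')]
    exact Nat.one_le_pow _ _ hp.out.pos
  · exact zG_ne_bot C.pgroup h

omit [Finite G] in
theorem phi_normal {M : Subgroup G} (hM : M.Normal) : (phi M).Normal := ⟨fun n hn g => by
  haveI := hM
  have h := inv_phi (⊤ : Subgroup (MulAut M)) (MulAut.conjNormal g) trivial n hn
  rwa [ap_apply _ (phi_le M hn), MulAut.conjNormal_apply] at h⟩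

theorem eq_one_of_two {x : G} (hxp : x ^ p = 1) (hp2 : p ≠ 2) (h : x * x = 1) : x = 1 := by
  obtain ⟨m, hm⟩ := hp.out.odd_of_ne_two hp2
  rwa [hm, pow_succ, pow_mul, sq, h, one_pow, one_mul] at hxp

theorem eq_of_inf_zpowers {X : Subgroup G} {x : G} (hxp : x ^ p = 1) (hx : x ∉ X) {y : G} (hy : y ∈ X)
    (hyx : y ∈ Subgroup.zpowers x) : y = 1 :=
  by_contra fun h1 => hx ((Subgroup.zpowers_le.2 hy) (mem_zpowers_of_pow hxp (fun e => hx (e ▸ one_mem X)) hyx h1))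

/-- A group of order `p³` and sectional rank above two is abelian. -/
theorem comm_of_card_cube (hr : ¬ Cfsg.SectionalPRankLE p 2 G) (hG : IsPGroup p G)
    (hc : Nat.card G = p ^ 3) (x y : G) : x * y = y * x := by
  by_contra hne
  refine hr fun H N hN A' hA' hAp => ?_
  obtain ⟨k, hk⟩ := IsPGroup.iff_card.1 (((hG.to_subgroup H).to_quotient N).to_subgroup A')
  rw [hk]
  refine Nat.pow_le_pow_right hp.out.pos (Nat.le_of_lt_succ (lt_of_le_of_ne ?_ fun e => ?_))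
  · refine (Nat.pow_le_pow_iff_right hp.out.one_lt).1 (hk ▸ hc ▸ ?_)
    exact (Subgroup.card_le_card_group A').trans ((Nat.card_le_card_of_surjective _
      (QuotientGroup.mk'_surjective N)).trans (Subgroup.card_le_card_group H))
  · have h1 : Nat.card A' = Nat.card G := by rw [hk, e, hc]
    have hHtop : H = ⊤ := Subgroup.eq_top_of_le_card _ (h1 ▸ (Subgroup.card_le_card_group A').trans
      (Nat.card_le_card_of_surjective _ (QuotientGroup.mk'_surjective N)))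
    have hAtop : A' = ⊤ := Subgroup.eq_top_of_le_card _ (h1 ▸ (Nat.card_le_card_of_surjective _
      (QuotientGroup.mk'_surjective N)).trans (Subgroup.card_le_card_group H))
    have hinj : Function.Injective (QuotientGroup.mk' N) := by
      refine ((Function.Surjective.bijective_of_nat_card_le (QuotientGroup.mk'_surjective N) ?_)).injective
      rw [← Subgroup.card_top (G := H ⧸ N), ← hAtop, h1, hHtop, Subgroup.card_top]
    subst hHtop
    subst hAtop
    refine hne (congrArg Subtype.val (hinj (a₁ := ⟨x, trivial⟩ * ⟨y, trivial⟩) (a₂ := ⟨y, trivial⟩ * ⟨x, trivial⟩) ?_))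
    rw [map_mul, map_mul]
    exact congrArg Subtype.val (hA'.is_comm.comm
      (⟨QuotientGroup.mk' N ⟨x, trivial⟩, trivial⟩ : (⊤ : Subgroup _))
      ⟨QuotientGroup.mk' N ⟨y, trivial⟩, trivial⟩)

/-- The meet with a maximal subgroup has index `p`. -/
theorem Member.card_inf {A : Subgroup (MulAut G)} {E : Subgroup G} {Γ : Subgroup (MulAut E)}
    (h : Member p A E Γ) (hG : IsPGroup p G) {X : Subgroup G} (hX : ¬ X ≤ E) :
    Nat.card X = p * Nat.card (E ⊓ X : Subgroup G) := by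
  haveI := h.normal
  obtain ⟨x, hxX, hxE⟩ := SetLike.not_le_iff_exists.1 hX
  have htop : E ⊔ X = ⊤ := eq_top_iff.2 (by
    rw [← h.sup_eq_top hG hxE]; exact sup_le_sup_left (Subgroup.zpowers_le.2 hxX) E)
  have h1 := Solv.card_sup_mul_card_inf' E X (fun y _ => by
    rw [Subgroup.normalizer_eq_top]; exact Subgroup.mem_top y)
  rw [htop, Subgroup.card_top, h.card_eq hG, mul_assoc] at h1
  exact (Nat.eq_of_mul_eq_mul_left Nat.card_pos h1).symm

variable {A : Subgroup (MulAut G)}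

/-- The case `b = 1` does not occur. -/
theorem Ctx.no_pair (C : Ctx p A) {E₁ E₂ : Subgroup G} {Γ₁ : Subgroup (MulAut E₁)}
    {Γ₂ : Subgroup (MulAut E₂)} (h₁ : Member p A E₁ Γ₁) (h₂ : Member p A E₂ Γ₂)
    (hm₁ : ¬ Inv Γ₁ (zG p G)) (hm₂ : ¬ Inv Γ₂ (zG p G)) (hnle : ¬ vE p E₁ ≤ E₂) : False := by
  have hG := C.pgroup
  have hodd := hp.out.odd_of_ne_two C.ne_two
  obtain ⟨v₁, hv₁, hv₁E⟩ := SetLike.not_le_iff_exists.1 hnle
  have hnle' : ¬ vE p E₂ ≤ E₁ := fun hle => hv₁E (h₂.mem_of_centralizes hG hm₂ fun w hw =>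
    (mem_vE.1 hv₁).2.1 w (hle hw))
  obtain ⟨v₂, hv₂, hv₂E⟩ := SetLike.not_le_iff_exists.1 hnle'
  have hv₁1 : v₁ ∈ E₁ := vE_le p E₁ hv₁
  have hv₂2 : v₂ ∈ E₂ := vE_le p E₂ hv₂
  have hVZ : E₂ ⊓ vE p E₁ ≤ zG p G := fun w hw => h₁.central_of_fixed hG hv₂E hw.2
    ((mem_vE.1 hv₂).2.1 w hw.1)
  have hcV : Nat.card (vE p E₁) ≤ p * Nat.card (zG p G) := by
    rw [h₂.card_inf hG hnle]
    exact Nat.mul_le_mul_left p (Subgroup.card_le_of_le hVZ)
  obtain ⟨c, hcd⟩ : ∃ c, c = ⁅v₁, v₂⁆ := ⟨_, rfl⟩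
  have hcV₁ : c ∈ vE p E₁ := by
    have := (vE p E₁).mul_mem hv₁ ((h₁.vE_normal hG).conj_mem _ ((vE p E₁).inv_mem hv₁) v₂)
    rwa [hcd, commutatorElement_def, mul_assoc, mul_assoc, ← mul_assoc v₂]
  have hcV₂ : c ∈ vE p E₂ := by
    have := (vE p E₂).mul_mem ((h₂.vE_normal hG).conj_mem _ hv₂ v₁) ((vE p E₂).inv_mem hv₂)
    rwa [hcd, commutatorElement_def]
  have hc : c ∈ zG p G := hVZ ⟨vE_le p E₂ hcV₂, hcV₁⟩
  have hcp : c ^ p = 1 := (mem_zG.1 hc).2
  have hc1 : c ≠ 1 := fun e => hv₂E (vE_le p E₁ (h₁.zG_le hG (h₂.central_of_fixed hG hv₁E hv₂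
    (commutatorElement_eq_one_iff_mul_comm.1 (hcd ▸ e)))))
  -- the meet of the two members
  obtain ⟨M, hM⟩ : ∃ M, M = E₁ ⊓ E₂ := ⟨_, rfl⟩
  have hM1 : M ≤ E₁ := hM ▸ inf_le_left
  have hM2 : M ≤ E₂ := hM ▸ inf_le_right
  haveI := h₁.normal
  haveI := h₂.normal
  haveI hMn : M.Normal := hM ▸ inferInstance
  have hcE2 : Nat.card E₂ = p * Nat.card M := hM ▸ h₁.card_inf hG (fun hle => hv₂E (hle hv₂2))
  have hE2 : M ⊔ Subgroup.zpowers v₂ = E₂ := sup_zpowers_eq hG hM2 (by rw [hcE2, mul_comm]) hv₂2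
    fun hm => hv₂E (hM1 hm)
  have hgen : M ⊔ (Subgroup.zpowers v₂ ⊔ Subgroup.zpowers v₁) = ⊤ := by
    rw [← sup_assoc, hE2, h₂.sup_eq_top hG hv₁E]
  have hcentM1 : ∀ m ∈ M, v₁ * m = m * v₁ := fun m hm => (mem_vE.1 hv₁).2.1 m (hM1 hm)
  have hcentM2 : ∀ m ∈ M, v₂ * m = m * v₂ := fun m hm => (mem_vE.1 hv₂).2.1 m (hM2 hm)
  have hquot : ∀ (N : Subgroup G) [N.Normal], c ∈ N → (∀ x ∈ M, ∀ y ∈ M, ⁅x, y⁆ ∈ N) →
      (∀ x ∈ M, x ^ p ∈ N) → (∀ x y : G, ⁅x, y⁆ ∈ N) ∧ ∀ x : G, x ^ p ∈ N := by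
    intro N hN hcN hc' hp'
    have h := EA.of_closure (p := p) (s := (QuotientGroup.mk' N) '' ((M : Set G) ∪ {v₂, v₁})) ?_ ?_
    · have htop : ∀ q : G ⧸ N, q ∈ Subgroup.closure ((QuotientGroup.mk' N) '' ((M : Set G) ∪ {v₂, v₁})) := by
        rw [← MonoidHom.map_closure]
        intro q
        obtain ⟨g, rfl⟩ := QuotientGroup.mk'_surjective N q
        refine Subgroup.mem_map_of_mem _ ?_
        have hle : M ⊔ (Subgroup.zpowers v₂ ⊔ Subgroup.zpowers v₁) ≤
            Subgroup.closure ((M : Set G) ∪ {v₂, v₁}) :=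
          sup_le (fun m hm => Subgroup.subset_closure (Or.inl hm))
            (sup_le (Subgroup.zpowers_le.2 (Subgroup.subset_closure (Or.inr (Or.inl rfl))))
              (Subgroup.zpowers_le.2 (Subgroup.subset_closure (Or.inr (Or.inr rfl)))))
        exact hle (hgen.ge (Subgroup.mem_top g))
      refine ⟨fun x y => mk_eq_one.1 ?_, fun x => mk_eq_one.1 ?_⟩
      · rw [map_commutatorElement, commutatorElement_eq_one_iff_mul_comm]
        exact h.1 _ (htop _) _ (htop _)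
      · rw [map_pow]; exact h.2 _ (htop _)
    · have hcomm : ∀ {a b : G}, ⁅a, b⁆ ∈ N → QuotientGroup.mk' N a * QuotientGroup.mk' N b =
          QuotientGroup.mk' N b * QuotientGroup.mk' N a := fun {a b} hab => by
        rw [← commutatorElement_eq_one_iff_mul_comm, ← map_commutatorElement, mk_eq_one]; exact hab
      have h12 := hcomm (hcd ▸ hcN)
      rintro _ ⟨a, ha, rfl⟩ _ ⟨b, hb, rfl⟩
      rcases ha with ha | rfl | rfl <;> rcases hb with hb | rfl | rfl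
      · exact hcomm (hc' a ha b hb)
      all_goals first
        | rfl | exact h12 | exact h12.symm
        | (rw [← map_mul, ← map_mul]; first
            | rw [hcentM2 _ ‹_›] | rw [← hcentM2 _ ‹_›] | rw [hcentM1 _ ‹_›] | rw [← hcentM1 _ ‹_›])
    · rintro _ ⟨a, ha, rfl⟩
      rw [← map_pow, mk_eq_one]
      rcases ha with ha | rfl | rfl
      · exact hp' a ha
      · rw [(mem_vE.1 hv₂).2.2]; exact one_mem N
      · rw [(mem_vE.1 hv₁).2.2]; exact one_mem N
  have hGc : Nat.card G = p * p * Nat.card M := by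
    rw [h₂.card_eq hG, hcE2]; ring
  have hzc := zG_zpowers_normal hc
  have hΦn := phi_normal hMn
  haveI hN0 : (phi M ⊔ Subgroup.zpowers c).Normal := by haveI := hΦn; haveI := hzc; infer_instance
  have hcM : Subgroup.zpowers c ≤ M := Subgroup.zpowers_le.2 (hM ▸ ⟨vE_le p E₁ hcV₁, vE_le p E₂ hcV₂⟩)
  obtain ⟨hq1, hq2⟩ := hquot (phi M ⊔ Subgroup.zpowers c) (Subgroup.mem_sup_right (Subgroup.mem_zpowers c))
    (fun x hx y hy => Subgroup.mem_sup_left (comm_mem_phi hG hx hy))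
    (fun x hx => Subgroup.mem_sup_left (pow_mem_phi hG hx))
  have hcM0 : Nat.card M ≤ Nat.card (phi M ⊔ Subgroup.zpowers c : Subgroup G) * p := by
    have h := RankThreeNormal.card_le_rank C.rank (le_top : phi M ⊔ Subgroup.zpowers c ≤ ⊤)
      (fun a _ b hb => hN0.conj_mem b hb a) (fun x _ y _ => hq1 x y) (fun x _ => hq2 x)
    rw [Subgroup.card_top, hGc, pow_succ, sq, mul_assoc (p * p)] at h
    rw [mul_comm _ p]
    exact Nat.le_of_mul_le_mul_left h (Nat.mul_pos hp.out.pos hp.out.pos)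
  have hN0M : phi M ⊔ Subgroup.zpowers c ≤ M := sup_le (phi_le M) hcM
  have hMc : ∀ g : G, ∀ m ∈ M, g * m = m * g := by
    have hMab : ∀ x ∈ M, ∀ y ∈ M, x * y = y * x := by
      by_cases heq : phi M ⊔ Subgroup.zpowers c = M
      · have h := eq_of_sup_phi (E := M) hcM (by rw [sup_comm, heq])
        intro x hx y hy
        rw [← h] at hx hy
        obtain ⟨i, rfl⟩ := Subgroup.mem_zpowers_iff.1 hx
        exact ((show Commute c y from (mem_zG.1 hc).1 y).zpow_left i).eq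
      · obtain ⟨m, hm, hm0⟩ := SetLike.exists_of_lt (lt_of_le_of_ne hN0M heq)
        have h1 := sup_zpowers_eq hG hN0M hcM0 hm hm0
        have h2 := eq_of_sup_phi (E := M) (X := Subgroup.zpowers c ⊔ Subgroup.zpowers m)
          (sup_le hcM (Subgroup.zpowers_le.2 hm)) (by rw [sup_comm _ (phi M), ← sup_assoc, h1])
        intro x hx y hy
        rw [← h2, Subgroup.zpowers_eq_closure, Subgroup.zpowers_eq_closure, ← Subgroup.closure_union] at hx hy
        have hsub : Subgroup.closure ({c} ∪ {m}) ≤ Subgroup.centralizer ({c} ∪ {m} : Set G) := by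
          rw [Subgroup.closure_le]
          rintro a (rfl | rfl) <;> refine Subgroup.mem_centralizer_iff.2 ?_ <;> rintro b (rfl | rfl)
          · rfl
          · exact ((mem_zG.1 hc).1 _).symm
          · exact (mem_zG.1 hc).1 _
          · rfl
        have hsub2 : Subgroup.closure ({c} ∪ {m}) ≤
            Subgroup.centralizer (Subgroup.closure ({c} ∪ {m}) : Set G) := by
          rw [Subgroup.le_centralizer_iff, Subgroup.closure_le]
          intro a ha
          exact Subgroup.mem_centralizer_iff.2 fun b hb =>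
            (Subgroup.mem_centralizer_iff.1 (hsub hb) a ha).symm
        exact Subgroup.mem_centralizer_iff.1 (hsub2 hy) x hx
    intro g m hm
    have hsub : M ⊔ (Subgroup.zpowers v₂ ⊔ Subgroup.zpowers v₁) ≤ Subgroup.centralizer ({m} : Set G) := by
      simp only [sup_le_iff, Subgroup.zpowers_le]
      exact ⟨fun y hy => Subgroup.mem_centralizer_singleton_iff.2 (hMab m hm y hy).symm,
        Subgroup.mem_centralizer_singleton_iff.2 (hcentM2 m hm),
        Subgroup.mem_centralizer_singleton_iff.2 (hcentM1 m hm)⟩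
    rw [hgen] at hsub
    exact Subgroup.mem_centralizer_singleton_iff.1 (hsub (Subgroup.mem_top g))
  -- `p`-th powers
  obtain ⟨Q, hQ⟩ : ∃ Q : Subgroup G, Q = Subgroup.closure {x | ∃ m ∈ M, m ^ p = x} := ⟨_, rfl⟩
  have hpow : ∀ g : G, g ^ p ∈ Q := by
    intro g
    haveI := h₂.normal
    have hg : g ∈ E₂ ⊔ Subgroup.zpowers v₁ := (h₂.sup_eq_top hG hv₁E).ge (Subgroup.mem_top g)
    obtain ⟨e, he, a, ha, rfl⟩ := Subgroup.mem_sup_of_normal_left.1 hg
    rw [← hE2] at he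
    obtain ⟨m, hm, b, hb, rfl⟩ := Subgroup.mem_sup_of_normal_left.1 he
    obtain ⟨i, rfl⟩ := Subgroup.mem_zpowers_iff.1 ha
    obtain ⟨j, rfl⟩ := Subgroup.mem_zpowers_iff.1 hb
    have hcomm : ⁅v₁ ^ i, v₂ ^ j⁆ ∈ zG p G := by
      refine hVZ ⟨vE_le p E₂ ?_, ?_⟩
      · have := (vE p E₂).mul_mem ((h₂.vE_normal hG).conj_mem _ ((vE p E₂).zpow_mem hv₂ j) (v₁ ^ i))
          ((vE p E₂).inv_mem ((vE p E₂).zpow_mem hv₂ j))
        rwa [commutatorElement_def]
      · have hi := (vE p E₁).zpow_mem hv₁ i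
        have := (vE p E₁).mul_mem hi ((h₁.vE_normal hG).conj_mem _ ((vE p E₁).inv_mem hi) (v₂ ^ j))
        rwa [commutatorElement_def, mul_assoc, mul_assoc, ← mul_assoc (v₂ ^ j)]
    have hv : ∀ (v : G) (k : ℤ), v ^ p = 1 → (v ^ k) ^ p = 1 := fun v k hv => by
      rw [← zpow_natCast, ← zpow_mul, mul_comm, zpow_mul, zpow_natCast, hv, one_zpow]
    rw [mul_assoc, (show Commute m (v₂ ^ j * v₁ ^ i) from (hMc _ m hm).symm).mul_pow,
      mul_pow_two hodd ((mem_zG.1 hcomm).1 _).symm ((mem_zG.1 hcomm).1 _).symm (mem_zG.1 hcomm).2,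
      hv _ j (mem_vE.1 hv₂).2.2, hv _ i (mem_vE.1 hv₁).2.2, one_mul, mul_one, hQ]
    exact Subgroup.subset_closure ⟨m, hm, rfl⟩
  have hQM : Q ≤ M := hQ ▸ (Subgroup.closure_le M).2 fun x ⟨m, hm, e⟩ => e ▸ M.pow_mem hm p
  have hQbot : Q = ⊥ := by
    refine C.core Q (fun β _ x hx => ?_) fun E Γ hMem => ?_
    · have hle : Q ≤ Q.comap β.toMonoidHom := by
        conv_lhs => rw [hQ]
        rw [Subgroup.closure_le]
        rintro _ ⟨m, -, rfl⟩
        rw [SetLike.mem_coe, Subgroup.mem_comap, map_pow]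
        exact hpow _
      exact hle hx
    · have hME : M ≤ E := fun m hm => hMem.centric m fun e _ => (hMc e m hm).symm
      refine ⟨hQM.trans hME, fun γ hγ x hx => ?_⟩
      rw [hQ] at hx
      induction hx using Subgroup.closure_induction with
      | mem x hx => obtain ⟨m, hm, rfl⟩ := hx; rw [ap_pow γ (hME hm)]; exact hpow _
      | one => rw [ap_one]; exact one_mem _
      | mul a b ha hb iha ihb =>
        rw [← hQ] at ha hb
        rw [ap_mul γ (hME (hQM ha)) (hME (hQM hb))]; exact mul_mem iha ihb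
      | inv a ha iha =>
        rw [← hQ] at ha
        rw [ap_inv γ (hME (hQM ha))]; exact inv_mem iha
  have hexp : ∀ g : G, g ^ p = 1 := fun g => Subgroup.mem_bot.1 (hQbot ▸ hpow g)
  have hMZ : M = zG p G := le_antisymm (fun m hm => mem_zG.2 ⟨fun g => (hMc g m hm).symm, hexp m⟩)
    (hM ▸ le_inf ((h₁.zG_le hG).trans (vE_le p E₁)) ((h₂.zG_le hG).trans (vE_le p E₂)))
  haveI := hzc
  obtain ⟨hder, -⟩ := hquot (Subgroup.zpowers c) (Subgroup.mem_zpowers c)
    (fun x hx y _ => by rw [commutatorElement_eq_one_iff_mul_comm.2 (hMc y x hx).symm]; exact one_mem _)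
    (fun x _ => by rw [hexp]; exact one_mem _)
  obtain ⟨k, hk⟩ := card_pow hG (zG p G)
  have hk0 : k ≠ 0 := by
    rintro rfl
    have h1 := (Subgroup.card_eq_one.1 (by rw [hk, pow_zero]) : zG p G = ⊥)
    rw [h1, Subgroup.mem_bot] at hc
    exact hc1 hc
  have hk2 : k ≤ 2 := by
    have h1 := card_lt_mul hG (h₁.zG_lt hG hm₁)
    have h2 := EA.card_le C.rank (ea_vE p E₁)
    rw [hk, ← pow_succ] at h1
    have := (Nat.pow_le_pow_iff_right hp.out.one_lt).1 (h1.trans h2)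
    omega
  obtain rfl | rfl : k = 1 ∨ k = 2 := by omega
  · refine hc1 (hcd.trans (commutatorElement_eq_one_iff_mul_comm.2
      (comm_of_card_cube C.rank_two hG ?_ v₁ v₂)))
    rw [hGc, hMZ, hk]; ring
  -- order `p⁴`
  have hmem : ∀ (E : Subgroup G) (Γ : Subgroup (MulAut E)), Member p A E Γ →
      EA p E ∧ Nat.card E = p ^ 3 := by
    intro E Γ hE
    have hcE : Nat.card E = p ^ 3 := by
      have := hE.card_eq hG
      rw [hGc, hMZ, hk] at this
      refine (Nat.eq_of_mul_eq_mul_right hp.out.pos ?_).symm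
      rw [← this]; ring
    have hle := (hE.zG_le hG).trans (vE_le p E)
    obtain ⟨w, hw, hwZ⟩ : ∃ w ∈ E, w ∉ zG p G := by
      by_contra hno
      push Not at hno
      have := (Subgroup.card_le_of_le (fun e he => hno e he : E ≤ zG p G))
      rw [hcE, hk] at this
      have := (Nat.pow_le_pow_iff_right hp.out.one_lt).1 this
      omega
    refine ⟨?_, hcE⟩
    rw [← sup_zpowers_eq hG hle (by rw [hcE, hk, ← pow_succ]) hw hwZ]
    exact EA.sup ⟨fun a ha b _ => (mem_zG.1 ha).1 b, fun a ha => (mem_zG.1 ha).2⟩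
      (EA.zpowers (hexp w)) fun a ha b _ => (mem_zG.1 ha).1 b
  obtain ⟨n, hn, hfix⟩ := C.cent
  have hAc : ∀ α ∈ A, α c ∈ Subgroup.zpowers c := fun α _ => by
    rw [hcd, map_commutatorElement, ← hcd]; exact hder _ _
  -- the line of one member is invariant
  have hline : ∀ (D : Subgroup G) (β : MulAut G), β ∈ A → D ≤ zG p G → D ≠ ⊥ → β c = c⁻¹ →
      (∀ z ∈ zG p G, (β z = z ↔ z ∈ D)) →
      (∀ α ∈ A, ∀ z ∈ D, α z ∈ D) ∧ ∀ z ∈ zG p G, ∃ i : ℤ, ∃ d ∈ D, z = c ^ i * d := by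
    intro D β hβ hDZ hD hβc hβD
    obtain ⟨d₀, hd₀, hd₀1⟩ : ∃ d ∈ D, d ≠ 1 := by
      by_contra hno
      push Not at hno
      exact hD ((Subgroup.eq_bot_iff_forall _).2 hno)
    have hd0c : d₀ ∉ Subgroup.zpowers c := fun hm => hd₀1 (by
      obtain ⟨i, rfl⟩ := Subgroup.mem_zpowers_iff.1 hm
      have h1 := (hβD _ (hDZ hd₀)).2 hd₀
      rw [map_zpow, hβc, inv_zpow] at h1
      exact eq_one_of_two (p := p) (hexp _) C.ne_two (by
        nth_rewrite 1 [← h1]; exact inv_mul_cancel _))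
    have hsup : Subgroup.zpowers c ⊔ Subgroup.zpowers d₀ = zG p G :=
      sup_zpowers_eq hG (Subgroup.zpowers_le.2 hc) (by rw [hk, card_zpowers_eq hcp hc1, sq]) (hDZ hd₀) hd0c
    have hdec : ∀ z ∈ zG p G, ∃ i : ℤ, ∃ d ∈ D, z = c ^ i * d := fun z hz => by
      rw [← hsup] at hz
      obtain ⟨a, ha, b, hb, rfl⟩ := Subgroup.mem_sup_of_normal_left.1 hz
      obtain ⟨i, rfl⟩ := Subgroup.mem_zpowers_iff.1 ha
      exact ⟨i, b, (Subgroup.zpowers_le.2 hd₀) hb, rfl⟩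
    refine ⟨fun α hα z hz => ?_, hdec⟩
    obtain ⟨ρ, hρ⟩ : ∃ ρ, ρ = α⁻¹ * β * α * β⁻¹ := ⟨_, rfl⟩
    have hρA : ρ ∈ A := hρ ▸ A.mul_mem (A.mul_mem (A.mul_mem (A.inv_mem hα) hβ) hα) (A.inv_mem hβ)
    obtain ⟨i, d, hd, hid⟩ := hdec _ (map_mem_zG α (hDZ hz))
    obtain ⟨r, hr⟩ := Subgroup.mem_zpowers_iff.1 (hAc α⁻¹ (A.inv_mem hα))
    have hinv : ∀ {γ : MulAut G} {a b : G}, γ a = b → γ⁻¹ b = a := fun {γ a b} e => by
      rw [← e]; exact γ.symm_apply_apply a
    have hβz : β⁻¹ z = z := hinv ((hβD z (hDZ hz)).2 hz)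
    have h1 : ρ z = (c ^ r) ^ (-i + -i) * z := by
      rw [hρ, MulAut.mul_apply, MulAut.mul_apply, MulAut.mul_apply, hβz, hid, map_mul, map_zpow, hβc,
        (hβD d (hDZ hd)).2 hd, inv_zpow']
      have h2 : c ^ (-i) * d = c ^ (-i + -i) * (c ^ i * d) := by
        rw [← mul_assoc, ← zpow_add]; congr 2; ring
      rw [h2, map_mul, map_zpow, ← hid, ← hr]
      congr 1
      exact α.symm_apply_apply z
    obtain ⟨c', hc'⟩ : ∃ c', c' = (c ^ r) ^ (-i + -i) := ⟨_, rfl⟩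
    rw [← hc'] at h1
    have hρc : ρ c' = c' := by
      have hρc0 : ρ c = c := by
        rw [hρ, MulAut.mul_apply, MulAut.mul_apply, MulAut.mul_apply]
        obtain ⟨s, hs⟩ := Subgroup.mem_zpowers_iff.1 (hAc α hα)
        rw [hinv (show β (c⁻¹) = c by rw [map_inv, hβc, inv_inv]), map_inv, ← hs, map_inv, map_zpow, hβc,
          inv_zpow, inv_inv, hs]
        exact α.symm_apply_apply c
      rw [hc', map_zpow, map_zpow, hρc0]
    have hit : ∀ m : ℕ, (ρ ^ m) z = c' ^ m * z := by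
      intro m
      induction m with
      | zero => simp
      | succ m ih => rw [pow_succ', MulAut.mul_apply, ih, map_mul, map_pow, hρc, h1, ← mul_assoc, ← pow_succ]
    have h3 := hfix ρ hρA z (Subgroup.mem_center_iff.2 fun g => ((mem_zG.1 (hDZ hz)).1 g).symm)
    rw [hit, mul_eq_right] at h3
    have h4 : c' = 1 := by
      have hcp' : c' ^ p = 1 := hexp c'
      have hg := pow_gcd_eq_one.2 ⟨hcp', h3⟩
      rwa [(hp.out.coprime_iff_not_dvd.2 hn).gcd_eq_one, pow_one] at hg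
    have h5 : c ^ i = 1 := by
      have h6 : ((c ^ r) ^ i) * ((c ^ r) ^ i) = 1 := by
        rw [← zpow_add, ← inv_eq_one, ← zpow_neg, show -(i + i) = -i + -i by ring, ← hc', h4]
      have h7 := eq_one_of_two (p := p) (hexp _) C.ne_two h6
      rw [hr, ← map_zpow] at h7
      exact (MulEquiv.map_eq_one_iff α⁻¹).1 h7
    rw [hid, h5, one_mul]
    exact hd
  obtain ⟨hE1, hcE1⟩ := hmem E₁ Γ₁ h₁
  obtain ⟨D, hDZ, hD, hDinv, β, hβ, hβc, hβD⟩ :=
    h₁.exists_line hG C.ne_two hE1 hcE1 hk hm₁ hc hc1 (fun g e _ => hder g e)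
  obtain ⟨hDA, hdec⟩ := hline D β hβ hDZ hD hβc hβD
  refine hD (C.core D hDA fun E Γ hMem => ⟨hDZ.trans ((hMem.zG_le hG).trans (vE_le p E)), ?_⟩)
  by_cases hm : Inv Γ (zG p G)
  · exact hMem.inv_of_central hG hm (Inv.bot Γ) bot_le hDZ ((hMem.zG_le hG).trans (vE_le p E))
      (fun g x hx => by
        rw [Subgroup.mem_bot, commutatorElement_eq_one_iff_mul_comm]; exact ((mem_zG.1 hx).1 g).symm)
      fun α hα _ => hDA α hα
  obtain ⟨hEA, hcEA⟩ := hmem E Γ hMem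
  obtain ⟨D', hD'Z, hD', hD'inv, β', hβ', hβ'c, hβ'D⟩ :=
    hMem.exists_line hG C.ne_two hEA hcEA hk hm hc hc1 (fun g e _ => hder g e)
  obtain ⟨hD'A, hdec'⟩ := hline D' β' hβ' hD'Z hD' hβ'c hβ'D
  have hsame : ∀ {D₁ D₂ : Subgroup G} {β₁ β₂ : MulAut G}, β₁ ∈ A → D₁ ≤ zG p G → D₂ ≤ zG p G →
      β₁ c = c⁻¹ → β₂ c = c⁻¹ → (∀ z ∈ zG p G, (β₁ z = z ↔ z ∈ D₁)) →
      (∀ z ∈ zG p G, (β₂ z = z ↔ z ∈ D₂)) → (∀ α ∈ A, ∀ z ∈ D₂, α z ∈ D₂) →
      (∀ z ∈ zG p G, ∃ i : ℤ, ∃ d ∈ D₁, z = c ^ i * d) → D₂ ≤ D₁ := by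
    intro D₁ D₂ β₁ β₂ hb₁ h1Z h2Z hc₁ hc₂ hD₁ hD₂ hA₂ hdec₁ z hz
    obtain ⟨i, d, hd, hid⟩ := hdec₁ z (h2Z hz)
    have h2 : c ^ (i + i) ∈ D₂ := by
      have := D₂.mul_mem hz (D₂.inv_mem (hA₂ β₁ hb₁ z hz))
      rwa [hid, map_mul, map_zpow, hc₁, (hD₁ d (h1Z hd)).2 hd, mul_inv_rev, inv_zpow, inv_inv, mul_assoc,
        mul_inv_cancel_left, ← zpow_add] at this
    have h3 := (hD₂ _ ((zG p G).zpow_mem hc _)).2 h2
    rw [map_zpow, hc₂, inv_zpow] at h3
    have h4 : c ^ (i + i) = 1 := eq_one_of_two (p := p) (hexp _) C.ne_two (by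
      nth_rewrite 1 [← h3]; exact inv_mul_cancel _)
    have h5 : c ^ i = 1 := eq_one_of_two (p := p) (hexp _) C.ne_two (by rw [← zpow_add]; exact h4)
    rw [hid, h5, one_mul]
    exact hd
  have hDD : D' = D := le_antisymm (hsame hβ hDZ hD'Z hβc hβ'c hβD hβ'D hD'A hdec)
    (hsame hβ' hD'Z hDZ hβ'c hβc hβ'D hβD hDA hdec')
  exact hDD ▸ hD'inv

end Cfsg.Agent.Local.FS.AllNormal
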