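import Cfsg.Agent.Lib.Local.FS.RankThreeNormal.Coprime
import Cfsg.Agent.Lib.Fusion.Basic
import Cfsg.Agent.Lib.Solv.PGroupPhi

/-!
A maximal subgroup `E` of a finite `p`-group `G` with a group `Γ` of automorphisms, standing for an
essential subgroup normal in the Sylow group of a saturated fusion system and its automiser.
-/

set_option autoImplicit false
set_option linter.style.haveILetI false

open scoped commutatorElement

namespace Cfsg.Agent.Local.FS.AllNormal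

universe u

variable {G : Type u} [Group G] {E : Subgroup G}

open scoped Classical in
/-- An automorphism of `E` as a function on `G`. -/
noncomputable def ap (γ : MulAut E) (x : G) : G := if h : x ∈ E then (γ ⟨x, h⟩ : G) else x

section ap

variable {γ δ : MulAut E} {x y : G}

theorem ap_apply (γ : MulAut E) (hx : x ∈ E) : ap γ x = (γ ⟨x, hx⟩ : G) := dif_pos hx

theorem ap_coe (γ : MulAut E) (x : E) : ap γ (x : G) = (γ x : G) := by
  rw [ap_apply γ x.2]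

theorem ap_mem (γ : MulAut E) (hx : x ∈ E) : ap γ x ∈ E := by
  rw [ap_apply γ hx]; exact SetLike.coe_mem _

theorem ap_mul (γ : MulAut E) (hx : x ∈ E) (hy : y ∈ E) : ap γ (x * y) = ap γ x * ap γ y := by
  rw [ap_apply γ hx, ap_apply γ hy, ap_apply γ (E.mul_mem hx hy), ← Subgroup.coe_mul, ← map_mul]
  rfl

theorem ap_one (γ : MulAut E) : ap γ (1 : G) = 1 := by
  rw [ap_apply γ E.one_mem]; exact congrArg Subtype.val (map_one γ)

theorem ap_inv (γ : MulAut E) (hx : x ∈ E) : ap γ x⁻¹ = (ap γ x)⁻¹ :=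
  eq_inv_of_mul_eq_one_left (by rw [← ap_mul γ (E.inv_mem hx) hx, inv_mul_cancel, ap_one])

theorem ap_pow (γ : MulAut E) (hx : x ∈ E) (n : ℕ) : ap γ (x ^ n) = ap γ x ^ n := by
  induction n with
  | zero => simp [ap_one]
  | succ n ih => rw [pow_succ, ap_mul γ (E.pow_mem hx n) hx, ih, pow_succ]

theorem ap_comm (γ : MulAut E) (hx : x ∈ E) (hy : y ∈ E) : ap γ ⁅x, y⁆ = ⁅ap γ x, ap γ y⁆ := by
  rw [commutatorElement_def, ap_mul γ (E.mul_mem (E.mul_mem hx hy) (E.inv_mem hx)) (E.inv_mem hy),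
    ap_mul γ (E.mul_mem hx hy) (E.inv_mem hx), ap_mul γ hx hy, ap_inv γ hx, ap_inv γ hy]
  rfl

theorem ap_comp (hx : x ∈ E) : ap (γ * δ) x = ap γ (ap δ x) := by
  rw [ap_apply _ hx, ap_apply δ hx, ap_coe]; rfl

theorem ap_id (hx : x ∈ E) : ap (1 : MulAut E) x = x := by rw [ap_apply _ hx]; rfl

theorem ap_inv_ap (γ : MulAut E) (hx : x ∈ E) : ap γ⁻¹ (ap γ x) = x := by
  rw [← ap_comp hx, inv_mul_cancel, ap_id hx]

theorem ap_ap_inv (γ : MulAut E) (hx : x ∈ E) : ap γ (ap γ⁻¹ x) = x := by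
  rw [← ap_comp hx, mul_inv_cancel, ap_id hx]

theorem ap_inj (γ : MulAut E) (hx : x ∈ E) (hy : y ∈ E) (h : ap γ x = ap γ y) : x = y := by
  rw [← ap_inv_ap γ hx, h, ap_inv_ap γ hy]

theorem aut_ext' (h : ∀ x ∈ E, ap γ x = ap δ x) : γ = δ :=
  MulEquiv.ext fun x => Subtype.ext (by rw [← ap_coe, h x x.2, ap_coe])

end ap

/-- The image of a subgroup under an automorphism of `E`. -/
def img (γ : MulAut E) (X : Subgroup G) : Subgroup G :=
  ((X.subgroupOf E).map γ.toMonoidHom).map E.subtype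

theorem mem_img {γ : MulAut E} {X : Subgroup G} {z : G} :
    z ∈ img γ X ↔ ∃ x ∈ X, x ∈ E ∧ ap γ x = z := by
  constructor
  · rintro ⟨_, ⟨x, hx, rfl⟩, rfl⟩
    exact ⟨x, hx, x.2, ap_coe γ x⟩
  · rintro ⟨x, hx, hxE, rfl⟩
    exact ⟨γ ⟨x, hxE⟩, ⟨_, hx, rfl⟩, (ap_apply γ hxE).symm⟩

theorem ap_mem_img {γ : MulAut E} {X : Subgroup G} {x : G} (hx : x ∈ X) (hxE : x ∈ E) :
    ap γ x ∈ img γ X :=
  mem_img.2 ⟨x, hx, hxE, rfl⟩

theorem img_le (γ : MulAut E) (X : Subgroup G) : img γ X ≤ E := Subgroup.map_subtype_le _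

theorem img_mono (γ : MulAut E) {X Y : Subgroup G} (h : X ≤ Y) : img γ X ≤ img γ Y := fun _ hz => by
  obtain ⟨x, hx, hxE, rfl⟩ := mem_img.1 hz
  exact ap_mem_img (h hx) hxE

theorem card_img (γ : MulAut E) {X : Subgroup G} (hX : X ≤ E) : Nat.card (img γ X) = Nat.card X := by
  rw [img, Subgroup.card_map_of_injective E.subtype_injective,
    Subgroup.card_map_of_injective γ.injective, Nat.card_congr (Subgroup.subgroupOfEquivOfLe hX).toEquiv]

/-- Invariance under a group of automorphisms of `E`. -/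
def Inv (Γ : Subgroup (MulAut E)) (X : Subgroup G) : Prop := ∀ γ ∈ Γ, ∀ x ∈ X, ap γ x ∈ X

theorem Inv.inf {Γ : Subgroup (MulAut E)} {X Y : Subgroup G} (hX : Inv Γ X) (hY : Inv Γ Y) :
    Inv Γ (X ⊓ Y) := fun γ hγ x hx => ⟨hX γ hγ x hx.1, hY γ hγ x hx.2⟩

theorem Inv.bot (Γ : Subgroup (MulAut E)) : Inv Γ (⊥ : Subgroup G) := fun γ _ x hx => by
  rw [Subgroup.mem_bot] at hx ⊢; rw [hx, ap_one]

theorem Inv.self (Γ : Subgroup (MulAut E)) : Inv Γ E := fun γ _ _ hx => ap_mem γ hx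

/-- The subgroup generated by the images of `X`. -/
def orb (Γ : Subgroup (MulAut E)) (X : Subgroup G) : Subgroup G :=
  Subgroup.closure {z | ∃ γ ∈ Γ, ∃ x ∈ X, x ∈ E ∧ ap γ x = z}

theorem orb_le (Γ : Subgroup (MulAut E)) (X : Subgroup G) : orb Γ X ≤ E := by
  rw [orb, Subgroup.closure_le]
  rintro _ ⟨γ, -, x, -, hx, rfl⟩
  exact ap_mem γ hx

theorem img_le_orb {Γ : Subgroup (MulAut E)} (X : Subgroup G) {γ : MulAut E} (hγ : γ ∈ Γ) :
    img γ X ≤ orb Γ X := fun _ hz => by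
  obtain ⟨x, hx, hxE, rfl⟩ := mem_img.1 hz
  exact Subgroup.subset_closure ⟨γ, hγ, x, hx, hxE, rfl⟩

theorem le_orb (Γ : Subgroup (MulAut E)) {X : Subgroup G} (hX : X ≤ E) : X ≤ orb Γ X := fun x hx =>
  Subgroup.subset_closure ⟨1, Γ.one_mem, x, hx, hX hx, ap_id (hX hx)⟩

theorem orb_le_of {Γ : Subgroup (MulAut E)} {X Y : Subgroup G} (h : ∀ γ ∈ Γ, img γ X ≤ Y) :
    orb Γ X ≤ Y := by
  rw [orb, Subgroup.closure_le]
  rintro _ ⟨γ, hγ, x, hx, hxE, rfl⟩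
  exact h γ hγ (ap_mem_img hx hxE)

theorem inv_orb (Γ : Subgroup (MulAut E)) (X : Subgroup G) : Inv Γ (orb Γ X) := by
  intro γ hγ z hz
  induction hz using Subgroup.closure_induction with
  | mem z hz =>
    obtain ⟨δ, hδ, x, hx, hxE, rfl⟩ := hz
    rw [← ap_comp hxE]
    exact Subgroup.subset_closure ⟨_, Γ.mul_mem hγ hδ, x, hx, hxE, rfl⟩
  | one => rw [ap_one]; exact one_mem _
  | mul a b ha hb iha ihb => rw [ap_mul γ (orb_le Γ X ha) (orb_le Γ X hb)]; exact mul_mem iha ihb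
  | inv a ha iha => rw [ap_inv γ (orb_le Γ X ha)]; exact inv_mem iha

/-- The automorphisms of `E` given by conjugation in `G`. -/
def cjAut (E : Subgroup G) : Subgroup (MulAut E) where
  carrier := {α | ∃ x : G, ∀ e ∈ E, ap α e = x * e * x⁻¹}
  one_mem' := ⟨1, fun e he => by rw [ap_id he]; group⟩
  mul_mem' := by
    rintro α β ⟨x, hx⟩ ⟨y, hy⟩
    refine ⟨x * y, fun e he => ?_⟩
    have h := hx _ (ap_mem β he)
    rw [hy e he] at h
    rw [ap_comp he, hy e he, h]; group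
  inv_mem' := by
    rintro α ⟨x, hx⟩
    refine ⟨x⁻¹, fun e he => ?_⟩
    have h := hx _ (ap_mem α⁻¹ he)
    rw [ap_ap_inv α he] at h
    calc ap α⁻¹ e = x⁻¹ * (x * ap α⁻¹ e * x⁻¹) * x⁻¹⁻¹ := by group
      _ = x⁻¹ * e * x⁻¹⁻¹ := by rw [← h]

/-- The automiser data of a normal maximal essential subgroup. -/
structure Member (p : ℕ) (A : Subgroup (MulAut G)) (E : Subgroup G) (Γ : Subgroup (MulAut E)) :
    Prop where
  normal : E.Normal
  index : E.index = p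
  centric : ∀ x : G, (∀ e ∈ E, x * e = e * x) → x ∈ E
  syl : Fusion.SylIn p (cjAut E) Γ
  opTriv : ∀ K : Subgroup (MulAut E), K ≤ Γ → (∀ γ ∈ Γ, ∀ k ∈ K, γ * k * γ⁻¹ ∈ K) → IsPGroup p K →
    ∀ k ∈ K, ∃ w ∈ E, ∀ e ∈ E, ap k e = w * e * w⁻¹
  extend : ∀ α ∈ Γ, α ∈ Subgroup.normalizer (cjAut E : Set (MulAut E)) →
    ∃ β ∈ A, ∀ e ∈ E, β e = ap α e

/-- The Frattini subgroup of `E`, in `G`. -/
def phi (E : Subgroup G) : Subgroup G := (frattini ↥E).map E.subtype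

theorem phi_le (E : Subgroup G) : phi E ≤ E := Subgroup.map_subtype_le _

theorem mem_phi {x : G} (hx : x ∈ E) : x ∈ phi E ↔ (⟨x, hx⟩ : E) ∈ frattini ↥E := by
  refine ⟨?_, fun h => ⟨_, h, rfl⟩⟩
  rintro ⟨y, hy, e⟩
  rwa [show (⟨x, hx⟩ : E) = y from Subtype.ext e.symm]

theorem inv_phi (Γ : Subgroup (MulAut E)) : Inv Γ (phi E) := fun γ _ x hx => by
  have hxE := phi_le E hx
  rw [ap_apply γ hxE, mem_phi (SetLike.coe_mem _), Subtype.coe_eta]
  exact RankThreeNormal.frattini_map_mem γ ((mem_phi hxE).1 hx)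

section phi

variable [Finite G] {p : ℕ} [Fact p.Prime] (hG : IsPGroup p G)
include hG

theorem pow_mem_phi {x : G} (hx : x ∈ E) : x ^ p ∈ phi E :=
  ⟨_, Solv.pow_mem_frattini (hG.to_subgroup E) ⟨x, hx⟩, rfl⟩

theorem comm_mem_phi {x y : G} (hx : x ∈ E) (hy : y ∈ E) : ⁅x, y⁆ ∈ phi E :=
  ⟨_, Solv.commutatorElement_mem_frattini (hG.to_subgroup E) ⟨x, hx⟩ ⟨y, hy⟩, rfl⟩

omit hG in
theorem phi_le_of {N : Subgroup G} (hN : ∀ e ∈ E, ∀ n ∈ N, e * n * e⁻¹ ∈ N)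
    (hp : ∀ x ∈ E, x ^ p ∈ N) (hc : ∀ x ∈ E, ∀ y ∈ E, ⁅x, y⁆ ∈ N) : phi E ≤ N := by
  haveI : (N.subgroupOf E).Normal := ⟨fun n hn e => hN e e.2 n hn⟩
  rw [phi, Subgroup.map_le_iff_le_comap]
  exact Solv.frattini_le (p := p) (N.subgroupOf E) (fun a b => hc a a.2 b b.2) fun a => hp a a.2

omit hG in
theorem eq_of_sup_phi {X : Subgroup G} (hX : X ≤ E) (h : E ≤ X ⊔ phi E) : X = E := by
  refine le_antisymm hX (Subgroup.subgroupOf_eq_top.1 (frattini_nongenerating (eq_top_iff.2 fun e _ => ?_)))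
  have h1 : (X.subgroupOf E ⊔ frattini ↥E).map E.subtype = X ⊔ phi E := by
    rw [Subgroup.map_sup, Subgroup.map_subgroupOf_eq_of_le hX]; rfl
  obtain ⟨f, hf, hfe⟩ := h1.ge (h e.2)
  rwa [show f = e from Subtype.ext hfe] at hf

end phi

namespace Member

variable {p : ℕ} {A : Subgroup (MulAut G)} {Γ : Subgroup (MulAut E)} (h : Member p A E Γ)
include h

theorem pow_mem' (x : G) : x ^ p ∈ E := by
  haveI := h.normal
  rw [← h.index]
  exact E.pow_index_mem x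

theorem comm_mem [Fact p.Prime] (x y : G) : ⁅x, y⁆ ∈ E := by
  haveI := h.normal
  haveI : IsCyclic (G ⧸ E) := isCyclic_of_prime_card (by rw [← Subgroup.index_eq_card, h.index])
  letI := IsCyclic.commGroup (α := G ⧸ E)
  refine (QuotientGroup.eq_one_iff _).1 ?_
  rw [← QuotientGroup.mk'_apply, map_commutatorElement, commutatorElement_eq_one_iff_mul_comm, mul_comm]

theorem conj_mem (x : G) : ∃ γ ∈ Γ, ∀ e ∈ E, ap γ e = x * e * x⁻¹ := by
  haveI := h.normal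
  obtain ⟨γ, hγ⟩ : ∃ γ : MulAut E, ∀ e ∈ E, ap γ e = x * e * x⁻¹ :=
    ⟨MulAut.conjNormal x, fun e he => by rw [ap_apply _ he]; exact MulAut.conjNormal_apply _ _⟩
  exact ⟨γ, h.syl.le ⟨x, hγ⟩, hγ⟩

theorem normal_of_inv {X : Subgroup G} (hX : Inv Γ X) (hXE : X ≤ E) : X.Normal := ⟨fun n hn x => by
  obtain ⟨γ, hγ, hx⟩ := h.conj_mem x
  rw [← hx n (hXE hn)]
  exact hX γ hγ n hn⟩

end Member

theorem img_normalized {X : Subgroup G} (hX : X ≤ E) (hn : ∀ e ∈ E, ∀ n ∈ X, e * n * e⁻¹ ∈ X)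
    (γ : MulAut E) : ∀ e ∈ E, ∀ n ∈ img γ X, e * n * e⁻¹ ∈ img γ X := by
  intro e he n hn'
  obtain ⟨x, hx, hxE, rfl⟩ := mem_img.1 hn'
  refine mem_img.2 ⟨ap γ⁻¹ e * x * (ap γ⁻¹ e)⁻¹, hn _ (ap_mem _ he) x hx, ?_, ?_⟩
  · exact hX (hn _ (ap_mem _ he) x hx)
  · rw [ap_mul γ (E.mul_mem (ap_mem _ he) hxE) (E.inv_mem (ap_mem _ he)), ap_mul γ (ap_mem _ he) hxE,
      ap_inv γ (ap_mem _ he), ap_ap_inv γ he]

end Cfsg.Agent.Local.FS.AllNormal
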