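import Cfsg.Agent.Lib.Local.FS.RankThreeAllNormal.Tools
import Cfsg.Agent.Lib.Classical.SymplecticCount

/-!
Groups of order `p⁴` with a regular unipotent action on an elementary abelian subgroup of order `p³`
are isomorphic to a Sylow `p`-subgroup of `Sp₄(p)`.
-/

set_option autoImplicit false
set_option linter.style.haveILetI false
set_option linter.unusedSectionVars false

namespace Cfsg.Agent.Local.FS.AllNormal

universe u

variable {p : ℕ} [hp : Fact p.Prime]

/-- The relations: `x` acts on `⟨z, a, v⟩` as a single block. -/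
structure Rel (p : ℕ) {G : Type u} [Group G] (x v a z : G) : Prop where
  xp : x ^ p = 1
  vp : v ^ p = 1
  ap' : a ^ p = 1
  zp : z ^ p = 1
  xv : x * v = a * v * x
  xa : x * a = z * a * x
  xz : x * z = z * x
  va : v * a = a * v
  vz : v * z = z * v
  az : a * z = z * a

namespace Rel

variable {G : Type u} [Group G] {x v a z : G}

/-- The normal form. -/
def nf (x v a z : G) (l k j i : ℕ) : G := z ^ l * a ^ k * v ^ j * x ^ i

variable (h : Rel p x v a z)
include h

theorem x_pow_a (i k : ℕ) : x ^ i * a ^ k = z ^ (i * k) * a ^ k * x ^ i := by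
  have h1 : x * a ^ k = z ^ k * a ^ k * x := by
    induction k with
    | zero => simp
    | succ k ih =>
      rw [pow_succ a, ← mul_assoc, ih, mul_assoc (z ^ k * a ^ k), h.xa, pow_succ z]
      simp only [← mul_assoc]
      congr 2
      rw [mul_assoc (z ^ k), mul_assoc (z ^ k)]
      congr 1
      exact (Commute.pow_left (show Commute a z from h.az) k).eq
  induction i with
  | zero => simp
  | succ i ih =>
    rw [pow_succ' x, mul_assoc, ih]
    simp only [← mul_assoc]
    rw [((show Commute x z from h.xz).pow_right (i * k)).eq, mul_assoc (z ^ (i * k)) x, h1]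
    simp only [← mul_assoc, ← pow_add]
    rw [Nat.add_mul, one_mul]

theorem x_pow_v (i j : ℕ) : x ^ i * v ^ j = z ^ (i.choose 2 * j) * a ^ (i * j) * v ^ j * x ^ i := by
  have h1 : x * v ^ j = a ^ j * v ^ j * x := by
    induction j with
    | zero => simp
    | succ j ih =>
      rw [pow_succ v, ← mul_assoc, ih, mul_assoc (a ^ j * v ^ j), h.xv, pow_succ a]
      simp only [← mul_assoc]
      congr 2
      rw [mul_assoc (a ^ j), mul_assoc (a ^ j)]
      congr 1
      exact (Commute.pow_left (show Commute v a from h.va) j).eq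
  induction i with
  | zero => simp
  | succ i ih =>
    have hc : Nat.choose (i + 1) 2 = i.choose 2 + i := by
      rw [Nat.choose_succ_succ' i 1, Nat.choose_one_right, add_comm]
    have h2 := h.x_pow_a 1 (i * j)
    rw [pow_one, one_mul] at h2
    rw [pow_succ' x, mul_assoc, ih, hc, Nat.add_mul (i.choose 2), pow_add z]
    simp only [← mul_assoc]
    rw [((show Commute x z from h.xz).pow_right _).eq, mul_assoc (z ^ _) x, h2]
    simp only [← mul_assoc]
    rw [mul_assoc _ x (v ^ j), h1]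
    simp only [← mul_assoc]
    rw [mul_assoc _ (a ^ (i * j)) (a ^ j), ← pow_add a, Nat.add_mul, one_mul]

theorem nf_mul (l k j i l' k' j' i' : ℕ) :
    nf x v a z l k j i * nf x v a z l' k' j' i' =
      nf x v a z (l + (l' + i * k' + i.choose 2 * j')) (k + (k' + i * j')) (j + j') (i + i') := by
  have cx : Commute x z := h.xz
  have cv : Commute v z := h.vz
  have ca : Commute a z := h.az
  have cva : Commute v a := h.va
  calc z ^ l * a ^ k * v ^ j * x ^ i * (z ^ l' * a ^ k' * v ^ j' * x ^ i')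
      = z ^ l * a ^ k * v ^ j * (x ^ i * z ^ l') * a ^ k' * v ^ j' * x ^ i' := by group
    _ = z ^ l * a ^ k * v ^ j * z ^ l' * (x ^ i * a ^ k') * v ^ j' * x ^ i' := by
        rw [(cx.pow_pow i l').eq]; group
    _ = z ^ l * a ^ k * v ^ j * z ^ l' * (z ^ (i * k') * a ^ k') * (x ^ i * v ^ j') * x ^ i' := by
        rw [h.x_pow_a]; group
    _ = z ^ l * a ^ k * v ^ j * z ^ l' * (z ^ (i * k') * a ^ k') *
          (z ^ (i.choose 2 * j') * a ^ (i * j')) * v ^ j' * (x ^ i * x ^ i') := by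
        rw [h.x_pow_v]; group
    _ = z ^ l * a ^ k * v ^ j * (z ^ (l' + i * k') * (a ^ k' * z ^ (i.choose 2 * j')) * a ^ (i * j')) *
          v ^ j' * x ^ (i + i') := by rw [pow_add z, pow_add x]; group
    _ = z ^ l * a ^ k * (v ^ j * z ^ (l' + i * k' + i.choose 2 * j')) * a ^ (k' + i * j') *
          v ^ j' * x ^ (i + i') := by
        rw [(ca.pow_pow k' _).eq, pow_add z (l' + i * k'), pow_add a k']; group
    _ = z ^ l * (a ^ k * z ^ (l' + i * k' + i.choose 2 * j')) * (v ^ j * a ^ (k' + i * j')) *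
          v ^ j' * x ^ (i + i') := by rw [(cv.pow_pow j _).eq]; group
    _ = _ := by
        rw [(ca.pow_pow k _).eq, (cva.pow_pow j _).eq]
        simp only [nf, pow_add, mul_assoc]

omit h in
/-- The coordinates. -/
noncomputable def co (_h : Rel p x v a z) (w : ZMod p × ZMod p × ZMod p × ZMod p) : G :=
  nf x v a z w.1.val w.2.1.val w.2.2.1.val w.2.2.2.val

omit h in
theorem pow_val {g : G} (hg : g ^ p = 1) (n : ℕ) : g ^ ((n : ZMod p).val) = g ^ n := by
  rw [ZMod.val_natCast]
  conv_rhs => rw [← Nat.mod_add_div n p, pow_add, pow_mul, hg, one_pow, mul_one]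

theorem nf_eq_co (l k j i : ℕ) : nf x v a z l k j i = h.co ((l : ZMod p), (k : ZMod p), (j : ZMod p), (i : ZMod p)) := by
  simp only [co, nf]
  rw [pow_val h.zp, pow_val h.ap', pow_val h.vp, pow_val h.xp]

theorem co_mul (w w' : ZMod p × ZMod p × ZMod p × ZMod p) :
    h.co w * h.co w' = h.co (w.1 + (w'.1 + w.2.2.2 * w'.2.1 + (w.2.2.2.val.choose 2 : ZMod p) * w'.2.2.1),
      w.2.1 + (w'.2.1 + w.2.2.2 * w'.2.2.1), w.2.2.1 + w'.2.2.1, w.2.2.2 + w'.2.2.2) := by
  conv_lhs => simp only [co]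
  rw [h.nf_mul, h.nf_eq_co]
  simp [Nat.cast_add, Nat.cast_mul]

theorem range_eq [Finite G] : Set.range h.co = (Subgroup.closure ({x, v} : Set G) : Set G) := by
  have hx : x ∈ Subgroup.closure ({x, v} : Set G) := Subgroup.subset_closure (Set.mem_insert _ _)
  have hv : v ∈ Subgroup.closure ({x, v} : Set G) :=
    Subgroup.subset_closure (Set.mem_insert_of_mem _ rfl)
  have ha : a ∈ Subgroup.closure ({x, v} : Set G) := by
    have := mul_mem (mul_mem (mul_mem hx hv) (inv_mem hx)) (inv_mem hv)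
    rwa [h.xv, mul_inv_cancel_right, mul_inv_cancel_right] at this
  have hz : z ∈ Subgroup.closure ({x, v} : Set G) := by
    have := mul_mem (mul_mem (mul_mem hx ha) (inv_mem hx)) (inv_mem ha)
    rwa [h.xa, mul_inv_cancel_right, mul_inv_cancel_right] at this
  refine Set.Subset.antisymm ?_ fun g hg => ?_
  · rintro _ ⟨w, rfl⟩
    exact mul_mem (mul_mem (mul_mem (pow_mem hz _) (pow_mem ha _)) (pow_mem hv _)) (pow_mem hx _)
  · rw [SetLike.mem_coe, ← Subgroup.mem_toSubmonoid,
      Subgroup.closure_toSubmonoid_of_finite] at hg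
    induction hg using Submonoid.closure_induction with
    | mem g hg =>
      rcases hg with rfl | rfl
      · exact ⟨((0 : ℕ), (0 : ℕ), (0 : ℕ), (1 : ℕ)), by rw [← h.nf_eq_co]; simp [nf]⟩
      · exact ⟨((0 : ℕ), (0 : ℕ), (1 : ℕ), (0 : ℕ)), by rw [← h.nf_eq_co]; simp [nf]⟩
    | one => exact ⟨((0 : ℕ), (0 : ℕ), (0 : ℕ), (0 : ℕ)), by rw [← h.nf_eq_co]; simp [nf]⟩
    | mul _ _ _ _ ih ih' =>
      obtain ⟨w, rfl⟩ := ih
      obtain ⟨w', rfl⟩ := ih'
      exact ⟨_, (h.co_mul w w').symm⟩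

theorem card_le [Finite G] : Nat.card (Subgroup.closure ({x, v} : Set G)) ≤ p ^ 4 := by
  rw [← SetLike.coe_sort_coe, ← h.range_eq]
  refine (Finite.card_range_le h.co).trans (le_of_eq ?_)
  simp only [Nat.card_prod, Nat.card_zmod]
  ring

end Rel

/-- Two groups of order `p⁴` generated by such elements are isomorphic. -/
theorem Rel.equiv {G : Type u} {H : Type*} [Group G] [Finite G] [Group H] [Finite H] {x v a z : G}
    {x' v' a' z' : H} (h : Rel p x v a z) (h' : Rel p x' v' a' z')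
    (hG : Subgroup.closure ({x, v} : Set G) = ⊤) (hcG : Nat.card G = p ^ 4)
    (hH : Nat.card (Subgroup.closure ({x', v'} : Set H)) = p ^ 4) :
    Nonempty (G ≃* Subgroup.closure ({x', v'} : Set H)) := by
  have hs : Function.Surjective h.co := fun g => by
    have : g ∈ Set.range h.co := by rw [h.range_eq, hG]; trivial
    exact this
  have hc : Nat.card (ZMod p × ZMod p × ZMod p × ZMod p) = p ^ 4 := by
    simp only [Nat.card_prod, Nat.card_zmod]; ring
  have hb : Function.Bijective h.co := hs.bijective_of_nat_card_le (by rw [hc, hcG])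
  obtain ⟨g, hg⟩ : ∃ g : ZMod p × ZMod p × ZMod p × ZMod p → Subgroup.closure ({x', v'} : Set H),
      ∀ w, (g w : H) = h'.co w := ⟨fun w => ⟨h'.co w, by rw [← SetLike.mem_coe, ← h'.range_eq]; exact ⟨w, rfl⟩⟩,
        fun w => rfl⟩
  have hgs : Function.Surjective g := fun ⟨y, hy⟩ => by
    rw [← SetLike.mem_coe, ← h'.range_eq] at hy
    obtain ⟨w, hw⟩ := hy
    exact ⟨w, Subtype.ext ((hg w).trans hw)⟩
  have hgb : Function.Bijective g := hgs.bijective_of_nat_card_le (by rw [hc, hH])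
  refine ⟨MulEquiv.mk' ((Equiv.ofBijective _ hb).symm.trans (Equiv.ofBijective _ hgb)) fun y y' => ?_⟩
  obtain ⟨w, rfl⟩ := hs y
  obtain ⟨w', rfl⟩ := hs y'
  have e : ∀ u, (Equiv.ofBijective _ hb).symm (h.co u) = u := fun u =>
    (Equiv.ofBijective _ hb).symm_apply_apply u
  rw [h.co_mul]
  simp only [Equiv.trans_apply, e, Equiv.ofBijective_apply]
  refine Subtype.ext ?_
  rw [Subgroup.coe_mul, hg, hg, hg, h'.co_mul]

section symplectic

open Matrix

/-- A matrix of the unipotent radical or of the Levi part, as an element of `Sp₄(p)`. -/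
theorem mem_sp {A B D : Matrix (Fin 2) (Fin 2) (ZMod p)} (h1 : A * Bᵀ = B * Aᵀ) (h2 : A * Dᵀ = 1) :
    fromBlocks A B 0 D ∈ symplecticGroup (Fin 2) (ZMod p) := by
  rw [SymplecticGroup.mem_iff, J, fromBlocks_multiply, fromBlocks_transpose, fromBlocks_multiply]
  have h3 : D * Aᵀ = 1 := by rw [← transpose_transpose D, ← transpose_mul, h2, transpose_one]
  simp [h1, h2, h3]

theorem exists_iso_sylow {G : Type u} [Group G] [Finite G] {x v a z : G} (h : Rel p x v a z)
    (hG : Subgroup.closure ({x, v} : Set G) = ⊤) (hcG : Nat.card G = p ^ 4) (hp2 : p ≠ 2) :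
    ∃ P : Sylow p ↥(symplecticGroup (Fin 2) (ZMod p)),
      Nonempty (G ≃* ↥(P : Subgroup ↥(symplecticGroup (Fin 2) (ZMod p)))) := by
  have htwo : (2 : ZMod p) ≠ 0 := fun e => hp2 <| by
    have h1 : (((2 : ℕ)) : ZMod p) = 0 := by exact_mod_cast e
    exact (Nat.prime_dvd_prime_iff_eq hp.out Nat.prime_two).1 ((ZMod.natCast_eq_zero_iff 2 p).1 h1)
  obtain ⟨mB, hmB⟩ : ∃ mB : Matrix (Fin 2) (Fin 2) (ZMod p) → Matrix (Fin 2 ⊕ Fin 2) (Fin 2 ⊕ Fin 2) (ZMod p),
      ∀ B, mB B = fromBlocks 1 B 0 1 := ⟨_, fun B => rfl⟩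
  obtain ⟨mA, hmA⟩ : ∃ mA : ℕ → Matrix (Fin 2 ⊕ Fin 2) (Fin 2 ⊕ Fin 2) (ZMod p),
      ∀ i, mA i = fromBlocks !![1, (i : ZMod p); 0, 1] 0 0 !![1, 0; -(i : ZMod p), 1] := ⟨_, fun i => rfl⟩
  obtain ⟨X, hX⟩ : ∃ X : ↥(symplecticGroup (Fin 2) (ZMod p)), (X : Matrix _ _ (ZMod p)) = mA 1 :=
    ⟨⟨_, hmA 1 ▸ mem_sp (by simp) (by ext i j; fin_cases i <;> fin_cases j <;> simp [mul_apply, Fin.sum_univ_two])⟩, rfl⟩
  have hsym : ∀ B : Matrix (Fin 2) (Fin 2) (ZMod p), Bᵀ = B →
      ∃ U : ↥(symplecticGroup (Fin 2) (ZMod p)), (U : Matrix _ _ (ZMod p)) = mB B := fun B hB =>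
    ⟨⟨_, hmB B ▸ mem_sp (by simp [hB]) (by simp)⟩, rfl⟩
  obtain ⟨V', hV⟩ := hsym !![0, 0; 0, 1] (by ext i j; fin_cases i <;> fin_cases j <;> rfl)
  obtain ⟨A', hA⟩ := hsym !![1, 1; 1, 0] (by ext i j; fin_cases i <;> fin_cases j <;> rfl)
  obtain ⟨Z', hZ⟩ := hsym !![2, 0; 0, 0] (by ext i j; fin_cases i <;> fin_cases j <;> rfl)
  have hBB : ∀ B C, mB B * mB C = mB (B + C) := fun B C => by
    simp [hmB, fromBlocks_multiply, add_comm]
  have hBn : ∀ B (n : ℕ), mB B ^ n = mB (n • B) := fun B n => by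
    induction n with
    | zero => simp [hmB, fromBlocks_one]
    | succ n ih => rw [pow_succ, ih, hBB, succ_nsmul]
  have hAn : ∀ n : ℕ, mA 1 ^ n = mA n := fun n => by
    induction n with
    | zero =>
      rw [pow_zero, hmA, ← fromBlocks_one]
      congr 1 <;> ext i j <;> fin_cases i <;> fin_cases j <;> simp
    | succ n ih =>
      rw [pow_succ, ih, hmA, hmA, hmA, fromBlocks_multiply]
      congr 1 <;> ext i j <;> fin_cases i <;> fin_cases j <;> simp [mul_apply, Fin.sum_univ_two] <;> ring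
  have hrel : Rel p X V' A' Z' := by
    refine ⟨?_, ?_, ?_, ?_, ?_, ?_, ?_, ?_, ?_, ?_⟩ <;> refine Subtype.ext ?_
    · rw [SubmonoidClass.coe_pow, hX, hAn, hmA, ZMod.natCast_self, OneMemClass.coe_one, ← fromBlocks_one]
      congr 1 <;> ext i j <;> fin_cases i <;> fin_cases j <;> simp
    iterate 3
      · rw [SubmonoidClass.coe_pow, OneMemClass.coe_one]
        simp only [hV, hA, hZ, hBn]
        rw [hmB, ← fromBlocks_one]
        congr 1
        ext i j
        simp [ZMod.natCast_self]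
    all_goals
      simp only [MulMemClass.coe_mul, hX, hV, hA, hZ, hmA, hmB, Nat.cast_one, fromBlocks_multiply]
      congr 1 <;> ext i j <;> fin_cases i <;> fin_cases j <;>
        simp [mul_apply, Fin.sum_univ_two] <;> ring
  have hinj : Function.Injective hrel.co := by
    rintro ⟨l, k, j, i⟩ ⟨l', k', j', i'⟩ e
    have hM : ∀ l k j i : ZMod p, ((hrel.co (l, k, j, i) : ↥(symplecticGroup (Fin 2) (ZMod p))) :
        Matrix _ _ (ZMod p)) = fromBlocks !![1, i; 0, 1]
          (!![l * 2 + k, k; k, j] * !![1, 0; -i, 1]) 0 !![1, 0; -i, 1] := by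
      intro l k j i
      have hsum : l.val • !![(2 : ZMod p), 0; 0, 0] + k.val • !![(1 : ZMod p), 1; 1, 0] +
          j.val • !![(0 : ZMod p), 0; 0, 1] = !![l * 2 + k, k; k, j] := by
        simp only [← Nat.cast_smul_eq_nsmul (ZMod p), ZMod.natCast_zmod_val]
        ext r s
        fin_cases r <;> fin_cases s <;> simp
      simp only [Rel.co, Rel.nf, MulMemClass.coe_mul, SubmonoidClass.coe_pow]
      rw [hX, hV, hA, hZ, hBn, hBn, hBn, hAn, hBB, hBB, hsum, hmA, hmB, fromBlocks_multiply,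
        ZMod.natCast_zmod_val]
      simp only [one_mul, Matrix.mul_zero, Matrix.zero_mul, add_zero, zero_add]
    have e' := congrArg Subtype.val e
    rw [hM, hM, fromBlocks_inj] at e'
    obtain ⟨e1, e2, -, -⟩ := e'
    have hi : i = i' := by simpa using congrFun (congrFun e1 0) 1
    subst hi
    have hk : k = k' := by simpa [mul_apply, Fin.sum_univ_two] using congrFun (congrFun e2 0) 1
    subst hk
    have hj : j = j' := by simpa [mul_apply, Fin.sum_univ_two] using congrFun (congrFun e2 1) 1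
    subst hj
    have hl : l * 2 = l' * 2 := by simpa [mul_apply, Fin.sum_univ_two] using congrFun (congrFun e2 0) 0
    rw [mul_right_cancel₀ htwo hl]
  have hcl : Nat.card (Subgroup.closure ({X, V'} : Set _)) = p ^ 4 := by
    rw [← SetLike.coe_sort_coe, ← hrel.range_eq, Nat.card_range_of_injective hinj]
    simp only [Nat.card_prod, Nat.card_zmod]
    ring
  obtain ⟨P, hP⟩ := (IsPGroup.of_card hcl).exists_le_sylow
  have hPc : Nat.card P ≤ p ^ 4 := by
    obtain ⟨n, hn⟩ := IsPGroup.iff_card.1 P.isPGroup'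
    have hdvd : p ^ n ∣ p ^ (2 ^ 2) * ∏ i ∈ Finset.range 2, (p ^ (2 * (i + 1)) - 1) := by
      rw [← hn]
      have := Subgroup.card_subgroup_dvd_card (P : Subgroup ↥(symplecticGroup (Fin 2) (ZMod p)))
      rwa [Classical.SpCount.card_symplecticGroup, ZMod.card] at this
    have hco : Nat.Coprime (p ^ n) (∏ i ∈ Finset.range 2, (p ^ (2 * (i + 1)) - 1)) := by
      refine Nat.Coprime.prod_right fun i _ => Nat.Coprime.pow_left n (hp.out.coprime_iff_not_dvd.2 fun hd => ?_)
      have h1 : 1 ≤ p ^ (2 * (i + 1)) := Nat.one_le_pow _ _ hp.out.pos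
      have h2 := Nat.dvd_sub (dvd_pow_self p (show 2 * (i + 1) ≠ 0 by omega)) hd
      rw [Nat.sub_sub_self h1, Nat.dvd_one] at h2
      exact hp.out.one_lt.ne' h2
    rw [hn]
    exact Nat.le_of_dvd (pow_pos hp.out.pos _) (hco.dvd_of_dvd_mul_right hdvd)
  obtain ⟨φ⟩ := h.equiv hrel hG hcG hcl
  exact ⟨P, ⟨φ.trans (MulEquiv.subgroupCongr (Subgroup.eq_of_le_of_card_ge hP (by rw [hcl]; exact hPc)))⟩⟩

end symplectic

end Cfsg.Agent.Local.FS.AllNormal
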