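import Cfsg.Agent.Lib.Local.FS.RankThreeAllNormal.BOne
import Cfsg.Agent.Lib.Local.FS.RankThreeAllNormal.Model

/-!
A moving member whose `Ω₁Z` does not lie in a member that does not move: the group has order `p⁴`.
-/

set_option autoImplicit false
set_option linter.style.haveILetI false
set_option linter.unusedSectionVars false

open scoped commutatorElement

namespace Cfsg.Agent.Local.FS.AllNormal

universe u

variable {G : Type u} [Group G] [Finite G] {p : ℕ} [hp : Fact p.Prime] {A : Subgroup (MulAut G)}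

theorem Inv.sup {E : Subgroup G} {Γ : Subgroup (MulAut E)} {X Y : Subgroup G} (hX : Inv Γ X) (hY : Inv Γ Y)
    (hXE : X ≤ E) (hYE : Y ≤ E) : Inv Γ (X ⊔ Y) := by
  intro γ hγ z hz
  have hle : X ⊔ Y ≤ E := sup_le hXE hYE
  rw [← Subgroup.closure_eq X, ← Subgroup.closure_eq Y, ← Subgroup.closure_union] at hz ⊢
  induction hz using Subgroup.closure_induction with
  | mem a ha =>
    rcases ha with ha | ha
    · exact Subgroup.subset_closure (Or.inl (hX γ hγ a ha))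
    · exact Subgroup.subset_closure (Or.inr (hY γ hγ a ha))
  | one => rw [ap_one]; exact one_mem _
  | mul a b ha hb iha ihb =>
    rw [Subgroup.closure_union, Subgroup.closure_eq, Subgroup.closure_eq] at ha hb
    rw [ap_mul γ (hle ha) (hle hb)]; exact mul_mem iha ihb
  | inv a ha iha =>
    rw [Subgroup.closure_union, Subgroup.closure_eq, Subgroup.closure_eq] at ha
    rw [ap_inv γ (hle ha)]; exact inv_mem iha

/-- The structure that the two members force. -/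
structure Shape (p : ℕ) (E₁ E₂ : Subgroup G) : Prop where
  card : Nat.card G = p ^ 4
  rel : ∃ x v a z : G, Rel p x v a z ∧ Subgroup.closure ({x, v} : Set G) = ⊤
  ea₁ : EA p E₁
  card₁ : Nat.card E₁ = p ^ 3
  card₂ : Nat.card E₂ = p ^ 3
  exp₂ : ∀ e ∈ E₂, e ^ p = 1
  comm₂ : ∀ x ∈ E₂, ∀ y ∈ E₂, ⁅x, y⁆ ∈ zG p G
  ne₂ : ∃ x ∈ E₂, ∃ y ∈ E₂, x * y ≠ y * x
  cardZ : Nat.card (zG p G) = p

/-- The case `V₁ ≰ E₂`. -/
theorem Ctx.shape_of_not_le (C : Ctx p A) {E₁ E₂ : Subgroup G} {Γ₁ : Subgroup (MulAut E₁)}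
    {Γ₂ : Subgroup (MulAut E₂)} (h₁ : Member p A E₁ Γ₁) (h₂ : Member p A E₂ Γ₂)
    (hm₁ : ¬ Inv Γ₁ (zG p G)) (hm₂ : Inv Γ₂ (zG p G)) (hnle : ¬ vE p E₁ ≤ E₂) : Shape p E₁ E₂ := by
  have hG := C.pgroup
  have hodd := hp.out.odd_of_ne_two C.ne_two
  have hp' := hp.out
  obtain ⟨v, hv, hvE⟩ := SetLike.not_le_iff_exists.1 hnle
  have hv1 : v ∈ E₁ := vE_le p E₁ hv
  haveI := h₁.normal
  haveI := h₂.normal
  haveI hV₁n := h₁.vE_normal hG
  have hVab := ea_vE p E₁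
  -- the meet with `V₁`
  obtain ⟨Aa, hAa⟩ : ∃ Aa, Aa = E₂ ⊓ vE p E₁ := ⟨_, rfl⟩
  haveI hAn : Aa.Normal := hAa ▸ inferInstance
  have hA2 : Aa ≤ E₂ := hAa ▸ inf_le_left
  have hAV : Aa ≤ vE p E₁ := hAa ▸ inf_le_right
  have hA1 : Aa ≤ E₁ := hAV.trans (vE_le p E₁)
  have hcV : Nat.card (vE p E₁) = p * Nat.card Aa := hAa ▸ h₂.card_inf hG hnle
  have hve : ∀ e ∈ E₂, ⁅v, e⁆ ∈ Aa := fun e he => by
    rw [hAa, commutatorElement_def]
    refine ⟨E₂.mul_mem (h₂.normal.conj_mem e he v) (E₂.inv_mem he), ?_⟩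
    have := (vE p E₁).mul_mem hv (hV₁n.conj_mem _ ((vE p E₁).inv_mem hv) e)
    rwa [mul_assoc, mul_assoc, ← mul_assoc e]
  obtain ⟨M, hM⟩ : ∃ M, M = E₁ ⊓ E₂ := ⟨_, rfl⟩
  have hM1 : M ≤ E₁ := hM ▸ inf_le_left
  have hM2 : M ≤ E₂ := hM ▸ inf_le_right
  have hMn : M.Normal := hM ▸ inferInstance
  have hAM : Aa ≤ M := hM ▸ le_inf hA1 hA2
  have hvM : ∀ m ∈ M, v * m = m * v := fun m hm => (mem_vE.1 hv).2.1 m (hM1 hm)
  have hΦM : phi E₂ ≤ M := hM ▸ le_inf (phi_le_of (fun e _ n hn => h₁.normal.conj_mem n hn e)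
    (fun x _ => h₁.pow_mem' x) (fun x _ y _ => h₁.comm_mem x y)) (phi_le E₂)
  have hAinv : ¬ ∀ γ ∈ Γ₂, img γ Aa ≤ M := by
    intro hall
    have hX : orb Γ₂ Aa ⊔ phi E₂ ≤ M := sup_le (orb_le_of hall) hΦM
    refine h₂.not_series hG ((inv_orb Γ₂ Aa).sup (inv_phi Γ₂) (orb_le Γ₂ Aa) (phi_le E₂)) (inv_phi Γ₂)
      (hX.trans hM2) le_sup_right le_rfl hvE (fun e he => Subgroup.mem_sup_left (le_orb Γ₂ hA2 (hve e he)))
      (fun e he => ?_) (fun e he => ?_)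
    · rw [commutatorElement_eq_one_iff_mul_comm.2 (hvM e (hX he))]; exact one_mem _
    · rw [commutatorElement_eq_one_iff_mul_comm.2 (hvM e (hΦM he))]; exact one_mem _
  push Not at hAinv
  obtain ⟨g, hg, hgA⟩ := hAinv
  obtain ⟨a', ha', ha'M⟩ := SetLike.not_le_iff_exists.1 hgA
  have ha'2 : a' ∈ E₂ := img_le g Aa ha'
  have ha'1 : a' ∉ E₁ := fun h => ha'M (hM ▸ ⟨h, ha'2⟩)
  have hZV : zG p G ≤ Aa := hAa ▸ le_inf ((h₂.zG_le hG).trans (vE_le p E₂)) (h₁.zG_le hG)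
  have hgZ : ∀ z ∈ zG p G, ap g z ∈ zG p G := hm₂ g hg
  -- `Aa` is not central
  have hAZ : ¬ Aa ≤ zG p G := fun hle => by
    obtain ⟨x, hx, -, rfl⟩ := mem_img.1 ha'
    exact ha'M (hAM (hZV (hgZ x (hle hx))))
  have hgAZ : zG p G < Aa := lt_of_le_of_ne hZV fun e => hAZ e.ge
  obtain ⟨k, hk⟩ := card_pow hG (zG p G)
  haveI : Nontrivial G := ⟨⟨v, 1, fun e => hvE (e ▸ one_mem E₂)⟩⟩
  have hk0 : k ≠ 0 := fun e => zG_ne_bot hG (Subgroup.card_eq_one.1 (by rw [hk, e, pow_zero]))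
  have hcA : Nat.card Aa ≤ p ^ 2 := by
    have h1 := EA.card_le C.rank hVab
    rw [hcV, pow_succ' p 2] at h1
    exact Nat.le_of_mul_le_mul_left h1 hp'.pos
  have hk1 : k = 1 := by
    have h1 := (card_lt_mul hG hgAZ).trans hcA
    rw [hk, ← pow_succ] at h1
    have := (Nat.pow_le_pow_iff_right hp'.one_lt).1 h1
    omega
  subst hk1
  rw [pow_one] at hk
  have hcA2 : Nat.card Aa = p ^ 2 := le_antisymm hcA (by
    have h1 := card_lt_mul hG hgAZ
    rw [hk] at h1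
    rwa [sq])
  have hcAZ : Nat.card Aa ≤ Nat.card (zG p G) * p := by rw [hcA2, hk, sq]
  obtain ⟨a, ha, haZ⟩ := SetLike.not_le_iff_exists.1 hAZ
  have hAgen : zG p G ⊔ Subgroup.zpowers a = Aa := sup_zpowers_eq hG hZV hcAZ ha haZ
  have hcomZ : ∀ x : G, ∀ b ∈ Aa, ⁅x, b⁆ ∈ zG p G := fun x b hb =>
    central_step hG hAn (zG_normal p) hZV hcAZ x hb
  -- commutators with the conjugate
  have hcomA' : ∀ e ∈ E₂, ∀ b ∈ img g Aa, ⁅e, b⁆ ∈ zG p G := by
    intro e he b hb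
    obtain ⟨x, hx, hxE, rfl⟩ := mem_img.1 hb
    rw [← ap_ap_inv g he, ← ap_comm g (ap_mem _ he) hxE]
    exact hgZ _ (hcomZ _ x hx)
  have hA'cent : ∀ b ∈ Aa, a' * b = b * a' → b ∈ zG p G := fun b hb hcb =>
    h₁.central_of_fixed hG ha'1 (hAV hb) hcb
  obtain ⟨z, hzd⟩ : ∃ z, z = ⁅a', a⁆ := ⟨_, rfl⟩
  have hz : z ∈ zG p G := hzd ▸ hcomZ a' a ha
  have hz1 : z ≠ 1 := fun e => haZ (hA'cent a ha (commutatorElement_eq_one_iff_mul_comm.1 (hzd ▸ e)))
  have hzp : z ^ p = 1 := (mem_zG.1 hz).2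
  have hZgen : ∀ y ∈ zG p G, ∃ i : ℕ, z ^ i = y := fun y hy => mem_powers_iff_mem_zpowers.2 (by
    rw [Subgroup.eq_of_le_of_card_ge (Subgroup.zpowers_le.2 hz) (by rw [card_zpowers_eq hzp hz1, hk])]
    exact hy)
  have hcE2 : Nat.card E₂ = p * Nat.card M := hM ▸ h₁.card_inf hG fun hle => ha'1 (hle ha'2)
  have hE2gen : M ⊔ Subgroup.zpowers a' = E₂ := sup_zpowers_eq hG hM2 (by rw [hcE2, mul_comm]) ha'2 ha'M
  -- the centraliser of `Aa` and of the conjugate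
  obtain ⟨D, hD⟩ : ∃ D, D = M ⊓ Subgroup.centralizer ({a'} : Set G) := ⟨_, rfl⟩
  have hDM : D ≤ M := hD ▸ inf_le_left
  have hDa : ∀ d ∈ D, a' * d = d * a' := fun d hd =>
    (Subgroup.mem_centralizer_singleton_iff.1 (hD ▸ hd).2).symm
  have hMdec : ∀ m ∈ M, ∃ i : ℕ, m * a ^ i ∈ D := by
    intro m hm
    have h1 : ⁅a', m⁆ ∈ zG p G := by
      rw [← commutatorElement_inv]; exact inv_mem (hcomA' m (hM2 hm) a' ha')
    obtain ⟨i, hi⟩ := hZgen _ ((zG p G).inv_mem h1)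
    refine ⟨i, hD ▸ ⟨M.mul_mem hm (M.pow_mem (hAM ha) i), Subgroup.mem_centralizer_singleton_iff.2 ?_⟩⟩
    have h2 : a' * a ^ i = z ^ i * a ^ i * a' := by
      have h3 : a' * a * a'⁻¹ = z * a := by rw [hzd, commutatorElement_def]; group
      have h4 : (a' * a * a'⁻¹) ^ i = z ^ i * a ^ i := by
        rw [h3, (show Commute z a from (mem_zG.1 hz).1 a).mul_pow]
      rw [conj_pow] at h4
      rw [← h4]; group
    symm
    calc a' * (m * a ^ i) = ⁅a', m⁆ * m * (a' * a ^ i) := by rw [commutatorElement_def]; group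
      _ = ⁅a', m⁆ * (m * z ^ i) * a ^ i * a' := by rw [h2]; group
      _ = ⁅a', m⁆ * (z ^ i * m) * a ^ i * a' := by rw [(mem_zG.1 (pow_mem hz i)).1 m]
      _ = m * a ^ i * a' := by rw [hi]; group
  have hDord : ∀ t ∈ D, t ^ p = 1 → t ∈ zG p G := by
    intro t ht htp
    have h1 := EA.sup hVab (EA.zpowers htp) fun b hb y hy => by
      obtain ⟨i, rfl⟩ := Subgroup.mem_zpowers_iff.1 hy
      exact (mem_vE.1 hb).2.1 _ (E₁.zpow_mem (hM1 (hDM ht)) i)
    have h3 : Nat.card (vE p E₁) = p ^ 3 := by rw [hcV, hcA2, pow_succ' p 2]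
    have h4 : vE p E₁ ⊔ Subgroup.zpowers t = vE p E₁ :=
      (Subgroup.eq_of_le_of_card_ge le_sup_left (by rw [h3]; exact EA.card_le C.rank h1)).symm
    have h5 : t ∈ vE p E₁ := h4.le (Subgroup.mem_sup_right (Subgroup.mem_zpowers t))
    exact hA'cent t (hAa ▸ ⟨hM2 (hDM ht), h5⟩) (hDa t ht)
  have hDE1 : D ≤ E₁ := hDM.trans hM1
  have hE1gen : M ⊔ Subgroup.zpowers v = E₁ := by
    refine sup_zpowers_eq hG hM1 ?_ hv1 fun h => hvE (hM2 h)
    have h1 := h₁.card_eq hG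
    rw [h₂.card_eq hG, hcE2] at h1
    have h2 := Nat.eq_of_mul_eq_mul_right hp'.pos h1
    rw [← h2, mul_comm]
  haveI := hMn
  have hpowD : ∀ e ∈ E₁, e ^ p ∈ D := by
    intro e he
    rw [← hE1gen] at he
    obtain ⟨m, hm, w, hw, rfl⟩ := Subgroup.mem_sup_of_normal_left.1 he
    obtain ⟨j, rfl⟩ := Subgroup.mem_zpowers_iff.1 hw
    obtain ⟨i, hi⟩ := hMdec m hm
    rw [(show Commute m (v ^ j) from (Commute.zpow_left (show Commute v m from hvM m hm) j).symm).mul_pow,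
      show (v ^ j) ^ p = 1 from hVab.2 _ ((vE p E₁).zpow_mem hv j), mul_one,
      show m = m * a ^ i * (a ^ i)⁻¹ by group,
      (show Commute (m * a ^ i) (a ^ i)⁻¹ from (Commute.inv_right
        ((show Commute (a ^ i) (m * a ^ i) from (mem_vE.1 (pow_mem (hAV ha) i)).2.1 _ (hM1 (hDM hi))).symm))).mul_pow,
      show ((a ^ i)⁻¹) ^ p = 1 from hVab.2 _ (inv_mem (pow_mem (hAV ha) i)), mul_one]
    exact pow_mem hi p
  have hDZ : D ≤ zG p G := by
    intro y hy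
    by_contra hyZ
    obtain ⟨n, hn⟩ := IsPGroup.iff_orderOf.1 hG y
    obtain ⟨m, rfl⟩ : ∃ m, n = m + 1 + 1 := by
      rcases n with _ | n
      · exact absurd (orderOf_eq_one_iff.1 (by rw [hn, pow_zero]) ▸ one_mem _) hyZ
      rcases n with _ | n
      · exact absurd (hDord y hy (by rw [← pow_one p, ← hn, pow_orderOf_eq_one])) hyZ
      exact ⟨n, rfl⟩
    obtain ⟨y', hy'⟩ : ∃ y', y' = y ^ p ^ m := ⟨_, rfl⟩
    obtain ⟨P, hP⟩ : ∃ P : Subgroup G, P = Subgroup.closure {w | ∃ e ∈ E₁, e ^ p = w} := ⟨_, rfl⟩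
    have hPD : P ≤ D := hP ▸ (Subgroup.closure_le D).2 fun w ⟨e, he, hw⟩ => hw ▸ hpowD e he
    have hPinv : Inv Γ₁ P := by
      intro γ _ w hw
      rw [hP] at hw
      induction hw using Subgroup.closure_induction with
      | mem w hw =>
        obtain ⟨e, he, rfl⟩ := hw
        rw [ap_pow γ he, hP]
        exact Subgroup.subset_closure ⟨_, ap_mem γ he, rfl⟩
      | one => rw [ap_one]; exact one_mem P
      | mul b c hb hc ihb ihc =>
        rw [← hP] at hb hc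
        rw [ap_mul γ (hDE1 (hPD hb)) (hDE1 (hPD hc))]; exact mul_mem ihb ihc
      | inv b hb ihb =>
        rw [← hP] at hb
        rw [ap_inv γ (hDE1 (hPD hb))]; exact inv_mem ihb
    have hy'p : y' ^ p ∈ P := hP ▸ Subgroup.subset_closure ⟨y', hDE1 (hy' ▸ pow_mem hy _), rfl⟩
    have hy'pp : (y' ^ p) ^ p = 1 := by
      rw [hy', ← pow_mul, ← pow_mul, ← mul_assoc, ← pow_succ, ← pow_succ, ← hn, pow_orderOf_eq_one]
    have hy'1 : y' ^ p ≠ 1 := by
      rw [hy', ← pow_mul, ← pow_succ]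
      refine fun e => (Nat.pow_lt_pow_right hp'.one_lt (by omega : m + 1 < m + 1 + 1)).not_ge ?_
      rw [← hn]
      exact Nat.le_of_dvd (pow_pos hp'.pos _) (orderOf_dvd_of_pow_eq_one e)
    have hy'Z := hDord _ (hPD hy'p) hy'pp
    have hZeq : zG p G = Subgroup.zpowers (y' ^ p) :=
      (Subgroup.eq_of_le_of_card_ge (Subgroup.zpowers_le.2 hy'Z) (by rw [card_zpowers_eq hy'pp hy'1, hk])).symm
    refine hm₁ fun γ hγ w hw => ?_
    obtain ⟨i, rfl⟩ := Subgroup.mem_zpowers_iff.1 (hZeq ▸ hw)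
    have h1 : (y' ^ p) ^ i ∈ vE p E₁ := h₁.zG_le hG hw
    exact hDord _ (hPD (hPinv γ hγ _ (P.zpow_mem hy'p i))) (hVab.2 _ (inv_vE Γ₁ γ hγ _ h1))
  have hMA : M = Aa := le_antisymm (fun m hm => by
    obtain ⟨i, hi⟩ := hMdec m hm
    have := Aa.mul_mem (hZV (hDZ hi)) (Aa.inv_mem (Aa.pow_mem ha i))
    rwa [mul_inv_cancel_right] at this) hAM
  have hcE2' : Nat.card E₂ = p ^ 3 := by rw [hcE2, hMA, hcA2, pow_succ' p 2]
  have hcG : Nat.card G = p ^ 4 := by rw [h₂.card_eq hG, hcE2', ← pow_succ]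
  have hV3 : Nat.card (vE p E₁) = p ^ 3 := by rw [hcV, hcA2, pow_succ' p 2]
  have hE1V : vE p E₁ = E₁ := Subgroup.eq_of_le_of_card_ge (vE_le p E₁) (by
    have h1 := h₁.card_eq hG
    rw [hcG, pow_succ] at h1
    rw [hV3, ← Nat.eq_of_mul_eq_mul_right hp'.pos h1])
  -- the exponent and the commutators of `E₂`
  have ha'p : a' ^ p = 1 := by
    obtain ⟨x, hx, hxE, rfl⟩ := mem_img.1 ha'
    rw [← ap_pow g hxE, hVab.2 x (hAV hx), ap_one]
  rw [hMA] at hE2gen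
  have hcomm2 : ∀ x ∈ E₂, ∀ y ∈ E₂, ⁅x, y⁆ ∈ zG p G := by
    haveI := zG_normal (G := G) p
    obtain ⟨π, hπ⟩ : ∃ π, π = QuotientGroup.mk' (zG p G) := ⟨_, rfl⟩
    have hgen2 : E₂ ≤ Subgroup.closure ((Aa : Set G) ∪ {a'}) := by
      rw [← hE2gen, Subgroup.closure_union, Subgroup.closure_eq, ← Subgroup.zpowers_eq_closure]
    have hcz : Subgroup.closure ((Aa : Set G) ∪ {a'}) ≤
        (Subgroup.centralizer (π '' ((Aa : Set G) ∪ {a'}))).comap π := by
      rw [Subgroup.closure_le]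
      intro x hx
      refine Subgroup.mem_centralizer_iff.2 ?_
      rintro _ ⟨y, hy, rfl⟩
      rw [← commutatorElement_eq_one_iff_mul_comm, ← map_commutatorElement, hπ, mk_eq_one]
      rcases hx with hx | rfl
      · exact hcomZ y x hx
      · rcases hy with hy | rfl
        · rw [← commutatorElement_inv]; exact inv_mem (hcomZ x y hy)
        · rw [commutatorElement_self]; exact one_mem _
    intro x hx y hy
    have h1 : Subgroup.closure ((Aa : Set G) ∪ {a'}) ≤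
        (Subgroup.centralizer ({π x} : Set _)).comap π := by
      rw [Subgroup.closure_le]
      intro w hw
      exact Subgroup.mem_centralizer_singleton_iff.2
        (Subgroup.mem_centralizer_iff.1 (hcz (hgen2 hx)) (π w) ⟨w, hw, rfl⟩)
    refine mk_eq_one.1 ?_
    rw [map_commutatorElement, commutatorElement_eq_one_iff_mul_comm, ← hπ]
    exact (Subgroup.mem_centralizer_singleton_iff.1 (h1 (hgen2 hy))).symm
  have hexp2 : ∀ e ∈ E₂, e ^ p = 1 := by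
    intro e he
    rw [← hE2gen] at he
    obtain ⟨b, hb, w, hw, rfl⟩ := Subgroup.mem_sup_of_normal_left.1 he
    obtain ⟨j, rfl⟩ := Subgroup.mem_zpowers_iff.1 hw
    have hc := hcomm2 _ (E₂.zpow_mem ha'2 j) _ (hA2 hb)
    rw [mul_pow_two hodd ((mem_zG.1 hc).1 _).symm ((mem_zG.1 hc).1 _).symm (mem_zG.1 hc).2,
      hVab.2 b (hAV hb), one_mul, ← zpow_natCast, ← zpow_mul, mul_comm, zpow_mul, zpow_natCast, ha'p, one_zpow]
  -- generators
  obtain ⟨b, hb⟩ : ∃ b, b = ⁅a', v⁆ := ⟨_, rfl⟩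
  have hbA : b ∈ Aa := hb ▸ (commutatorElement_inv v a' ▸ inv_mem (hve a' ha'2))
  have hbZ : b ∉ zG p G := by
    intro hbZ
    have hzΦ : zG p G ≤ phi E₂ := fun y hy => by
      obtain ⟨i, rfl⟩ := hZgen y hy
      exact pow_mem (hzd ▸ comm_mem_phi hG ha'2 (hA2 ha)) i
    have hall : ∀ e ∈ E₂, ⁅v, e⁆ ∈ zG p G := by
      haveI := zG_normal (G := G) p
      obtain ⟨π, hπ⟩ : ∃ π, π = QuotientGroup.mk' (zG p G) := ⟨_, rfl⟩
      have h1 : E₂ ≤ (Subgroup.centralizer ({π v} : Set _)).comap π := by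
        rw [← hE2gen, sup_le_iff, Subgroup.zpowers_le]
        refine ⟨fun w hw => Subgroup.mem_centralizer_singleton_iff.2 ?_, Subgroup.mem_centralizer_singleton_iff.2 ?_⟩
        · rw [← map_mul, ← map_mul, hVab.1 w (hAV hw) v hv]
        · rw [← commutatorElement_eq_one_iff_mul_comm, ← map_commutatorElement, hπ, mk_eq_one, ← hb]
          exact hbZ
      intro e he
      refine mk_eq_one.1 ?_
      rw [map_commutatorElement, commutatorElement_eq_one_iff_mul_comm, ← hπ]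
      exact (Subgroup.mem_centralizer_singleton_iff.1 (h1 he)).symm
    exact h₂.not_series hG (inv_phi Γ₂) (inv_phi Γ₂) (phi_le E₂) le_rfl le_rfl hvE
      (fun e he => hzΦ (hall e he)) (fun e he => hzΦ (hall e (phi_le E₂ he)))
      (fun e he => hzΦ (hall e (phi_le E₂ he)))
  obtain ⟨w, hw⟩ : ∃ w, w = ⁅a', b⁆ := ⟨_, rfl⟩
  have hwZ : w ∈ zG p G := hw ▸ hcomZ a' b hbA
  have hw1 : w ≠ 1 := fun e => hbZ (hA'cent b hbA (commutatorElement_eq_one_iff_mul_comm.1 (hw ▸ e)))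
  have hrel : Rel p a' v b w := by
    refine ⟨ha'p, hVab.2 v hv, hVab.2 b (hAV hbA), (mem_zG.1 hwZ).2, ?_, ?_, ((mem_zG.1 hwZ).1 _).symm,
      hVab.1 v hv b (hAV hbA), ((mem_zG.1 hwZ).1 _).symm, ((mem_zG.1 hwZ).1 _).symm⟩
    · rw [hb, commutatorElement_def]; group
    · rw [hw, commutatorElement_def]; group
  have hgen : Subgroup.closure ({a', v} : Set G) = ⊤ := by
    have ha'c : a' ∈ Subgroup.closure ({a', v} : Set G) := Subgroup.subset_closure (Set.mem_insert _ _)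
    have hvc : v ∈ Subgroup.closure ({a', v} : Set G) :=
      Subgroup.subset_closure (Set.mem_insert_of_mem _ rfl)
    have hbc : b ∈ Subgroup.closure ({a', v} : Set G) := by
      rw [hb, commutatorElement_def]
      exact mul_mem (mul_mem (mul_mem ha'c hvc) (inv_mem ha'c)) (inv_mem hvc)
    have hwc : w ∈ Subgroup.closure ({a', v} : Set G) := by
      rw [hw, commutatorElement_def]
      exact mul_mem (mul_mem (mul_mem ha'c hbc) (inv_mem ha'c)) (inv_mem hbc)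
    rw [eq_top_iff, ← h₂.sup_eq_top hG hvE, ← hE2gen,
      ← sup_zpowers_eq hG hZV hcAZ hbA hbZ]
    refine sup_le (sup_le (sup_le ?_ (Subgroup.zpowers_le.2 hbc)) (Subgroup.zpowers_le.2 ha'c))
      (Subgroup.zpowers_le.2 hvc)
    rw [← Subgroup.eq_of_le_of_card_ge (Subgroup.zpowers_le.2 hwZ)
      (by rw [card_zpowers_eq (mem_zG.1 hwZ).2 hw1, hk])]
    exact Subgroup.zpowers_le.2 hwc
  exact ⟨hcG, ⟨a', v, b, w, hrel, hgen⟩, hE1V ▸ hVab, hE1V ▸ hV3, hcE2', hexp2, hcomm2,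
    ⟨a', ha'2, a, hA2 ha, fun e => haZ (hA'cent a ha e)⟩, hk⟩

end Cfsg.Agent.Local.FS.AllNormal
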