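import Cfsg.Agent.Lib.Local.FS.RankThreeAllNormal.Main
import Cfsg.Agent.Lib.Local.FS.RankThreeNormal.Pearl

/-!
The automisers of essential subgroups that are normal in the Sylow group give members.
-/

set_option autoImplicit false
set_option linter.style.haveILetI false

namespace Cfsg.Agent.Local.FS.AllNormal

open Cfsg Cfsg.FusionSystem Cfsg.Agent.Fusion

universe u

variable {Ω : Type u} [Group Ω] {S : Subgroup Ω} [Finite S] {F : FusionSystem S} {p : ℕ} [hp : Fact p.Prime]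

theorem index_of_normal (hS : IsPGroup p S) (hF : F.IsSaturated p) (hp3 : 3 ≤ p)
    (hsr : Cfsg.SectionalPRankLE p 3 ↥S) {E : Subgroup Ω} (hE : F.IsEssential p E)
    (hn : S ≤ Subgroup.normalizer (E : Set Ω)) : (E.subgroupOf S).index = p := by
  have hES : E < S := lt_of_essential hS hF hE
  have hN : normalizerIn S E = S := le_antisymm inf_le_left (le_inf le_rfl hn)
  rcases RankThreeNormal.exists_rank hS hsr hES.le with hrk | hrk
  · obtain ⟨U, hU⟩ := RankThreeNormal.dichotomy hS hF hp3 hE hrk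
    rw [← hN]
    rcases hU with h | ⟨a, b, c, s, co, y, t, g₀, h, -⟩
    · exact h.index
    · exact h.index
  · obtain ⟨U, hU, -⟩ := RankThreeNormal.pair_of_rank_two hS hF hp3 hE hrk
    rw [← hN]
    exact hU.index

/-- An essential subgroup normal in `S` gives a member, whose automiser is that of the system. -/
theorem exists_member (hS : IsPGroup p S) (hF : F.IsSaturated p) (hp3 : 3 ≤ p)
    (hsr : Cfsg.SectionalPRankLE p 3 ↥S) {E : Subgroup Ω} (hE : F.IsEssential p E)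
    (hn : S ≤ Subgroup.normalizer (E : Set Ω)) :
    ∃ Γ : Subgroup (MulAut (E.subgroupOf S)), Member p (F.autGroup S) (E.subgroupOf S) Γ ∧
      ∀ α ∈ F.autGroup E, ∃ γ ∈ Γ, ∀ x : ↥S, (x : Ω) ∈ E → ((ap γ x : ↥S) : Ω) = av α (x : Ω) := by
  classical
  have hES : E < S := lt_of_essential hS hF hE
  haveI := finite_of_le hES.le
  haveI := mulAut_finite_of_le hES.le
  obtain ⟨hfc, hfa⟩ := fc_fa_of_fn hS hF hE.2.1
  have hrec := receptive_of_fc hS hF hfc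
  obtain ⟨-, hsyl⟩ := fa_iff.1 hfa
  obtain ⟨E₀, hE₀⟩ : ∃ E₀, E₀ = E.subgroupOf S := ⟨_, rfl⟩
  have mem₀ : ∀ x : ↥S, x ∈ E₀ ↔ (x : Ω) ∈ E := fun x => by rw [hE₀]; exact Subgroup.mem_subgroupOf
  obtain ⟨e, he⟩ : ∃ e : E₀ ≃* E, ∀ x : E₀, (e x : Ω) = ((x : ↥S) : Ω) := by
    subst hE₀
    exact ⟨Subgroup.subgroupOfEquivOfLe hES.le, fun x => rfl⟩
  obtain ⟨c, hcd⟩ : ∃ c : MulAut E →* MulAut E₀, ∀ α, c α = e.trans ((α : E ≃* E).trans e.symm) :=
    ⟨(MulAut.congr e.symm).toMonoidHom, fun α => rfl⟩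
  have hval : ∀ (α : MulAut E) (x : ↥S), (x : Ω) ∈ E → ((ap (c α) x : ↥S) : Ω) = av α (x : Ω) := by
    intro α x hx
    have h1 : e ⟨x, (mem₀ x).2 hx⟩ = ⟨(x : Ω), hx⟩ := Subtype.ext (he _)
    rw [ap_apply _ ((mem₀ x).2 hx), av_apply α hx, ← he, hcd]
    show (e (e.symm (α (e ⟨x, (mem₀ x).2 hx⟩))) : Ω) = _
    rw [e.apply_symm_apply, h1]
  have hcinj : Function.Injective c := fun α β hab => aut_ext fun x hx => by
    rw [← hval α ⟨x, hES.le hx⟩ hx, hab, hval β ⟨x, hES.le hx⟩ hx]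
  have hcj : (autInducedBy S E).map c = cjAut E₀ := by
    ext γ
    constructor
    · rintro ⟨α, hα, rfl⟩
      obtain ⟨g, hg, hgx⟩ := mem_autInducedBy.1 hα
      exact ⟨⟨g, hg⟩, fun x hx => Subtype.ext ((hval α x ((mem₀ x).1 hx)).trans (hgx _ ((mem₀ x).1 hx)))⟩
    · rintro ⟨g, hg⟩
      obtain ⟨α, hαd⟩ : ∃ α : MulAut E, α = e.symm.trans ((γ : E₀ ≃* E₀).trans e) := ⟨_, rfl⟩
      have hα : c α = γ := MulEquiv.ext fun y => by
        rw [hcd, hαd]
        show e.symm (e (γ (e.symm (e y)))) = γ y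
        rw [e.symm_apply_apply, e.symm_apply_apply]
      refine ⟨α, mem_autInducedBy.2 ⟨g, g.2, fun x hx => ?_⟩, hα⟩
      rw [← hval α ⟨x, hES.le hx⟩ hx, hα, hg _ ((mem₀ _).2 hx)]
      rfl
  refine hE₀ ▸ ⟨(F.autGroup E).map c, ⟨?_, ?_, ?_, ⟨?_, ?_, ?_⟩, ?_, ?_⟩,
    fun α hα => ⟨c α, ⟨α, hα, rfl⟩, hval α⟩⟩
  · refine ⟨fun n hn' g => (mem₀ _).2 ?_⟩
    exact conj_mem_of_normalizer (hn g.2) ((mem₀ n).1 hn')
  · rw [hE₀]; exact index_of_normal hS hF hp3 hsr hE hn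
  · intro x hx
    refine (mem₀ x).2 (hE.1.2 E (isConj_refl hES.le) (mem_centralizerIn.2 ⟨x.2, fun y hy => ?_⟩))
    exact (congrArg Subtype.val (hx ⟨y, hES.le hy⟩ ((mem₀ _).2 hy))).symm
  · rw [← hcj]; exact Subgroup.map_mono hsyl.le
  · rw [← hcj]; exact hsyl.isPGroup.map c
  · rw [← hcj, Subgroup.relIndex_map_map_of_injective _ _ hcinj]; exact hsyl.not_dvd
  · intro K hK hKn hKp k hk
    obtain ⟨α, hα, rfl⟩ := hK hk
    obtain ⟨N, hN⟩ : ∃ N, N = (K.comap c).subgroupOf (F.autGroup E) := ⟨_, rfl⟩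
    haveI : N.Normal := ⟨fun κ hκ δ => by
      rw [hN] at hκ ⊢
      show c ((δ : MulAut E) * κ * (δ : MulAut E)⁻¹) ∈ K
      rw [map_mul, map_mul, map_inv]
      exact hKn _ ⟨δ, δ.2, rfl⟩ _ hκ⟩
    have hNp : IsPGroup p N := hN ▸ (hKp.comap_of_injective c hcinj).comap_subtype
    have hin : α ∈ Inn E := by
      rw [← (radical_of_essential hS hF hE).2]
      exact ⟨⟨α, hα⟩, le_pCore hNp (hN ▸ hk), rfl⟩
    obtain ⟨g, hg, hgx⟩ := mem_Inn.1 hin
    exact ⟨⟨g, hES.le hg⟩, (mem₀ _).2 hg, fun x hx =>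
      Subtype.ext ((hval α x ((mem₀ x).1 hx)).trans (hgx _ ((mem₀ x).1 hx)))⟩
  · rintro _ ⟨α, hα, rfl⟩ hnorm
    have hNf : S ≤ Nf S E (av α) := by
      intro x hx
      obtain ⟨β, hβ, hβS⟩ := exists_aut_conj (P := E) (hn hx)
      have hβ' : β ∈ autInducedBy S E := hβS S hx
      have h1 : α * β * α⁻¹ ∈ autInducedBy S E := by
        have h := (Subgroup.mem_normalizer_iff.1 hnorm (c β)).1 (hcj.le ⟨β, hβ', rfl⟩)
        rw [← map_inv, ← map_mul, ← map_mul, ← hcj] at h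
        exact (Subgroup.mem_map_iff_mem hcinj).1 h
      obtain ⟨g, hg, hgx⟩ := mem_autInducedBy.1 h1
      refine ⟨hx, hn hx, g, hg, fun y hy => ?_⟩
      have h2 := hgx _ (av_mem α hy)
      rw [av_mul _ _ (av_mem α hy), av_inv_av α hy, av_mul _ _ hy, hβ y hy] at h2
      exact h2
    obtain ⟨g', hg', hg'α⟩ := (receptive_iff.1 hrec).2 E _ (map_of_mem_autGroup hES.le hα) (im_av α)
    have hgP := hg'.restrict hNf
    have hgi : im S g' = S := Subgroup.eq_of_le_of_card_ge hgP.im_le hgP.card_im.ge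
    obtain ⟨t, ht, htg⟩ := exists_aut hgP hgi
    refine ⟨t, ht, fun x hx => Subtype.ext ?_⟩
    rw [hval α x ((mem₀ x).1 hx), ← hg'α _ ((mem₀ x).1 hx), ← htg _ x.2, av_coe]

/-- If every essential subgroup is normal in `S`, the hypotheses of the main argument hold. -/
theorem ctx_of_allNormal (hS : IsPGroup p S) (hF : F.IsSaturated p) (hp2 : p ≠ 2)
    (hsr : Cfsg.SectionalPRankLE p 3 ↥S) (hsr2 : ¬ Cfsg.SectionalPRankLE p 2 ↥S) (hO : F.core = ⊥)
    (hall : ∀ E : Subgroup Ω, F.IsEssential p E → S ≤ Subgroup.normalizer (E : Set Ω)) :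
    Ctx p (F.autGroup S) := by
  have hp3 : 3 ≤ p := lt_of_le_of_ne hp.out.two_le (Ne.symm hp2)
  haveI := mulAut_finite_of_le (le_refl S)
  refine ⟨hS, hp2, hsr, hsr2, fun Q hA hmem => ?_, RankThreeNormal.exists_central_exp hS hF, ?_⟩
  · refine RankThreeNormal.eq_bot_of_invariant hS hF hO Q (fun E hE => ?_) hA
    obtain ⟨Γ, hΓ, hmap⟩ := exists_member hS hF hp3 hsr hE (hall E hE)
    obtain ⟨hle, hinv⟩ := hmem _ Γ hΓ
    refine ⟨hle, fun f ⟨α, hα, hf⟩ _ x hx => ?_⟩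
    obtain ⟨γ, hγ, hγx⟩ := hmap α hα
    have hxE : (x : Ω) ∈ E := Subgroup.mem_subgroupOf.1 (hle hx)
    rw [show f x = ap γ x from Subtype.ext ((hf x hxE).trans (hγx x hxE).symm)]
    exact hinv γ hγ x hx
  · have hsyl := (fa_iff.1 (fc_fa_of_fn hS hF (fn_self (F := F))).2).2
    have hinn : autInducedBy S S = Inn S := by
      ext α; rw [mem_autInducedBy, mem_Inn]
    rwa [hinn] at hsyl

end Cfsg.Agent.Local.FS.AllNormal
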