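import Cfsg.Agent.Lib.Local.FS.RankThreeAllNormal.TwoB

/-!
The conclusion: two members of the symplectic shape.
-/

set_option autoImplicit false
set_option linter.style.haveILetI false
set_option linter.unusedSectionVars false

namespace Cfsg.Agent.Local.FS.AllNormal

universe u

variable {G : Type u} [Group G] [Finite G] {p : ℕ} [hp : Fact p.Prime] {A : Subgroup (MulAut G)}

/-- There are two members of the symplectic shape. -/
theorem Ctx.exists_shape (C : Ctx p A) :
    ∃ (E₁ E₂ : Subgroup G) (Γ₁ : Subgroup (MulAut E₁)) (Γ₂ : Subgroup (MulAut E₂)),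
      Member p A E₁ Γ₁ ∧ ¬ Inv Γ₁ (zG p G) ∧ Member p A E₂ Γ₂ ∧ Shape p E₁ E₂ := by
  by_cases hc : Contained p A
  · exact (C.not_contained hc).elim
  unfold Contained at hc
  push Not at hc
  obtain ⟨E, E', Γ, Γ', h, hm, h', hle⟩ := hc
  by_cases hm' : Inv Γ' (zG p G)
  · exact ⟨E, E', Γ, Γ', h, hm, h', C.shape_of_not_le h h' hm hm' hle⟩
  · exact (C.no_pair h h' hm hm' hle).elim

/-- The group is isomorphic to a Sylow subgroup of `Sp₄(p)`. -/
theorem Ctx.exists_iso (C : Ctx p A) :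
    ∃ P : Sylow p ↥(Matrix.symplecticGroup (Fin 2) (ZMod p)),
      Nonempty (G ≃* ↥(P : Subgroup ↥(Matrix.symplecticGroup (Fin 2) (ZMod p)))) := by
  obtain ⟨E₁, E₂, Γ₁, Γ₂, -, -, -, hs⟩ := C.exists_shape
  obtain ⟨x, v, a, z, hrel, hgen⟩ := hs.rel
  exact exists_iso_sylow hrel hgen hs.card C.ne_two

end Cfsg.Agent.Local.FS.AllNormal
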