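import Cfsg.Agent.Lib.Local.FS.RankThreeAllNormal.Series

/-!
Inversion of an invariant section of order `p²` with moved fixed line, and the consequence that no
element acts regularly unipotently on `E / Φ(E)` beside an invariant hyperplane.
-/

set_option autoImplicit false
set_option linter.style.haveILetI false
set_option linter.unusedSectionVars false

open scoped commutatorElement

namespace Cfsg.Agent.Local.FS.AllNormal

universe u

variable {G : Type u} [Group G] [Finite G] {E : Subgroup G} {p : ℕ} [hp : Fact p.Prime]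

/-- In a section of order at most `p` the `p`-th powers vanish. -/
theorem pow_mem_of_card (hG : IsPGroup p G) {X Y : Subgroup G} (hY : Y.Normal) (hYX : Y ≤ X)
    (hc : Nat.card X ≤ Nat.card Y * p) {x : G} (hx : x ∈ X) : x ^ p ∈ Y := by
  haveI : (Y.subgroupOf X).Normal := hY.subgroupOf X
  have h1 := (Y.subgroupOf X).pow_index_mem (⟨x, hx⟩ : X)
  have h2 : Nat.card Y * (Y.subgroupOf X).index = Nat.card X := by
    rw [← (Y.subgroupOf X).card_mul_index, Nat.card_congr (Subgroup.subgroupOfEquivOfLe hYX).toEquiv]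
  obtain ⟨k, hk⟩ := (hG.to_subgroup X).index (Y.subgroupOf X)
  rw [← h2] at hc
  have hk1 : k ≤ 1 := (Nat.pow_le_pow_iff_right hp.out.one_lt).1
    (by rw [pow_one, ← hk]; exact Nat.le_of_mul_le_mul_left hc Nat.card_pos)
  rw [hk] at h1
  have h3 : x ^ p ^ k ∈ Y := h1
  rcases Nat.le_one_iff_eq_zero_or_eq_one.1 hk1 with rfl | rfl
  · rw [pow_zero, pow_one] at h3; exact Y.pow_mem h3 p
  · rwa [pow_one] at h3

/-- A proper subgroup of index at most `p` is maximal. -/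
theorem sup_zpowers_eq (hG : IsPGroup p G) {X L : Subgroup G} (hLX : L ≤ X)
    (hc : Nat.card X ≤ Nat.card L * p) {b : G} (hb : b ∈ X) (hbL : b ∉ L) :
    L ⊔ Subgroup.zpowers b = X := by
  have hle : L ⊔ Subgroup.zpowers b ≤ X := sup_le hLX (Subgroup.zpowers_le.2 hb)
  have hlt : L < L ⊔ Subgroup.zpowers b := lt_of_le_of_ne le_sup_left fun e =>
    hbL (e.ge (Subgroup.mem_sup_right (Subgroup.mem_zpowers b)))
  exact Subgroup.eq_of_le_of_card_ge hle (hc.trans (RankThreeNormal.mul_card_le_of_lt hG hlt))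

namespace Member

variable {A : Subgroup (MulAut G)} {Γ : Subgroup (MulAut E)} (h : Member p A E Γ) (hG : IsPGroup p G)
include h hG

/-- An element generated by `p`-elements, normalising the Sylow subgroup, inverts the section. -/
theorem exists_neg {X Y L : Subgroup G} (hX : Inv Γ X) (hY : Inv Γ Y) (hLn : L.Normal) (hYL : Y ≤ L)
    (hLX : L ≤ X) (hXE : X ≤ E) (hcX : Nat.card X ≤ Nat.card L * p) (hcL : Nat.card L ≤ Nat.card Y * p)
    (hLinv : ¬ Inv Γ L) (hmov : ∃ g : G, ∃ x ∈ X, ⁅g, x⁆ ∉ Y) :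
    ∃ τ ∈ pel p Γ, τ ∈ Subgroup.normalizer (cjAut E : Set (MulAut E)) ∧
      ∀ x ∈ X, x * ap τ x ∈ Y := by
  have hYE : Y ≤ E := hYL.trans (hLX.trans hXE)
  have hYn := h.normal_of_inv hY hYE
  have hXn := h.normal_of_inv hX hXE
  obtain ⟨π, hπ⟩ : ∃ π, π = QuotientGroup.mk' Y := ⟨_, rfl⟩
  have hπ1 : ∀ {x}, π x = 1 ↔ x ∈ Y := fun {x} => by rw [hπ]; exact mk_eq_one
  have congr : ∀ {γ : MulAut E}, γ ∈ Γ → ∀ {x x' : G}, x ∈ E → x' ∈ E → π x = π x' →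
      π (ap γ x) = π (ap γ x') := fun {γ} hγ {x x'} hx hx' e => by
    rw [hπ] at e ⊢; exact ap_congr (hY γ hγ) hx hx' e
  have hLc : ∀ (g : G), ∀ l ∈ L, π g * π l = π l * π g := fun g l hl => by
    rw [← commutatorElement_eq_one_iff_mul_comm, ← map_commutatorElement, hπ1]
    exact central_step hG hLn hYn hYL hcL g hl
  obtain ⟨g, hg, l, hl, hgl⟩ : ∃ g ∈ Γ, ∃ l ∈ L, ap g l ∉ L := by
    by_contra hno
    push Not at hno
    exact hLinv hno
  have hlY : l ∉ Y := fun e => hgl (hYL (hY g hg l e))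
  obtain ⟨b, hb⟩ : ∃ b, b = ap g l := ⟨_, rfl⟩
  rw [← hb] at hgl
  have hbX : b ∈ X := hb ▸ hX g hg l (hLX hl)
  have hcent : ∀ (x₀ c : G), c ∈ X → c ∉ L → π x₀ * π c = π c * π x₀ → ∀ x ∈ X, ⁅x₀, x⁆ ∈ Y := by
    intro x₀ c hc hcL' hcc x hx
    have hsub : X ≤ (Subgroup.centralizer ({π x₀} : Set _)).comap π := by
      rw [← sup_zpowers_eq hG hLX hcX hc hcL', sup_le_iff, Subgroup.zpowers_le]
      exact ⟨fun w hw => Subgroup.mem_centralizer_singleton_iff.2 (hLc x₀ w hw).symm,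
        Subgroup.mem_centralizer_singleton_iff.2 hcc.symm⟩
    rw [← hπ1, map_commutatorElement, commutatorElement_eq_one_iff_mul_comm]
    exact (Subgroup.mem_centralizer_singleton_iff.1 (hsub hx)).symm
  obtain ⟨x₀, x₁, hx₁, hmov⟩ := hmov
  obtain ⟨a, ha⟩ : ∃ a, a = ⁅x₀, b⁆ := ⟨_, rfl⟩
  have haL : a ∈ L := ha ▸ central_step hG hXn hLn hLX hcX x₀ hbX
  have haY : a ∉ Y := fun e => hmov (hcent x₀ b hbX hgl (by
    rw [← commutatorElement_eq_one_iff_mul_comm, ← map_commutatorElement, hπ1, ← ha]; exact e) x₁ hx₁)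
  have hbp : b ^ p ∈ Y := by
    rw [hb, ← ap_pow g (hXE (hLX hl))]
    exact hY g hg _ (pow_mem_of_card hG hYn hYL hcL hl)
  have hab : Commute (π a) (π b) := (hLc b a haL).symm
  have hLY : ∀ c ∈ L, c ∉ Y → ∀ x ∈ L, ∃ i : ℕ, π x = π c ^ i := by
    intro c hc hcY x hx
    rw [← sup_zpowers_eq hG hYL hcL hc hcY] at hx
    haveI := hYn
    obtain ⟨y, hy, w, hw, rfl⟩ := Subgroup.mem_sup_of_normal_left.1 hx
    obtain ⟨i, rfl⟩ := mem_powers_iff_mem_zpowers.2 hw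
    exact ⟨i, by rw [map_mul, hπ1.2 hy, one_mul, map_pow]⟩
  -- the transvection
  obtain ⟨u, hu, hux⟩ := h.conj_mem x₀
  have hup : u ∈ pel p Γ := h.cjAut_le_pel hG ⟨x₀, hux⟩
  have hua : π (ap u a) = π a := by
    rw [hux a (hXE (hLX haL)), map_mul, map_mul, map_inv, hLc x₀ a haL, mul_inv_cancel_right]
  have hub : π (ap u b) = π a * π b := by
    rw [hux b (hXE hbX), ha, ← map_mul, commutatorElement_def]; congr 1; group
  -- the opposite one
  obtain ⟨u', hu'⟩ : ∃ u', u' = g * u * g⁻¹ := ⟨_, rfl⟩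
  have hu'Γ : u' ∈ Γ := hu' ▸ Γ.mul_mem (Γ.mul_mem hg hu) (Γ.inv_mem hg)
  have hu'b : π (ap u' b) = π b := by
    have e1 : π (ap u l) = π l := by
      rw [hux l (hXE (hLX hl)), map_mul, map_mul, map_inv, hLc x₀ l hl, mul_inv_cancel_right]
    rw [hu', ap_comp (hXE hbX), ap_comp (ap_mem _ (hXE hbX)), hb, ap_inv_ap g (hXE (hLX hl))]
    exact congr hg (ap_mem _ (hXE (hLX hl))) (hXE (hLX hl)) e1
  obtain ⟨a', ha'⟩ : ∃ a', a' = ap g⁻¹ a := ⟨_, rfl⟩
  have ha'X : a' ∈ X := ha' ▸ hX _ (Γ.inv_mem hg) a (hLX haL)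
  obtain ⟨k, hk⟩ : ∃ k, k = ⁅x₀, a'⁆ := ⟨_, rfl⟩
  have hkL : k ∈ L := hk ▸ central_step hG hXn hLn hLX hcX x₀ ha'X
  obtain ⟨n, hn⟩ : ∃ n : ℕ, π (ap g k) = π b ^ n := by
    obtain ⟨i, hi⟩ := hLY l hl hlY k hkL
    refine ⟨i, ?_⟩
    rw [hb, ← map_pow, ← ap_pow g (hXE (hLX hl))]
    exact congr hg (hXE (hLX hkL)) (E.pow_mem (hXE (hLX hl)) i) (by rw [hi, map_pow])
  have hu'a : π (ap u' a) = π b ^ n * π a := by
    rw [hu', ap_comp (hXE (hLX haL)), ap_comp (ap_mem _ (hXE (hLX haL))), ← ha', hux a' (hXE ha'X),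
      show x₀ * a' * x₀⁻¹ = k * a' by rw [hk, commutatorElement_def]; group,
      ap_mul g (hXE (hLX hkL)) (hXE ha'X), map_mul, hn, ha', ap_ap_inv g (hXE (hLX haL))]
  have hne : π b ^ n ≠ 1 := by
    intro e
    rw [← hn, hπ1] at e
    have hkY : k ∈ Y := by
      have := hY g⁻¹ (Γ.inv_mem hg) _ e
      rwa [ap_inv_ap g (hXE (hLX hkL))] at this
    by_cases ha'L : a' ∈ L
    · obtain ⟨i, hi⟩ := hLY l hl hlY a' ha'L
      have h1 : π a = π b ^ i := by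
        rw [hb, ← map_pow, ← ap_pow g (hXE (hLX hl)), ← ap_ap_inv g (hXE (hLX haL)), ← ha']
        exact congr hg (hXE ha'X) (E.pow_mem (hXE (hLX hl)) i) (by rw [hi, map_pow])
      have h2 : b ^ i ∈ L := by
        have h3 : (b ^ i)⁻¹ * a ∈ Y := hπ1.1 (by rw [map_mul, map_inv, h1, map_pow, inv_mul_cancel])
        have h4 := L.mul_mem haL (L.inv_mem (hYL h3))
        rwa [mul_inv_rev, inv_inv, mul_inv_cancel_left] at h4
      rcases Nat.coprime_or_dvd_of_prime hp.out i with hco | hdvd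
      · have h1' : b ^ Nat.gcd p i ∈ L := by
          have hp' : b ^ p ∈ L := hYL hbp
          obtain ⟨s, t, hst⟩ : ∃ s t : ℤ, (Nat.gcd p i : ℤ) = p * s + i * t :=
            ⟨_, _, Nat.gcd_eq_gcd_ab p i⟩
          rw [← zpow_natCast b, hst, zpow_add, zpow_mul, zpow_mul, zpow_natCast, zpow_natCast]
          exact L.mul_mem (L.zpow_mem hp' s) (L.zpow_mem h2 t)
        rw [hco.gcd_eq_one, pow_one] at h1'
        exact hgl h1'
      · obtain ⟨j, rfl⟩ := hdvd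
        exact haY (hπ1.1 (by rw [h1, pow_mul, ← map_pow, hπ1.2 hbp, one_pow]))
    · exact hmov (hcent x₀ a' ha'X ha'L (by
        rw [← commutatorElement_eq_one_iff_mul_comm, ← map_commutatorElement, hπ1, ← hk]; exact hkY) x₁ hx₁)
  have hbo : orderOf (π b) = p := orderOf_eq_prime (by rw [← map_pow, hπ1.2 hbp])
    (fun e => hne (by rw [e, one_pow]))
  obtain ⟨m, hm⟩ : ∃ m : ℕ, (π b ^ n) ^ m = (π b)⁻¹ := by
    have hgen : Subgroup.zpowers (π b ^ n) = Subgroup.zpowers (π b) := by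
      refine Subgroup.eq_of_le_of_card_ge (Subgroup.zpowers_le.2 ((Subgroup.zpowers _).pow_mem
        (Subgroup.mem_zpowers _) n)) ?_
      rw [Nat.card_zpowers, Nat.card_zpowers, hbo, orderOf_eq_prime (p := p) (by rw [← pow_mul, mul_comm, pow_mul, ← hbo, pow_orderOf_eq_one, one_pow]) hne]
    exact mem_powers_iff_mem_zpowers.2 (hgen.ge ((Subgroup.zpowers _).inv_mem (Subgroup.mem_zpowers _)))
  have hu'p : u' ∈ pel p Γ := hu' ▸ pel_conj hg hup
  have hz : ∀ j : ℕ, π (ap (u' ^ j) b) = π b ∧ π (ap (u' ^ j) a) = (π b ^ n) ^ j * π a := by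
    intro j
    induction j with
    | zero => simp [ap_id (hXE hbX), ap_id (hXE (hLX haL))]
    | succ j ih =>
      refine ⟨?_, ?_⟩
      · rw [pow_succ', ap_comp (hXE hbX)]
        exact (congr hu'Γ (ap_mem _ (hXE hbX)) (hXE hbX) ih.1).trans hu'b
      · have hbE := E.pow_mem (hXE hbX) (n * j)
        rw [pow_succ' u', ap_comp (hXE (hLX haL)),
          congr hu'Γ (ap_mem _ (hXE (hLX haL))) (E.mul_mem hbE (hXE (hLX haL)))
            (by rw [ih.2, map_mul, map_pow, pow_mul]),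
          ap_mul u' hbE (hXE (hLX haL)), map_mul, ap_pow u' (hXE hbX), map_pow, hu'b, hu'a,
          ← mul_assoc, ← pow_add, ← pow_mul, Nat.mul_succ]
  obtain ⟨z, hzd⟩ : ∃ z, z = u' ^ m := ⟨_, rfl⟩
  obtain ⟨hzb, hza⟩ := hz m
  rw [← hzd, hm] at hza
  rw [← hzd] at hzb
  have hzp : z ∈ pel p Γ := hzd ▸ Subgroup.pow_mem _ hu'p m
  obtain ⟨w, hw⟩ : ∃ w, w = u * z * u := ⟨_, rfl⟩
  have hzΓ := pel_le Γ hzp
  have hwp : w ∈ pel p Γ := hw ▸ mul_mem (mul_mem hup hzp) hup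
  have haE := hXE (hLX haL)
  have hbE := hXE hbX
  have hwa : π (ap w a) = (π b)⁻¹ := by
    rw [hw, ap_comp haE, ap_comp (ap_mem _ haE),
      congr hu (ap_mem _ (ap_mem _ haE)) (E.mul_mem (E.inv_mem hbE) haE)
        ((congr hzΓ (ap_mem _ haE) haE hua).trans (by rw [hza, map_mul, map_inv])),
      ap_mul u (E.inv_mem hbE) haE, map_mul, ap_inv u hbE, map_inv, hua, hub, mul_inv_rev,
      mul_assoc, inv_mul_cancel, mul_one]
  have hwb : π (ap w b) = π a := by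
    have e1 : π (ap z (ap u b)) = π a := by
      rw [congr hzΓ (ap_mem _ hbE) (E.mul_mem haE hbE) (by rw [hub, map_mul]), ap_mul z haE hbE, map_mul,
        hza, hzb, mul_assoc, hab.eq, inv_mul_cancel_left]
    rw [hw, ap_comp hbE, ap_comp (ap_mem _ hbE), congr hu (ap_mem _ (ap_mem _ hbE)) haE e1, hua]
  have hwΓ := pel_le Γ hwp
  have hw2a : π (ap (w * w) a) = (π a)⁻¹ := by
    rw [ap_comp haE, congr hwΓ (ap_mem _ haE) (E.inv_mem hbE) (by rw [hwa, map_inv]),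
      ap_inv w hbE, map_inv, hwb]
  have hw2b : π (ap (w * w) b) = (π b)⁻¹ := by
    rw [ap_comp hbE, congr hwΓ (ap_mem _ hbE) haE hwb, hwa]
  have hgenX : ∀ x ∈ X, ∃ i j : ℕ, π x = π a ^ i * π b ^ j := by
    intro x hx
    rw [← sup_zpowers_eq hG hLX hcX hbX hgl] at hx
    haveI := hLn
    obtain ⟨c, hc, d, hd, rfl⟩ := Subgroup.mem_sup_of_normal_left.1 hx
    obtain ⟨j, rfl⟩ := mem_powers_iff_mem_zpowers.2 hd
    obtain ⟨i, hi⟩ := hLY a haL haY c hc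
    exact ⟨i, j, by rw [map_mul, map_pow, hi]⟩
  have hww := mul_mem hwp hwp
  have hneg : ∀ x ∈ X, π (ap (w * w) x) = (π x)⁻¹ := by
    intro x hx
    obtain ⟨i, j, hij⟩ := hgenX x hx
    rw [congr (pel_le Γ hww) (hXE hx) (E.mul_mem (E.pow_mem haE i) (E.pow_mem hbE j))
      (by rw [hij, map_mul, map_pow, map_pow]), ap_mul _ (E.pow_mem haE i) (E.pow_mem hbE j), map_mul,
      ap_pow _ haE, ap_pow _ hbE, map_pow, map_pow, hw2a, hw2b, hij, inv_pow, inv_pow, mul_inv_rev]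
    exact ((hab.pow_pow i j).inv_inv).eq
  -- moving it into the normaliser of the Sylow subgroup
  obtain ⟨τ, hτd⟩ : ∃ τ, τ = w * w := ⟨_, rfl⟩
  rw [← hτd] at hww hneg
  obtain ⟨H, hH⟩ : ∃ H : Subgroup (MulAut E), ∀ α, α ∈ H ↔ α ∈ pel p Γ ∧
      ∃ t ∈ cjAut E, ∀ x ∈ X, π (ap α x) = π (ap t x) :=
    ⟨{ carrier := {α | α ∈ pel p Γ ∧ ∃ t ∈ cjAut E, ∀ x ∈ X, π (ap α x) = π (ap t x)}
       one_mem' := ⟨one_mem _, 1, one_mem _, fun _ _ => rfl⟩
       mul_mem' := by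
        rintro α β ⟨hα, t, ht, hαt⟩ ⟨hβ, s, hs, hβs⟩
        refine ⟨mul_mem hα hβ, t * s, mul_mem ht hs, fun x hx => ?_⟩
        rw [ap_comp (hXE hx), ap_comp (hXE hx), hαt _ (hX β (pel_le Γ hβ) x hx)]
        exact congr (h.syl.le ht) (ap_mem _ (hXE hx)) (ap_mem _ (hXE hx)) (hβs x hx)
       inv_mem' := by
        rintro α ⟨hα, t, ht, hαt⟩
        refine ⟨inv_mem hα, t⁻¹, inv_mem ht, fun x hx => ?_⟩
        have hy := hX t⁻¹ (Γ.inv_mem (h.syl.le ht)) x hx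
        have h1 := hαt _ hy
        rw [ap_ap_inv t (hXE hx)] at h1
        have h2 := congr (Γ.inv_mem (pel_le Γ hα)) (ap_mem _ (ap_mem _ (hXE hx))) (hXE hx) h1
        rw [ap_inv_ap α (ap_mem _ (hXE hx))] at h2
        exact h2.symm }, fun _ => Iff.rfl⟩
  have hτΓ := pel_le Γ hww
  have hTH : cjAut E ≤ H := fun t ht => (hH t).2 ⟨h.cjAut_le_pel hG ht, t, ht, fun _ _ => rfl⟩
  have hτT : Fusion.cj (cjAut E) τ ≤ H := by
    rintro _ ⟨t, ht, rfl⟩
    refine (hH _).2 ⟨pel_conj hτΓ (h.cjAut_le_pel hG ht), t, ht, fun x hx => ?_⟩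
    show π (ap (τ * t * τ⁻¹) x) = π (ap t x)
    have hxi := hX τ⁻¹ (Γ.inv_mem hτΓ) x hx
    have e1 : π (ap τ⁻¹ x) = (π x)⁻¹ := by
      have := hneg _ hxi
      rw [ap_ap_inv τ (hXE hx)] at this
      rw [this, inv_inv]
    have htx := hX t (h.syl.le ht) x hx
    rw [ap_comp (hXE hx), ap_comp (ap_mem _ (hXE hx)),
      congr hτΓ (ap_mem _ (ap_mem _ (hXE hx))) (E.inv_mem (ap_mem _ (hXE hx)))
        ((congr (h.syl.le ht) (hXE hxi) (E.inv_mem (hXE hx)) (by rw [e1, map_inv])).trans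
          (by rw [ap_inv t (hXE hx)])),
      ap_inv τ (hXE htx), map_inv, hneg _ htx, inv_inv]
  obtain ⟨χ, hχ, hle⟩ := (h.syl.mono hTH fun α hα => pel_le Γ ((hH α).1 hα).1).conj_le
    (Fusion.isPGroup_cj h.syl.isPGroup τ) hτT
  obtain ⟨hχp, t, ht, hχt⟩ := (hH χ).1 hχ
  rw [Fusion.cj_cj] at hle
  refine ⟨t⁻¹ * (χ * τ), mul_mem (inv_mem (h.cjAut_le_pel hG ht)) (mul_mem hχp hww),
    mul_mem (Subgroup.le_normalizer (inv_mem ht)) (Fusion.mem_normalizer_of_cj_le hle), fun x hx => ?_⟩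
  have h1 := hX τ hτΓ x hx
  rw [← hπ1, map_mul, ap_comp (hXE hx), ap_comp (hXE hx),
    congr (Γ.inv_mem (h.syl.le ht)) (ap_mem _ (hXE h1)) (ap_mem _ (hXE h1)) (hχt _ h1),
    ap_inv_ap t (hXE h1), hneg x hx, mul_inv_cancel]

/-- No element is regularly unipotent on `E / Φ(E)` beside an invariant hyperplane. -/
theorem no_regular (hp2 : p ≠ 2) {X L : Subgroup G} (hX : Inv Γ X) (hXE : X ≤ E) (hLn : L.Normal)
    (hΦL : phi E ≤ L) (hLX : L ≤ X) (hcE : Nat.card E ≤ Nat.card X * p)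
    (hcX : Nat.card X ≤ Nat.card L * p) (hcL : Nat.card L ≤ Nat.card (phi E) * p)
    {g e : G} (he : e ∈ E) (hge : ⁅g, e⁆ ∉ L) (hmov : ∃ x ∈ X, ⁅g, x⁆ ∉ phi E) : False := by
  have hΦn := h.normal_of_inv (inv_phi Γ) (phi_le E)
  have hXn := h.normal_of_inv hX hXE
  have hEX : ∀ (x : G), ∀ e' ∈ E, ⁅x, e'⁆ ∈ X := fun x e' he' =>
    central_step hG h.normal hXn hXE hcE x he'
  by_cases hLi : Inv Γ L
  · exact h.not_series hG hX hLi hXE hLX hΦL (fun hgE => hge (hΦL (comm_mem_phi hG hgE he)))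
      (hEX g) (fun x hx => central_step hG hXn hLn hLX hcX g hx)
      (fun x hx => central_step hG hLn hΦn hΦL hcL g hx)
  obtain ⟨τ, hτp, -, hτ⟩ := h.exists_neg hG hX (inv_phi Γ) hLn hΦL hLX hXE hcX hcL hLi ⟨g, hmov⟩
  obtain ⟨π, hπ⟩ : ∃ π, π = QuotientGroup.mk' (phi E) := ⟨_, rfl⟩
  have hπ1 : ∀ {x}, π x = 1 ↔ x ∈ phi E := fun {x} => by rw [hπ]; exact mk_eq_one
  have congr : ∀ {γ : MulAut E}, γ ∈ Γ → ∀ {x x' : G}, x ∈ E → x' ∈ E → π x = π x' →
      π (ap γ x) = π (ap γ x') := fun {γ} hγ {x x'} hx hx' e' => by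
    rw [hπ] at e' ⊢; exact ap_congr (inv_phi Γ γ hγ) hx hx' e'
  have hcomm : ∀ x ∈ E, ∀ y ∈ E, Commute (π x) (π y) := fun x hx y hy => by
    show _ = _
    rw [← commutatorElement_eq_one_iff_mul_comm, ← map_commutatorElement, hπ1]
    exact comm_mem_phi hG hx hy
  have hneg : ∀ x ∈ X, π (ap τ x) = (π x)⁻¹ := fun x hx =>
    eq_inv_of_mul_eq_one_right (by rw [← map_mul, hπ1]; exact hτ x hx)
  have hτΓ := pel_le Γ hτp
  obtain ⟨γ, hγ, hγg⟩ := h.conj_mem g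
  have hγp : γ ∈ pel p Γ := h.cjAut_le_pel hG ⟨g, hγg⟩
  obtain ⟨κ, hκ⟩ : ∃ κ, κ = γ * τ * γ⁻¹ * τ⁻¹ := ⟨_, rfl⟩
  have hκp : κ ∈ pel p Γ := hκ ▸ mul_mem (mul_mem (mul_mem hγp hτp) (inv_mem hγp)) (inv_mem hτp)
  have hκX : ∀ x ∈ X, x⁻¹ * ap κ x ∈ phi E := by
    intro x hx
    have h1 := hX τ⁻¹ (Γ.inv_mem hτΓ) x hx
    have h2 := hX γ⁻¹ (Γ.inv_mem hγ) _ h1
    have e1 : π (ap τ⁻¹ x) = (π x)⁻¹ := by
      have := hneg _ h1
      rw [ap_ap_inv τ (hXE hx)] at this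
      rw [this, inv_inv]
    have e2 : π (ap κ x) = π x := by
      rw [hκ, ap_comp (hXE hx), ap_comp (ap_mem _ (hXE hx)), ap_comp (hXE h2),
        congr hγ (ap_mem _ (hXE h2)) (E.inv_mem (hXE h2)) (by rw [hneg _ h2, map_inv]),
        ap_inv γ (hXE h2), map_inv, ap_ap_inv γ (hXE h1), e1, inv_inv]
    rw [hπ] at e2
    exact QuotientGroup.eq.1 e2.symm
  obtain ⟨w, hw, hκw⟩ := h.inner_of_series hG hX (inv_phi Γ) hXE (hΦL.trans hLX) le_rfl (pel_le Γ hκp)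
    (h.pel_fix hG (Inv.self Γ) hX hXE le_rfl hcE hκp) hκX
    (fun y hy => (phi E).mul_mem ((phi E).inv_mem hy) (inv_phi Γ κ (pel_le Γ hκp) y hy))
  have hcom : ∀ x ∈ E, π (ap γ (ap τ x)) = π (ap τ (ap γ x)) := by
    intro x hx
    have hy := ap_mem τ (ap_mem γ hx)
    have h1 : ap κ (ap τ (ap γ x)) = ap γ (ap τ x) := by
      rw [hκ, ap_comp hy, ap_inv_ap τ (ap_mem γ hx), ap_comp (ap_mem γ hx), ap_inv_ap γ hx, ap_comp hx]
    rw [← h1, hκw _ hy, map_mul, map_mul, map_inv, (hcomm w hw _ hy).eq, mul_inv_cancel_right]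
  obtain ⟨q, hq⟩ : ∃ q, q = ⁅g, e⁆ := ⟨_, rfl⟩
  have hqX : q ∈ X := hq ▸ hEX g e he
  have hγe : ap γ e = q * e := by rw [hγg e he, hq, commutatorElement_def]; group
  have hf : π (ap γ (e * ap τ e)) = π (e * ap τ e) := by
    rw [ap_mul γ he (ap_mem _ he), map_mul, hcom e he, hγe, map_mul, ap_mul τ (hXE hqX) he, map_mul,
      hneg q hqX, map_mul]
    rw [mul_assoc, ← mul_assoc (π e), ((hcomm q (hXE hqX) e he).inv_left).eq.symm, mul_assoc,
      mul_inv_cancel_left]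
  obtain ⟨y, hy⟩ : ∃ y, y = e⁻¹ * ap τ e := ⟨_, rfl⟩
  have hyX : y ∈ X := hy ▸ h.pel_fix hG (Inv.self Γ) hX hXE le_rfl hcE hτp e he
  rw [show e * ap τ e = e * (e * y) by rw [hy]; group, ap_mul γ he (E.mul_mem he (hXE hyX)),
    ap_mul γ he (hXE hyX), hγe, hγg y (hXE hyX), show g * y * g⁻¹ = ⁅g, y⁆ * y by
      rw [commutatorElement_def]; group] at hf
  have hc := central_step hG hXn hLn hLX hcX g hyX
  have hcE' := hXE (hLX hc)
  simp only [map_mul] at hf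
  have h3 : π (q ^ 2 * ⁅g, y⁆) = 1 := by
    rw [map_mul, map_pow]
    have e1 := (hcomm q (hXE hqX) e he).eq
    have e2 := (hcomm _ hcE' e he).eq
    rw [show π q * π e * (π q * π e * (π ⁅g, y⁆ * π y)) =
      π q * (π e * π q) * (π e * π ⁅g, y⁆) * π y by simp only [mul_assoc], ← e1, ← e2] at hf
    rw [show π q * (π q * π e) * (π ⁅g, y⁆ * π e) * π y =
      π q * π q * (π e * π ⁅g, y⁆) * (π e * π y) by simp only [mul_assoc], ← e2] at hf
    rw [← mul_assoc (π q * π q), mul_assoc _ (π e) (π e * π y)] at hf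
    rw [sq]
    exact mul_eq_right.1 hf
  rw [hπ1] at h3
  have h4 : q ^ 2 ∈ L := by
    have := L.mul_mem (hΦL h3) (L.inv_mem hc)
    rwa [mul_inv_cancel_right] at this
  have h5 : q ^ p ∈ L := hΦL (pow_mem_phi hG (hXE hqX))
  obtain ⟨m, rfl⟩ := (hp.out.odd_of_ne_two hp2)
  rw [pow_succ, pow_mul] at h5
  apply hge
  rw [← hq]
  have := L.mul_mem (L.inv_mem (L.pow_mem h4 m)) h5
  rwa [inv_mul_cancel_left] at this

end Member

end Cfsg.Agent.Local.FS.AllNormal
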