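import Cfsg.Agent.Lib.Local.FS.RankThreeAllNormal.Tools

/-!
An elementary abelian member of order `p³` on which `G` induces transvections: the centres of the
transvections span a plane and an invariant line complements it.
-/

set_option autoImplicit false
set_option linter.style.haveILetI false
set_option linter.unusedSectionVars false

open scoped commutatorElement

namespace Cfsg.Agent.Local.FS.AllNormal

universe u

variable {G : Type u} [Group G] [Finite G] {E : Subgroup G} {p : ℕ} [hp : Fact p.Prime]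

theorem card_zpowers_eq {x : G} (hx : x ^ p = 1) (h1 : x ≠ 1) : Nat.card (Subgroup.zpowers x) = p := by
  rw [Nat.card_zpowers, orderOf_eq_prime hx h1]

theorem mem_zpowers_of_pow {x y : G} (hx : x ^ p = 1) (h1 : x ≠ 1) (hy : y ∈ Subgroup.zpowers x) (hy1 : y ≠ 1) :
    x ∈ Subgroup.zpowers y := by
  obtain ⟨k, rfl⟩ := Subgroup.mem_zpowers_iff.1 hy
  have hle : Subgroup.zpowers (x ^ k) ≤ Subgroup.zpowers x := Subgroup.zpowers_le.2 hy
  have := Subgroup.eq_of_le_of_card_ge hle (by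
    rw [card_zpowers_eq hx h1, card_zpowers_eq (p := p) (by
      rw [← zpow_natCast, ← zpow_mul, mul_comm, zpow_mul, zpow_natCast, hx, one_zpow]) hy1])
  exact this.ge (Subgroup.mem_zpowers x)

theorem zG_zpowers_normal {c : G} (hc : c ∈ zG p G) : (Subgroup.zpowers c).Normal := ⟨fun n hn g => by
  obtain ⟨k, rfl⟩ := Subgroup.mem_zpowers_iff.1 hn
  rw [show g * c ^ k * g⁻¹ = c ^ k by
    rw [← ((show Commute c g from (mem_zG.1 hc).1 g).zpow_left k).eq, mul_inv_cancel_right]]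
  exact hn⟩

namespace Member

variable {A : Subgroup (MulAut G)} {Γ : Subgroup (MulAut E)} (h : Member p A E Γ) (hG : IsPGroup p G)
include h hG

/-- The invariant line and the torus. -/
theorem exists_line (hp2 : p ≠ 2) (hE : EA p E) (hcE : Nat.card E = p ^ 3)
    (hcZ : Nat.card (zG p G) = p ^ 2) (hm : ¬ Inv Γ (zG p G)) {c : G} (hc : c ∈ zG p G) (hc1 : c ≠ 1)
    (hder : ∀ g : G, ∀ e ∈ E, ⁅g, e⁆ ∈ Subgroup.zpowers c) :
    ∃ C : Subgroup G, C ≤ zG p G ∧ C ≠ ⊥ ∧ Inv Γ C ∧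
      ∃ β ∈ A, β c = c⁻¹ ∧ ∀ z ∈ zG p G, (β z = z ↔ z ∈ C) := by
  have hp' := hp.out
  have hcEm : c ∈ E := vE_le p E (h.zG_le hG hc)
  have hcp : c ^ p = 1 := (mem_zG.1 hc).2
  have hZE : zG p G ≤ E := (h.zG_le hG).trans (vE_le p E)
  have hvE : vE p E = E := le_antisymm (vE_le p E) fun x hx =>
    mem_vE.2 ⟨hx, fun e he => hE.1 x hx e he, hE.2 x hx⟩
  have hcn := zG_zpowers_normal hc
  have hcE' : Subgroup.zpowers c ≤ E := Subgroup.zpowers_le.2 hcEm
  have hcc : Nat.card (Subgroup.zpowers c) = p := card_zpowers_eq hcp hc1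
  have hΦ : phi E ≤ ⊥ := phi_le_of (fun e _ n hn => by
      rw [Subgroup.mem_bot] at hn ⊢; rw [hn, mul_one, mul_inv_cancel])
    (fun x hx => Subgroup.mem_bot.2 (hE.2 x hx))
    (fun x hx y hy => Subgroup.mem_bot.2 (commutatorElement_eq_one_iff_mul_comm.2 (hE.1 x hx y hy)))
  obtain ⟨x, hx⟩ : ∃ x, x ∉ E := by
    by_contra hno
    push Not at hno
    exact h.ne_top hG (eq_top_iff.2 fun y _ => hno y)
  obtain ⟨u, hu, hux⟩ := h.conj_mem x
  have huE : ∀ e ∈ E, ap u e * e⁻¹ ∈ Subgroup.zpowers c := fun e he => by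
    rw [hux e he, ← commutatorElement_def]; exact hder x e he
  have huZ : ∀ z ∈ zG p G, ap u z = z := fun z hz => by
    rw [hux z (hZE hz), ← (mem_zG.1 hz).1 x, mul_inv_cancel_right]
  have hufix : ∀ e ∈ E, ap u e = e → e ∈ zG p G := fun e he hfix => by
    refine h.central_of_fixed hG hx (hvE.symm ▸ he) ?_
    rw [hux e he] at hfix
    exact mul_inv_eq_iff_eq_mul.1 hfix
  -- the group trivial on `Ω₁Z(G)` and on its quotient
  have hPT : ∀ γ ∈ Γ, (∀ z ∈ zG p G, ap γ z = z) → (∀ e ∈ E, e⁻¹ * ap γ e ∈ zG p G) → γ ∈ cjAut E := by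
    obtain ⟨P, hP⟩ : ∃ P : Subgroup (MulAut E), ∀ γ, γ ∈ P ↔ γ ∈ Γ ∧ (∀ z ∈ zG p G, ap γ z = z) ∧
        ∀ e ∈ E, e⁻¹ * ap γ e ∈ zG p G :=
      ⟨{ carrier := {γ | γ ∈ Γ ∧ (∀ z ∈ zG p G, ap γ z = z) ∧ ∀ e ∈ E, e⁻¹ * ap γ e ∈ zG p G}
         one_mem' := ⟨Γ.one_mem, fun z hz => ap_id (hZE hz), fun e he => by simp [ap_id he]⟩
         mul_mem' := fun {a b} ha hb => ⟨Γ.mul_mem ha.1 hb.1,
           fun z hz => by rw [ap_comp (hZE hz), hb.2.1 z hz, ha.2.1 z hz],
           fun e he => by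
             have h1 := hb.2.2 e he
             rw [ap_comp he, show ap b e = e * (e⁻¹ * ap b e) by group, ap_mul a he (hZE h1),
               ha.2.1 _ h1, ← mul_assoc]
             exact (zG p G).mul_mem (ha.2.2 e he) h1⟩
         inv_mem' := fun {a} ha => ⟨Γ.inv_mem ha.1,
           fun z hz => by
             conv_lhs => rw [← ha.2.1 z hz]
             exact ap_inv_ap a (hZE hz),
           fun e he => by
             have h1 := ha.2.2 _ (ap_mem a⁻¹ he)
             rw [ap_ap_inv a he] at h1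
             have := (zG p G).inv_mem h1
             rwa [mul_inv_rev, inv_inv] at this⟩ }, fun _ => Iff.rfl⟩
    have hPp : IsPGroup p P := fun ⟨γ, hγ⟩ => by
      obtain ⟨-, g1, g2⟩ := (hP γ).1 hγ
      refine ⟨1, Subtype.ext (aut_ext' fun e he => ?_)⟩
      rw [pow_one, Subgroup.coe_pow]
      show ap (γ ^ p) e = ap (1 : MulAut E) e
      obtain ⟨d, hd⟩ : ∃ d, d = e⁻¹ * ap γ e := ⟨_, rfl⟩
      have hdZ : d ∈ zG p G := hd ▸ g2 e he
      have hn : ∀ n : ℕ, ap (γ ^ n) e = e * d ^ n := by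
        intro n
        induction n with
        | zero => simp [ap_id he]
        | succ n ih =>
          rw [pow_succ', ap_comp he, ih, ap_mul γ he (hZE ((zG p G).pow_mem hdZ n)),
            g1 _ ((zG p G).pow_mem hdZ n), show ap γ e = e * d by rw [hd]; group, mul_assoc, ← pow_succ']
      rw [hn, (mem_zG.1 hdZ).2, mul_one, ap_id he]
    have hTP : cjAut E ≤ P := by
      rintro α ⟨g, hg⟩
      refine (hP α).2 ⟨h.syl.le ⟨g, hg⟩, fun z hz => ?_, fun e he => ?_⟩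
      · rw [hg z (hZE hz), ← (mem_zG.1 hz).1 g, mul_inv_cancel_right]
      · have h1 : ⁅g, e⁆ ∈ zG p G := (Subgroup.zpowers_le.2 hc) (hder g e he)
        have h2 := (zG_normal p).conj_mem _ h1 e⁻¹
        rw [hg e he]
        simpa [commutatorElement_def, mul_assoc] using h2
    intro γ hγ h1 h2
    exact (h.syl.eq_of_le hPp hTP fun α hα => ((hP α).1 hα).1).le ((hP γ).2 ⟨hγ, h1, h2⟩)
  -- a centre in `Ω₁Z(G)` is the centre
  obtain ⟨e₀, he₀, hue₀⟩ : ∃ e ∈ E, ap u e = c * e := by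
    obtain ⟨e, he, hne⟩ : ∃ e ∈ E, ap u e ≠ e := by
      by_contra hno
      push Not at hno
      exact hm (fun γ hγ z hz => hufix _ (ap_mem γ (hZE hz)) (hno _ (ap_mem γ (hZE hz))))
    have h1 := huE e he
    have h2 := mem_zpowers_of_pow hcp hc1 h1 fun e1 => hne (mul_inv_eq_one.1 e1)
    obtain ⟨j, hj⟩ := mem_powers_iff_mem_zpowers.2 h2
    refine ⟨e ^ j, E.pow_mem he j, ?_⟩
    simp only at hj
    rw [ap_pow u he, ← hj, ← (show Commute (ap u e * e⁻¹) e from hE.1 _ (hcE' h1) e he).mul_pow,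
      inv_mul_cancel_right]
  have key : ∀ γ ∈ Γ, ap γ c ∈ zG p G → ap γ c ∈ Subgroup.zpowers c := by
    intro g hg hgc
    by_contra hout
    obtain ⟨d, hd⟩ : ∃ d, d = ap g c := ⟨_, rfl⟩
    rw [← hd] at hgc hout
    obtain ⟨u', hu'⟩ : ∃ u', u' = g * u * g⁻¹ := ⟨_, rfl⟩
    have hu'Γ : u' ∈ Γ := hu' ▸ Γ.mul_mem (Γ.mul_mem hg hu) (Γ.inv_mem hg)
    have hu'E : ∀ e ∈ E, ap u' e * e⁻¹ ∈ Subgroup.zpowers d := fun e he => by
      obtain ⟨k, hk⟩ := Subgroup.mem_zpowers_iff.1 (huE _ (ap_mem g⁻¹ he))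
      have hkE : c ^ k ∈ E := E.zpow_mem hcEm k
      rw [hu', ap_comp he, ap_comp (ap_mem _ he),
        show ap u (ap g⁻¹ e) = c ^ k * ap g⁻¹ e by rw [hk, inv_mul_cancel_right],
        ap_mul g hkE (ap_mem _ he), ap_ap_inv g he, mul_inv_cancel_right]
      have : ∀ n : ℤ, ap g (c ^ n) = d ^ n := fun n => by
        cases n with
        | ofNat m => rw [Int.ofNat_eq_natCast, zpow_natCast, zpow_natCast, ap_pow g hcEm, hd]
        | negSucc m => rw [zpow_negSucc, zpow_negSucc, ap_inv g (E.pow_mem hcEm _), ap_pow g hcEm, hd]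
      rw [this]
      exact ⟨k, rfl⟩
    have hdZ := Subgroup.zpowers_le.2 hgc
    have hu'Z : ∀ z ∈ zG p G, ap u' z ∈ zG p G := fun z hz => by
      have := (zG p G).mul_mem (hdZ (hu'E z (hZE hz))) hz
      rwa [inv_mul_cancel_right] at this
    have hu'd : ap u' d = d := by
      rw [hu', hd, ap_comp (ap_mem g hcEm), ap_comp (ap_mem _ (ap_mem g hcEm)), ap_inv_ap g hcEm,
        huZ c hc]
    have hu'c : ap u' c = c := by
      have h1 := hu'E e₀ he₀
      obtain ⟨w, hw⟩ : ∃ w, w = u * u' * u⁻¹ * u'⁻¹ := ⟨_, rfl⟩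
      have hwΓ : w ∈ Γ := hw ▸ Γ.mul_mem (Γ.mul_mem (Γ.mul_mem hu hu'Γ) (Γ.inv_mem hu)) (Γ.inv_mem hu'Γ)
      have hwe : ∀ {e}, e ∈ E → ap w (ap u' (ap u e)) = ap u (ap u' e) := fun {e} he => by
        rw [hw, ap_comp (ap_mem _ (ap_mem _ he)), ap_inv_ap u' (ap_mem _ he), ap_comp (ap_mem _ he),
          ap_inv_ap u he, ap_comp he]
      have hstep : ∀ e ∈ E, e⁻¹ * ap u' (ap u e) ∈ zG p G := fun e he => by
        have h2 : ap u e * e⁻¹ ∈ zG p G := (Subgroup.zpowers_le.2 hc) (huE e he)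
        have h3 : ap u' (ap u e) * (ap u e)⁻¹ ∈ zG p G := hdZ (hu'E _ (ap_mem _ he))
        have h4 := (zG p G).mul_mem h3 h2
        rw [show ap u' (ap u e) * (ap u e)⁻¹ * (ap u e * e⁻¹) = ap u' (ap u e) * e⁻¹ by group] at h4
        rwa [hE.1 _ (ap_mem _ (ap_mem _ he)) _ (E.inv_mem he)] at h4
      have hwZ : ∀ z ∈ zG p G, ap w z = z := fun z hz => by
        have hz1 := ap_mem u'⁻¹ (hZE hz)
        have hz2 : ap u'⁻¹ z ∈ zG p G := by
          have h5 := hu'E _ hz1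
          rw [ap_ap_inv u' (hZE hz)] at h5
          have := (zG p G).mul_mem ((zG p G).inv_mem (hdZ h5)) hz
          rwa [mul_inv_rev, inv_inv, inv_mul_cancel_right] at this
        have := hwe hz1
        rw [huZ _ hz2, ap_ap_inv u' (hZE hz)] at this
        rw [this, huZ z hz]
      have hwT : w ∈ cjAut E := hPT w hwΓ hwZ fun e he => by
        obtain ⟨e', he', hee⟩ : ∃ e' ∈ E, ap u' (ap u e') = e := ⟨ap u⁻¹ (ap u'⁻¹ e),
          ap_mem _ (ap_mem _ he), by rw [ap_ap_inv u (ap_mem _ he), ap_ap_inv u' he]⟩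
        have h6 : e'⁻¹ * ap u (ap u' e') ∈ zG p G := by
          have h2 : ap u' e' * e'⁻¹ ∈ zG p G := hdZ (hu'E e' he')
          have h3 : ap u (ap u' e') * (ap u' e')⁻¹ ∈ zG p G :=
            (Subgroup.zpowers_le.2 hc) (huE _ (ap_mem _ he'))
          have h4 := (zG p G).mul_mem h3 h2
          rw [show ap u (ap u' e') * (ap u' e')⁻¹ * (ap u' e' * e'⁻¹) = ap u (ap u' e') * e'⁻¹ by group] at h4
          rwa [hE.1 _ (ap_mem _ (ap_mem _ he')) _ (E.inv_mem he')] at h4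
        have h7 := (zG p G).mul_mem ((zG p G).inv_mem (hstep e' he')) h6
        rw [show (e'⁻¹ * ap u' (ap u e'))⁻¹ * (e'⁻¹ * ap u (ap u' e')) =
          (ap u' (ap u e'))⁻¹ * ap u (ap u' e') by group] at h7
        rw [← hee, hwe he']
        exact h7
      obtain ⟨g', hg'⟩ := hwT
      have hwc : ∀ e ∈ E, ap w e * e⁻¹ ∈ Subgroup.zpowers c := fun e he => by
        rw [hg' e he, ← commutatorElement_def]; exact hder g' e he
      have h2 := hwc _ (ap_mem u' (ap_mem u he₀))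
      rw [hwe he₀, hue₀, ap_mul u' hcEm he₀] at h2
      obtain ⟨i, hi⟩ := Subgroup.mem_zpowers_iff.1 (hu'E c hcEm)
      obtain ⟨j, hj⟩ := Subgroup.mem_zpowers_iff.1 h1
      have hdjE : d ^ j ∈ E := hZE ((zG p G).zpow_mem hgc j)
      have hdjZ : d ^ j ∈ zG p G := (zG p G).zpow_mem hgc j
      rw [show ap u' e₀ = d ^ j * e₀ by rw [hj, inv_mul_cancel_right],
        ap_mul u hdjE he₀, huZ _ hdjZ, hue₀,
        show ap u' c = d ^ i * c by rw [hi, inv_mul_cancel_right]] at h2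
      rw [show d ^ j * (c * e₀) * (d ^ i * c * (d ^ j * e₀))⁻¹ =
        d ^ j * c * (d ^ j)⁻¹ * c⁻¹ * (d ^ i)⁻¹ by group, ← (mem_zG.1 hdjZ).1 c |>.symm,
        show c * d ^ j * (d ^ j)⁻¹ * c⁻¹ * (d ^ i)⁻¹ = (d ^ i)⁻¹ by group, inv_mem_iff] at h2
      by_cases hi1 : d ^ i = 1
      · rw [hi1] at hi
        exact mul_inv_eq_one.1 hi.symm
      · exfalso
        have h3 := mem_zpowers_of_pow (mem_zG.1 hgc).2 (fun e => hout (by rw [e]; exact one_mem _))
          (show d ^ i ∈ Subgroup.zpowers d from ⟨i, rfl⟩) hi1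
        exact hout ((Subgroup.zpowers_le.2 h2) h3)
    have hgen : zG p G = Subgroup.zpowers c ⊔ Subgroup.zpowers d :=
      (sup_zpowers_eq hG (Subgroup.zpowers_le.2 hc) (by rw [hcZ, hcc, sq]) hgc hout).symm
    have hu'fix : ∀ z ∈ zG p G, ap u' z = z := by
      intro z hz
      haveI := hcn
      rw [hgen] at hz
      obtain ⟨a, ha, b, hb, rfl⟩ := Subgroup.mem_sup_of_normal_left.1 hz
      obtain ⟨i, rfl⟩ := mem_powers_iff_mem_zpowers.2 ha
      obtain ⟨j, rfl⟩ := mem_powers_iff_mem_zpowers.2 hb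
      rw [ap_mul u' (E.pow_mem hcEm i) (E.pow_mem (hZE hgc) j), ap_pow u' hcEm, ap_pow u' (hZE hgc),
        hu'c, hu'd]
    obtain ⟨g', hg'⟩ := hPT u' hu'Γ hu'fix fun e he => by
      have h1 := hdZ (hu'E e he)
      rwa [hE.1 _ (ap_mem _ he) _ (E.inv_mem he)] at h1
    have h1 : ap u' (ap g e₀) * (ap g e₀)⁻¹ = d := by
      rw [hu', ap_comp (ap_mem g he₀), ap_comp (ap_mem _ (ap_mem g he₀)), ap_inv_ap g he₀, hue₀,
        ap_mul g hcEm he₀, hd, mul_inv_cancel_right]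
    rw [hg' _ (ap_mem g he₀), ← commutatorElement_def] at h1
    exact hout (h1 ▸ hder g' _ (ap_mem g he₀))
  -- lines through two centres are centres
  have pair : ∀ γ ∈ Γ, ∀ δ ∈ Γ, ap γ c ∉ Subgroup.zpowers (ap δ c) →
      ∀ y ∈ Subgroup.zpowers (ap δ c), ∃ ε ∈ Γ, ap ε c = ap γ c * y := by
    intro g hg k hk hout y hy
    have hkc := ap_mem k hcEm
    have hgc := ap_mem g hcEm
    obtain ⟨u', hu'⟩ : ∃ u', u' = k * u * k⁻¹ := ⟨_, rfl⟩
    have hu'Γ : u' ∈ Γ := hu' ▸ Γ.mul_mem (Γ.mul_mem hk hu) (Γ.inv_mem hk)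
    obtain ⟨i, hi⟩ := mem_powers_iff_mem_zpowers.2 (huE _ (ap_mem k⁻¹ hgc))
    simp only at hi
    have h1 : ap u' (ap g c) = ap k c ^ i * ap g c := by
      rw [hu', ap_comp hgc, ap_comp (ap_mem _ hgc),
        show ap u (ap k⁻¹ (ap g c)) = c ^ i * ap k⁻¹ (ap g c) by rw [hi, inv_mul_cancel_right],
        ap_mul k (E.pow_mem hcEm i) (ap_mem _ hgc), ap_pow k hcEm, ap_ap_inv k hgc]
    have hne : ap k c ^ i ≠ 1 := by
      intro e
      rw [← ap_pow k hcEm, ← ap_one k] at e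
      have e' := ap_inj k (E.pow_mem hcEm i) E.one_mem e
      rw [hi, mul_inv_eq_one] at e'
      have h2 := hufix _ (ap_mem _ hgc) e'
      have h3 := key (k⁻¹ * g) (Γ.mul_mem (Γ.inv_mem hk) hg) (by rwa [ap_comp hcEm])
      rw [ap_comp hcEm] at h3
      obtain ⟨n, hn⟩ := mem_powers_iff_mem_zpowers.2 h3
      simp only at hn
      refine hout ?_
      rw [← ap_ap_inv k hgc, ← hn, ap_pow k hcEm]
      exact pow_mem (Subgroup.mem_zpowers _) n
    have hu'k : ap u' (ap k c) = ap k c := by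
      rw [hu', ap_comp hkc, ap_comp (ap_mem _ hkc), ap_inv_ap k hcEm, huZ c hc]
    have hit : ∀ n : ℕ, ap (u' ^ n) (ap g c) = (ap k c ^ i) ^ n * ap g c := by
      intro n
      induction n with
      | zero => simp [ap_id hgc]
      | succ n ih =>
        rw [pow_succ', ap_comp hgc, ih, ap_mul u' (E.pow_mem (E.pow_mem hkc i) n) hgc,
          ap_pow u' (E.pow_mem hkc i), ap_pow u' hkc, hu'k, h1, ← mul_assoc, ← pow_succ]
    have hkp : ap k c ^ p = 1 := by rw [← ap_pow k hcEm, hcp, ap_one]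
    have hk1 : ap k c ≠ 1 := fun e => hne (by rw [e, one_pow])
    obtain ⟨n, hn⟩ := mem_powers_iff_mem_zpowers.2 ((Subgroup.zpowers_le.2
      (mem_zpowers_of_pow hkp hk1 (pow_mem (Subgroup.mem_zpowers _) i) hne)) hy)
    simp only at hn
    refine ⟨u' ^ n * g, Γ.mul_mem (Γ.pow_mem hu'Γ n) hg, ?_⟩
    rw [ap_comp hcEm, hit, hn, hE.1 _ hgc _ ((Subgroup.zpowers_le.2 hkc) hy)]
  obtain ⟨g, hg, hgc⟩ : ∃ g ∈ Γ, ap g c ∉ Subgroup.zpowers c := by
    by_contra hno
    push Not at hno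
    have hLi : Inv Γ (Subgroup.zpowers c) := fun γ hγ y hy => by
      obtain ⟨n, rfl⟩ := mem_powers_iff_mem_zpowers.2 hy
      rw [ap_pow γ hcEm]
      exact pow_mem (hno γ hγ) n
    exact h.not_series hG hLi (Inv.bot Γ) hcE' bot_le hΦ hx (fun e he => hder x e he)
      (fun e he => by
        rw [Subgroup.mem_bot, commutatorElement_eq_one_iff_mul_comm]
        exact ((mem_zG.1 ((Subgroup.zpowers_le.2 hc) he)).1 x).symm)
      (fun e he => by rw [Subgroup.mem_bot] at he; rw [he, commutatorElement_one_right]; exact one_mem _)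
  have hgcE := ap_mem g hcEm
  have hgcp : ap g c ^ p = 1 := hE.2 _ hgcE
  obtain ⟨X, hXd⟩ : ∃ X, X = Subgroup.zpowers c ⊔ Subgroup.zpowers (ap g c) := ⟨_, rfl⟩
  have hXE : X ≤ E := hXd ▸ sup_le hcE' (Subgroup.zpowers_le.2 hgcE)
  haveI := hcn
  have hcX : Nat.card X ≤ p * p := by
    have := Solv.card_sup_mul_card_inf' (Subgroup.zpowers c) (Subgroup.zpowers (ap g c))
      (fun y _ => by rw [Subgroup.normalizer_eq_top]; exact Subgroup.mem_top y)
    rw [← hXd, hcc, card_zpowers_eq hgcp (fun e => hgc (e ▸ one_mem _))] at this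
    exact (Nat.le_mul_of_pos_right _ Nat.card_pos).trans this.le
  have hXinv : Inv Γ X := by
    have hsub : ∀ δ ∈ Γ, ap δ c ∈ X := by
      intro δ hδ
      by_contra hdX
      have hdg : ap δ c ∉ Subgroup.zpowers (ap g c) := fun hm' => hdX (hXd ▸ Subgroup.mem_sup_right hm')
      have hdp : ap δ c ^ p = 1 := hE.2 _ (ap_mem δ hcEm)
      obtain ⟨P2, hP2⟩ : ∃ P2, P2 = Subgroup.zpowers (ap g c) ⊔ Subgroup.zpowers (ap δ c) := ⟨_, rfl⟩
      have hP2E : P2 ≤ E := hP2 ▸ sup_le (Subgroup.zpowers_le.2 hgcE) (Subgroup.zpowers_le.2 (ap_mem δ hcEm))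
      obtain ⟨z, hz, hzZ, hz1⟩ : ∃ z ∈ P2, z ∈ zG p G ∧ z ≠ 1 := by
        by_contra hno
        push Not at hno
        have hinf : zG p G ⊓ P2 = ⊥ := (Subgroup.eq_bot_iff_forall _).2 fun z hz => hno z hz.2 hz.1
        haveI := zG_normal (G := G) p
        have h1 := Solv.card_sup_mul_card_inf' (zG p G) P2
          (fun y _ => by rw [Subgroup.normalizer_eq_top]; exact Subgroup.mem_top y)
        have h2 : p * p ≤ Nat.card P2 := by
          refine le_trans (le_of_eq ?_) (card_lt_mul hG (show Subgroup.zpowers (ap g c) < P2 from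
            lt_of_le_of_ne (hP2 ▸ le_sup_left) fun e => hdg (e.ge (hP2 ▸ Subgroup.mem_sup_right
              (Subgroup.mem_zpowers _)))))
          rw [card_zpowers_eq hgcp (fun e => hgc (e ▸ one_mem _))]
        have h3 : Nat.card (zG p G ⊔ P2 : Subgroup G) ≤ p ^ 3 := hcE ▸ Subgroup.card_le_of_le (sup_le hZE hP2E)
        rw [hinf, Subgroup.card_bot, mul_one, hcZ] at h1
        have h4 : p ^ 2 * (p * p) ≤ p ^ 3 := (Nat.mul_le_mul_left _ h2).trans (h1.ge.trans h3)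
        rw [← sq, ← pow_add] at h4
        have := (Nat.pow_le_pow_iff_right hp'.one_lt).1 h4
        omega
      rw [hP2, sup_comm] at hz
      haveI : ((Subgroup.zpowers (ap δ c)).subgroupOf E).Normal := ⟨fun n hn e => by
        show ((e : G) * n * (e : G)⁻¹) ∈ Subgroup.zpowers (ap δ c)
        rw [hE.1 e e.2 n n.2, mul_inv_cancel_right]; exact hn⟩
      obtain ⟨a, ha, b, hb, hab⟩ : ∃ a ∈ Subgroup.zpowers (ap δ c), ∃ b ∈ Subgroup.zpowers (ap g c),
          a * b = z := by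
        have hcl : z ∈ (Subgroup.zpowers (ap δ c) ⊔ Subgroup.zpowers (ap g c)) := hz
        rw [Subgroup.zpowers_eq_closure, Subgroup.zpowers_eq_closure, ← Subgroup.closure_union] at hcl
        clear hz hzZ hz1
        induction hcl using Subgroup.closure_induction with
        | mem y hy =>
          rcases hy with hy | hy
          · rw [Set.mem_singleton_iff] at hy; subst hy
            exact ⟨_, Subgroup.mem_zpowers _, 1, one_mem _, mul_one _⟩
          · rw [Set.mem_singleton_iff] at hy; subst hy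
            exact ⟨1, one_mem _, _, Subgroup.mem_zpowers _, one_mul _⟩
        | one => exact ⟨1, one_mem _, 1, one_mem _, one_mul _⟩
        | mul y y' _ _ iy iy' =>
          obtain ⟨a, ha, b, hb, rfl⟩ := iy
          obtain ⟨a', ha', b', hb', rfl⟩ := iy'
          refine ⟨a * a', mul_mem ha ha', b * b', mul_mem hb hb', ?_⟩
          rw [mul_assoc, ← mul_assoc a' b, hE.1 a' ((Subgroup.zpowers_le.2 (ap_mem δ hcEm)) ha') b
            ((Subgroup.zpowers_le.2 hgcE) hb)]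
          group
        | inv y _ iy =>
          obtain ⟨a, ha, b, hb, rfl⟩ := iy
          refine ⟨a⁻¹, inv_mem ha, b⁻¹, inv_mem hb, ?_⟩
          rw [mul_inv_rev, hE.1 _ (E.inv_mem ((Subgroup.zpowers_le.2 (ap_mem δ hcEm)) ha)) _
            (E.inv_mem ((Subgroup.zpowers_le.2 hgcE) hb))]
      have ha1 : a ≠ 1 := by
        intro e
        rw [e, one_mul] at hab
        have h5 := (Subgroup.zpowers_le.2 hzZ) (mem_zpowers_of_pow hgcp (fun e => hgc (e ▸ one_mem _))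
          (hab ▸ hb) hz1)
        exact hgc (key g hg h5)
      obtain ⟨n, hn⟩ := mem_powers_iff_mem_zpowers.2
        (mem_zpowers_of_pow hdp (fun e => hdg (e ▸ one_mem _)) ha ha1)
      simp only at hn
      obtain ⟨ε, hε, hεc⟩ := pair δ hδ g hg hdg (b ^ n) (pow_mem hb n)
      have h6 : ap ε c ∈ zG p G := by
        rw [hεc, ← hn, ← (show Commute a b from hE.1 a ((Subgroup.zpowers_le.2 (ap_mem δ hcEm)) ha) b
          ((Subgroup.zpowers_le.2 hgcE) hb)).mul_pow, hab]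
        exact pow_mem hzZ n
      have h7 := key ε hε h6
      rw [hεc] at h7
      have hbX : b ^ n ∈ X := hXd ▸ Subgroup.mem_sup_right (pow_mem hb n)
      have h8 := X.mul_mem (hXd ▸ Subgroup.mem_sup_left h7 : ap δ c * b ^ n ∈ X) (X.inv_mem hbX)
      rw [mul_inv_cancel_right] at h8
      exact hdX h8
    intro γ hγ y hy
    have hle : X ≤ orb Γ (Subgroup.zpowers c) := hXd ▸ sup_le (le_orb Γ hcE')
      (Subgroup.zpowers_le.2 (img_le_orb _ hg (ap_mem_img (Subgroup.mem_zpowers c) hcEm)))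
    refine (orb_le_of (fun δ hδ w hw => ?_)) (inv_orb Γ _ γ hγ y (hle hy))
    obtain ⟨c', hc', hc'E, rfl⟩ := mem_img.1 hw
    obtain ⟨n, rfl⟩ := mem_powers_iff_mem_zpowers.2 hc'
    rw [ap_pow δ hcEm]
    exact X.pow_mem (hsub δ hδ) n
  have hgcZ : ap g c ∉ zG p G := fun e => hgc (key g hg e)
  have hcX' : Subgroup.zpowers c ≤ X := hXd ▸ le_sup_left
  have hgcX : ap g c ∈ X := hXd ▸ Subgroup.mem_sup_right (Subgroup.mem_zpowers _)
  have hLi : ¬ Inv Γ (Subgroup.zpowers c) := fun e => hgc (e g hg c (Subgroup.mem_zpowers c))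
  obtain ⟨τ, hτp, hτn, hτ⟩ := h.exists_neg hG hXinv (Inv.bot Γ) hcn bot_le hcX' hXE (by rw [hcc]; exact hcX)
    (by rw [hcc, Subgroup.card_bot, one_mul]) hLi ⟨x, ap g c, hgcX, fun e => hgcZ (hufix _ hgcE (by
      rw [Subgroup.mem_bot, commutatorElement_def, mul_inv_eq_one] at e
      rw [hux _ hgcE, e]))⟩
  have hτΓ := pel_le Γ hτp
  have hneg : ∀ y ∈ X, ap τ y = y⁻¹ := fun y hy => eq_inv_of_mul_eq_one_right (Subgroup.mem_bot.1 (hτ y hy))
  have hcEX : Nat.card E ≤ Nat.card X * p := by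
    have h1 : Nat.card (Subgroup.zpowers c) * p ≤ Nat.card X := card_lt_mul hG
      (lt_of_le_of_ne hcX' fun e => hgc (e.ge hgcX))
    rw [hcc] at h1
    rw [hcE, pow_succ, sq]
    exact Nat.mul_le_mul_right p h1
  obtain ⟨e, he, heX⟩ : ∃ e ∈ E, e ∉ X := by
    by_contra hno
    push Not at hno
    have h1 := (Subgroup.card_le_of_le (fun e he => hno e he : E ≤ X)).trans hcX
    rw [hcE, ← sq] at h1
    have := (Nat.pow_le_pow_iff_right hp'.one_lt).1 h1
    omega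
  have hfixE : ∀ y ∈ E, y⁻¹ * ap τ y ∈ X := h.pel_fix hG (Inv.self Γ) hXinv hXE le_rfl hcEX hτp
  obtain ⟨f, hf⟩ : ∃ f, f = e * ap τ e := ⟨_, rfl⟩
  have hfE : f ∈ E := hf ▸ E.mul_mem he (ap_mem _ he)
  have hτf : ap τ f = f := by
    have h1 : ap τ (ap τ e) = e := by
      have h2 := hfixE e he
      rw [show ap τ e = e * (e⁻¹ * ap τ e) by group, ap_mul τ he (hXE h2), hneg _ h2]
      group
    rw [hf, ap_mul τ he (ap_mem _ he), h1, hE.1 _ (ap_mem _ he) e he]
  have hfX : f ∉ X := fun hfm => heX (by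
    have h2 := hfixE e he
    have h3 : e ^ 2 ∈ X := by
      have := X.mul_mem hfm (X.inv_mem h2)
      rwa [hf, show e * ap τ e * (e⁻¹ * ap τ e)⁻¹ = e ^ 2 by rw [sq]; group] at this
    obtain ⟨m, hm'⟩ := hp.out.odd_of_ne_two hp2
    have h4 : (e ^ 2) ^ m * e = 1 := by rw [← pow_mul, ← pow_succ, ← hm', hE.2 e he]
    have h5 : e = ((e ^ 2) ^ m)⁻¹ := eq_inv_of_mul_eq_one_right h4
    rw [h5]; exact inv_mem (pow_mem h3 m))
  have hfp : f ^ p = 1 := hE.2 f hfE
  have hsup : X ⊔ Subgroup.zpowers f = E := sup_zpowers_eq hG hXE hcEX hfE hfX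
  have hfix : ∀ y ∈ E, ap τ y = y → y ∈ Subgroup.zpowers f := by
    intro y hy hty
    have hXn := h.normal_of_inv hXinv hXE
    rw [← hsup] at hy
    obtain ⟨a, ha, b, hb, rfl⟩ := Subgroup.mem_sup_of_normal_left.1 hy
    obtain ⟨n, rfl⟩ := mem_powers_iff_mem_zpowers.2 hb
    simp only at hty ⊢
    rw [ap_mul τ (hXE ha) (E.pow_mem hfE n), ap_pow τ hfE, hτf, hneg a ha, mul_left_inj] at hty
    have h2 : a ^ 2 = 1 := by
      rw [sq]
      calc a * a = a * a⁻¹ := by rw [hty]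
        _ = 1 := mul_inv_cancel a
    have h3 : a = 1 := by
      obtain ⟨m, hm'⟩ := hp.out.odd_of_ne_two hp2
      have := hE.2 a (hXE ha)
      rwa [hm', pow_succ, pow_mul, h2, one_pow, one_mul] at this
    rw [h3, one_mul]
    exact pow_mem (Subgroup.mem_zpowers f) n
  have hcomm : ∀ γ ∈ Γ, ap τ (ap γ f) = ap γ f := by
    intro γ hγ
    obtain ⟨κ, hκ⟩ : ∃ κ, κ = γ * τ * γ⁻¹ * τ⁻¹ := ⟨_, rfl⟩
    have hκp : κ ∈ pel p Γ := hκ ▸ mul_mem (pel_conj hγ hτp) (inv_mem hτp)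
    have hκX : ∀ y ∈ X, y⁻¹ * ap κ y = 1 := fun y hy => by
      have h1 := hXinv τ⁻¹ (Γ.inv_mem hτΓ) y hy
      have h2 := hXinv γ⁻¹ (Γ.inv_mem hγ) _ h1
      have h3 : ap τ⁻¹ y = y⁻¹ := by
        have := hneg _ h1
        rw [ap_ap_inv τ (hXE hy)] at this
        exact inv_eq_iff_eq_inv.1 this.symm
      rw [hκ, ap_comp (hXE hy), ap_comp (ap_mem _ (hXE hy)), ap_comp (hXE h2), hneg _ h2,
        ap_inv γ (hXE h2), ap_ap_inv γ (hXE h1), h3, inv_inv, inv_mul_cancel]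
    obtain ⟨w, hw, hκw⟩ := h.inner_of_series hG hXinv (Inv.bot Γ) hXE bot_le hΦ (pel_le Γ hκp)
      (h.pel_fix hG (Inv.self Γ) hXinv hXE le_rfl hcEX hκp)
      (fun y hy => by rw [hκX y hy]; exact one_mem _)
      (fun y hy => by rw [Subgroup.mem_bot] at hy; rw [hy, ap_one, inv_one, one_mul]; exact one_mem _)
    have hgf := ap_mem γ hfE
    have h4 : ap κ (ap τ (ap γ f)) = ap γ f := by
      rw [hκ, ap_comp (ap_mem _ hgf), ap_inv_ap τ hgf, ap_comp hgf, ap_inv_ap γ hfE, ap_comp hfE, hτf]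
    have h5 := ap_mem τ hgf
    rw [hκw _ h5, hE.1 w hw _ h5, mul_inv_cancel_right] at h4
    exact h4
  have hfZ : f ∈ zG p G := by
    refine hufix f hfE ?_
    have h1 := hfix _ (ap_mem u hfE) (hcomm u hu)
    have h2 := huE f hfE
    have h3 : ap u f * f⁻¹ ∈ X ⊓ Subgroup.zpowers f :=
      Subgroup.mem_inf.2 ⟨hcX' h2, mul_mem h1 (inv_mem (Subgroup.mem_zpowers f))⟩
    refine mul_inv_eq_one.1 (by_contra fun hne => hfX ?_)
    exact (Subgroup.zpowers_le.2 h3.1) (mem_zpowers_of_pow hfp (fun e => hfX (e ▸ one_mem X)) h3.2 hne)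
  obtain ⟨β, hβ, hβτ⟩ := h.extend τ hτΓ hτn
  refine ⟨Subgroup.zpowers f, Subgroup.zpowers_le.2 hfZ, fun e0 => ?_, ?_, β, hβ, ?_, fun z hz => ?_⟩
  · exact hfX (Subgroup.zpowers_eq_bot.1 e0 ▸ one_mem X)
  · intro γ hγ y hy
    obtain ⟨n, rfl⟩ := mem_powers_iff_mem_zpowers.2 hy
    rw [ap_pow γ hfE]
    exact pow_mem (hfix _ (ap_mem γ hfE) (hcomm γ hγ)) n
  · rw [hβτ c hcEm, hneg c (hcX' (Subgroup.mem_zpowers c))]
  · rw [hβτ z (hZE hz)]
    refine ⟨hfix z (hZE hz), fun hzf => ?_⟩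
    obtain ⟨n, rfl⟩ := mem_powers_iff_mem_zpowers.2 hzf
    rw [ap_pow τ hfE, hτf]

end Member

end Cfsg.Agent.Local.FS.AllNormal
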