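import Cfsg.Agent.Lib.Local.FS.RankThreeAllNormal.Basic
import Cfsg.Agent.Lib.Local.FS.RankThreeNormal.RankTwoShape
import Cfsg.Agent.Lib.Local.FS.RankThreeTorus

/-!
Stabilisers of invariant series of `E`, Frattini arguments and the automorphisms generated by
`p`-elements.
-/

set_option autoImplicit false
set_option linter.style.haveILetI false
set_option linter.unusedSectionVars false

open scoped commutatorElement

namespace Cfsg.Agent.Local.FS.AllNormal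

universe u

variable {G : Type u} [Group G] [Finite G] {E : Subgroup G} {p : ℕ} [hp : Fact p.Prime]

theorem ap_congr {γ : MulAut E} {Y : Subgroup G} [Y.Normal] (hY : ∀ y ∈ Y, ap γ y ∈ Y) {x x' : G}
    (hx : x ∈ E) (hx' : x' ∈ E) (h : QuotientGroup.mk' Y x = QuotientGroup.mk' Y x') :
    QuotientGroup.mk' Y (ap γ x) = QuotientGroup.mk' Y (ap γ x') := by
  simp only [QuotientGroup.mk'_apply, QuotientGroup.eq] at h ⊢
  rw [← ap_inv γ hx, ← ap_mul γ (E.inv_mem hx) hx']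
  exact hY _ h

theorem mk_eq_one {Y : Subgroup G} [Y.Normal] {x : G} : QuotientGroup.mk' Y x = 1 ↔ x ∈ Y :=
  QuotientGroup.eq_one_iff x

/-- A normal subgroup is central modulo a normal subgroup of index at most `p` in it. -/
theorem central_step (hG : IsPGroup p G) {X Y : Subgroup G} (hX : X.Normal) (hY : Y.Normal) (hYX : Y ≤ X)
    (hc : Nat.card X ≤ Nat.card Y * p) (g : G) {x : G} (hx : x ∈ X) : ⁅g, x⁆ ∈ Y :=
  RankThreeNormal.comm_mem_of_card hG hX hY hYX hc g hx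

/-- The subgroup generated by the `p`-elements. -/
def pel (p : ℕ) (Γ : Subgroup (MulAut E)) : Subgroup (MulAut E) :=
  Subgroup.closure {γ | γ ∈ Γ ∧ ∃ j : ℕ, γ ^ p ^ j = 1}

theorem pel_le (Γ : Subgroup (MulAut E)) : pel p Γ ≤ Γ :=
  (Subgroup.closure_le Γ).2 fun _ hγ => hγ.1

theorem pel_conj {Γ : Subgroup (MulAut E)} {γ x : MulAut E} (hγ : γ ∈ Γ) (hx : x ∈ pel p Γ) :
    γ * x * γ⁻¹ ∈ pel p Γ := by
  induction hx using Subgroup.closure_induction with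
  | mem x hx =>
    obtain ⟨h1, j, hj⟩ := hx
    exact Subgroup.subset_closure
      ⟨Γ.mul_mem (Γ.mul_mem hγ h1) (Γ.inv_mem hγ), j, by rw [conj_pow, hj, mul_one, mul_inv_cancel]⟩
  | one => simp
  | mul a b _ _ iha ihb =>
    rw [show γ * (a * b) * γ⁻¹ = γ * a * γ⁻¹ * (γ * b * γ⁻¹) by group]; exact mul_mem iha ihb
  | inv a _ iha =>
    rw [show γ * a⁻¹ * γ⁻¹ = (γ * a * γ⁻¹)⁻¹ by group]; exact inv_mem iha

namespace Member

variable {A : Subgroup (MulAut G)} {Γ : Subgroup (MulAut E)} (h : Member p A E Γ) (hG : IsPGroup p G)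
include h hG

theorem cjAut_le_pel : cjAut E ≤ pel p Γ := fun α hα => by
  refine Subgroup.subset_closure ⟨h.syl.le hα, ?_⟩
  obtain ⟨j, hj⟩ := h.syl.isPGroup ⟨α, hα⟩
  exact ⟨j, congrArg Subtype.val hj⟩

/-- The elements generated by `p`-elements act trivially on sections of order at most `p`. -/
theorem pel_fix {X Y : Subgroup G} (hX : Inv Γ X) (hY : Inv Γ Y) (hYX : Y ≤ X) (hXE : X ≤ E)
    (hc : Nat.card X ≤ Nat.card Y * p) {γ : MulAut E} (hγ : γ ∈ pel p Γ) :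
    ∀ x ∈ X, x⁻¹ * ap γ x ∈ Y := by
  haveI := h.normal_of_inv hY (hYX.trans hXE)
  suffices hs : ∀ x ∈ X, QuotientGroup.mk' Y (ap γ x) = QuotientGroup.mk' Y x by
    intro x hx
    exact QuotientGroup.eq.1 (hs x hx).symm
  induction hγ using Subgroup.closure_induction with
  | one => intro x hx; rw [ap_id (hXE hx)]
  | mul a b ha hb iha ihb =>
    intro x hx
    rw [ap_comp (hXE hx), ← ihb x hx]
    exact iha _ (hX b (pel_le Γ hb) x hx)
  | inv a ha iha =>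
    intro x hx
    have := iha _ (hX a⁻¹ (Γ.inv_mem (pel_le Γ ha)) x hx)
    rw [ap_ap_inv a (hXE hx)] at this
    exact this.symm
  | mem γ hγ =>
    obtain ⟨hγΓ, j, hj⟩ := hγ
    intro x hx
    by_cases hxY : x ∈ Y
    · rw [mk_eq_one.2 hxY, mk_eq_one.2 (hY γ hγΓ x hxY)]
    obtain ⟨π, hπ⟩ : ∃ π, π = QuotientGroup.mk' Y := ⟨_, rfl⟩
    rw [← hπ]
    have hq1 : π x ≠ 1 := fun e => hxY (mk_eq_one.1 (hπ ▸ e))
    have hcard : Nat.card (X.map π) ≤ p := by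
      have h1 : Nat.card X = Nat.card (X.map π) * Nat.card Y := by
        rw [← Subgroup.relIndex_ker, hπ, QuotientGroup.ker_mk']
        have := Subgroup.relIndex_mul_relIndex ⊥ Y X bot_le hYX
        rw [Subgroup.relIndex_bot_left, Subgroup.relIndex_bot_left] at this
        rw [← this, mul_comm]
      rw [h1, mul_comm (Nat.card Y)] at hc
      exact Nat.le_of_mul_le_mul_right hc Nat.card_pos
    have ho : orderOf (π x) = p := by
      obtain ⟨k, hk⟩ := IsPGroup.iff_orderOf.1 (hG.to_quotient Y : IsPGroup p (G ⧸ Y)) (π x)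
      have h1 : orderOf (π x) ≤ p :=
        (Nat.card_zpowers (π x)).ge.trans ((Subgroup.card_le_of_le
          (Subgroup.zpowers_le.2 (Subgroup.mem_map_of_mem π hx))).trans hcard)
      rw [hk] at h1 ⊢
      have hk1 : k ≤ 1 := (Nat.pow_le_pow_iff_right hp.out.one_lt).1 (by rwa [pow_one])
      rcases Nat.eq_zero_or_pos k with rfl | hkp
      · exact absurd (orderOf_eq_one_iff.1 (by rw [hk, pow_zero])) hq1
      · rw [show k = 1 by omega, pow_one]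
    have hgen : Subgroup.zpowers (π x) = X.map π :=
      Subgroup.eq_of_le_of_card_ge (Subgroup.zpowers_le.2 (Subgroup.mem_map_of_mem π hx))
        (by rw [Nat.card_zpowers, ho]; exact hcard)
    obtain ⟨r, hr⟩ : ∃ r : ℕ, π x ^ r = π (ap γ x) :=
      mem_powers_iff_mem_zpowers.2 (hgen.ge (Subgroup.mem_map_of_mem π (hX γ hγΓ x hx)))
    have hk : ∀ k : ℕ, π (ap (γ ^ k) x) = π x ^ r ^ k := by
      intro k
      induction k with
      | zero => rw [pow_zero, pow_zero, ap_id (hXE hx), pow_one]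
      | succ k ih =>
        rw [pow_succ', ap_comp (hXE hx)]
        have h1 : π (ap (γ ^ k) x) = π (x ^ r ^ k) := by rw [ih, map_pow]
        rw [hπ] at h1
        rw [hπ, ap_congr (hY γ hγΓ) (ap_mem _ (hXE hx)) (E.pow_mem (hXE hx) _) h1, ap_pow γ (hXE hx),
          map_pow, ← hπ, ← hr, ← pow_mul, ← pow_succ']
    have h2 := hk (p ^ j)
    rw [hj, ap_id (hXE hx)] at h2
    have h3 : (r ^ p ^ j) ≡ 1 [MOD orderOf (π x)] := (pow_eq_pow_iff_modEq).1 (by rw [← h2, pow_one])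
    rw [ho, ← ZMod.natCast_eq_natCast_iff, Nat.cast_pow, Nat.cast_one] at h3
    have h4 : (r : ZMod p) = ((1 : ℕ) : ZMod p) := by
      rw [Nat.cast_one]; exact RankThree.one_of_pow_eq_one h3
    rw [ZMod.natCast_eq_natCast_iff, ← ho] at h4
    rw [← hr, pow_eq_pow_iff_modEq.2 h4, pow_one]

/-- An element stabilising an invariant series above `Φ(E)` is inner. -/
theorem inner_of_series {X Y : Subgroup G} (hX : Inv Γ X) (hY : Inv Γ Y) (hXE : X ≤ E) (hYX : Y ≤ X)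
    (hΦ : phi E ≤ Y) {γ : MulAut E} (hγ : γ ∈ Γ) (h1 : ∀ e ∈ E, e⁻¹ * ap γ e ∈ X)
    (h2 : ∀ x ∈ X, x⁻¹ * ap γ x ∈ Y) (h3 : ∀ y ∈ Y, y⁻¹ * ap γ y ∈ phi E) :
    ∃ w ∈ E, ∀ e ∈ E, ap γ e = w * e * w⁻¹ := by
  have hcl : ∀ {L U : Subgroup G}, Inv Γ L → Inv Γ U → U ≤ L → L ≤ E →
      ∀ {α β : MulAut E}, α ∈ Γ → β ∈ Γ → (∀ x ∈ L, x⁻¹ * ap α x ∈ U) → (∀ x ∈ L, x⁻¹ * ap β x ∈ U) →
        ∀ x ∈ L, x⁻¹ * ap (α * β) x ∈ U := by
    intro L U hL hU hUL hLE α β hα hβ ha hb x hx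
    have e1 : x⁻¹ * ap (α * β) x = x⁻¹ * ap β x * ((ap β x)⁻¹ * ap α (ap β x)) := by
      rw [ap_comp (hLE hx)]; group
    rw [e1]
    exact U.mul_mem (hb x hx) (ha _ (hL β hβ x hx))
  have hinv : ∀ {L U : Subgroup G}, Inv Γ L → Inv Γ U → L ≤ E →
      ∀ {α : MulAut E}, α ∈ Γ → (∀ x ∈ L, x⁻¹ * ap α x ∈ U) → ∀ x ∈ L, x⁻¹ * ap α⁻¹ x ∈ U := by
    intro L U hL hU hLE α hα ha x hx
    have h1 := ha _ (hL α⁻¹ (Γ.inv_mem hα) x hx)
    rw [ap_ap_inv α (hLE hx)] at h1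
    have := U.inv_mem h1
    rwa [mul_inv_rev, inv_inv] at this
  have hYE : Y ≤ E := hYX.trans hXE
  obtain ⟨K, hK⟩ : ∃ K : Subgroup (MulAut E), ∀ α, α ∈ K ↔ α ∈ Γ ∧ (∀ e ∈ E, e⁻¹ * ap α e ∈ X) ∧
      (∀ x ∈ X, x⁻¹ * ap α x ∈ Y) ∧ (∀ y ∈ Y, y⁻¹ * ap α y ∈ phi E) := by
    refine ⟨{ carrier := {α | α ∈ Γ ∧ (∀ e ∈ E, e⁻¹ * ap α e ∈ X) ∧
      (∀ x ∈ X, x⁻¹ * ap α x ∈ Y) ∧ (∀ y ∈ Y, y⁻¹ * ap α y ∈ phi E)}
              one_mem' := ⟨Γ.one_mem, fun e he => by simp [ap_id he],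
                fun x hx => by simp [ap_id (hXE hx)], fun y hy => by simp [ap_id (hYE hy)]⟩
              mul_mem' := fun {a b} ha hb => ⟨Γ.mul_mem ha.1 hb.1,
                hcl (Inv.self Γ) hX hXE le_rfl ha.1 hb.1 ha.2.1 hb.2.1,
                hcl hX hY hYX hXE ha.1 hb.1 ha.2.2.1 hb.2.2.1,
                hcl hY (inv_phi Γ) hΦ hYE ha.1 hb.1 ha.2.2.2 hb.2.2.2⟩
              inv_mem' := fun {a} ha => ⟨Γ.inv_mem ha.1, hinv (Inv.self Γ) hX le_rfl ha.1 ha.2.1,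
                hinv hX hY hXE ha.1 ha.2.2.1, hinv hY (inv_phi Γ) hYE ha.1 ha.2.2.2⟩ }, fun _ => Iff.rfl⟩
  refine h.opTriv K (fun α hα => ((hK α).1 hα).1) (fun δ hδ k hk => ?_) ?_ γ ((hK γ).2 ⟨hγ, h1, h2, h3⟩)
  · obtain ⟨hkΓ, k1, k2, k3⟩ := (hK k).1 hk
    have hcj : ∀ {L U : Subgroup G}, Inv Γ L → Inv Γ U → U ≤ L → L ≤ E → (∀ x ∈ L, x⁻¹ * ap k x ∈ U) →
        ∀ x ∈ L, x⁻¹ * ap (δ * k * δ⁻¹) x ∈ U := by
      intro L U hL hU hUL hLE ha x hx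
      have hy := hL δ⁻¹ (Γ.inv_mem hδ) x hx
      have e := hU δ hδ _ (ha _ hy)
      rw [ap_mul δ (E.inv_mem (hLE hy)) (hLE (hL k hkΓ _ hy)), ap_inv δ (hLE hy), ap_ap_inv δ (hLE hx)] at e
      rwa [ap_comp (hLE hx), ap_comp (hLE hy)]
    exact (hK _).2 ⟨Γ.mul_mem (Γ.mul_mem hδ hkΓ) (Γ.inv_mem hδ), hcj (Inv.self Γ) hX hXE le_rfl k1,
      hcj hX hY hYX hXE k2, hcj hY (inv_phi Γ) hΦ hYE k3⟩
  · refine IsPGroup.iff_card.2 ⟨_, Nat.eq_prime_pow_of_unique_prime_dvd Nat.card_pos.ne' fun {r} hr hd => ?_⟩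
    by_contra hrp
    haveI := Fact.mk hr
    obtain ⟨⟨a, ha⟩, hao⟩ := exists_prime_orderOf_dvd_card' (G := K) r hd
    rw [Subgroup.orderOf_mk] at hao
    obtain ⟨haΓ, a1, a2, a3⟩ := (hK a).1 ha
    have hE := hG.to_subgroup E
    have har : a ^ r = 1 := hao ▸ pow_orderOf_eq_one a
    have hsub : ∀ (L : Subgroup G), Inv Γ L → L ≤ E → (L.subgroupOf E).Normal := fun L hL hLE =>
      ((h.normal_of_inv hL hLE).subgroupOf E)
    have key : ∀ (L : Subgroup G), Inv Γ L → L ≤ E →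
        (∀ e ∈ E, (e⁻¹ * ap a e)⁻¹ * ap a (e⁻¹ * ap a e) ∈ L) → ∀ e ∈ E, e⁻¹ * ap a e ∈ L := by
      intro L hL hLE hd e he
      haveI := hsub L hL hLE
      have := RankThreeNormal.disp_mem hE hr hrp (X := L.subgroupOf E) (γ := a) har
        (fun x hx => by
          show (a x : G) ∈ L
          rw [← ap_coe a x]; exact hL a haΓ _ hx) (x := ⟨e, he⟩) (by
          show (((⟨e, he⟩ : E)⁻¹ * a ⟨e, he⟩)⁻¹ * a ((⟨e, he⟩ : E)⁻¹ * a ⟨e, he⟩) : G) ∈ L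
          rw [← ap_coe a ((⟨e, he⟩ : E)⁻¹ * a ⟨e, he⟩)]
          simpa [← ap_coe a] using hd e he)
      simpa [Subgroup.mem_subgroupOf, ← ap_coe a] using this
    have hY' := key Y hY hYE fun e he => a2 _ (a1 e he)
    have hΦ' := key (phi E) (inv_phi Γ) (phi_le E) fun e he => a3 _ (hY' e he)
    have h5 : a = 1 := RankThreeNormal.eq_one_of_trivial_frattini hE hr hrp har fun x => by
      have := hΦ' x x.2
      rw [ap_coe, mem_phi (E.mul_mem (E.inv_mem x.2) (SetLike.coe_mem _))] at this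
      exact this
    rw [h5, orderOf_one] at hao
    exact hr.ne_one hao.symm

/-- No element outside `E` stabilises an invariant series above `Φ(E)`. -/
theorem not_series {X Y : Subgroup G} (hX : Inv Γ X) (hY : Inv Γ Y) (hXE : X ≤ E) (hYX : Y ≤ X)
    (hΦ : phi E ≤ Y) {x : G} (hx : x ∉ E) (h1 : ∀ e ∈ E, ⁅x, e⁆ ∈ X) (h2 : ∀ e ∈ X, ⁅x, e⁆ ∈ Y)
    (h3 : ∀ e ∈ Y, ⁅x, e⁆ ∈ phi E) : False := by
  obtain ⟨γ, hγ, hγx⟩ := h.conj_mem x
  have conv : ∀ {L U : Subgroup G}, U.Normal → L ≤ E → (∀ e ∈ L, ⁅x, e⁆ ∈ U) →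
      ∀ e ∈ L, e⁻¹ * ap γ e ∈ U := by
    intro L U hU hL hc e he
    have := hU.conj_mem _ (hc e he) e⁻¹
    rw [hγx e (hL he)]
    simpa [commutatorElement_def, mul_assoc] using this
  obtain ⟨w, hw, hww⟩ := h.inner_of_series hG hX hY hXE hYX hΦ hγ
    (conv (h.normal_of_inv hX hXE) le_rfl h1) (conv (h.normal_of_inv hY (hYX.trans hXE)) hXE h2)
    (conv (h.normal_of_inv (inv_phi Γ) (phi_le E)) (hYX.trans hXE) h3)
  suffices hc : w⁻¹ * x ∈ E from hx (by simpa using E.mul_mem hw hc)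
  refine h.centric (w⁻¹ * x) fun e he => ?_
  have h4 := (hγx e he).symm.trans (hww e he)
  calc w⁻¹ * x * e = w⁻¹ * (x * e * x⁻¹) * x := by group
    _ = w⁻¹ * (w * e * w⁻¹) * x := by rw [h4]
    _ = e * (w⁻¹ * x) := by group

/-- The Frattini argument: modulo a section centralised by `G`, invariance under `A` suffices. -/
theorem inv_of_central {X Y L : Subgroup G} (hX : Inv Γ X) (hY : Inv Γ Y) (hYL : Y ≤ L) (hLX : L ≤ X)
    (hXE : X ≤ E) (hc : ∀ g : G, ∀ x ∈ X, ⁅g, x⁆ ∈ Y)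
    (hA : ∀ β ∈ A, (∀ e ∈ E, β e ∈ E) → ∀ l ∈ L, β l ∈ L) : Inv Γ L := by
  have hYn := h.normal_of_inv hY (hYL.trans (hLX.trans hXE))
  obtain ⟨K, hK⟩ : ∃ K : Subgroup (MulAut E), ∀ α, α ∈ K ↔ α ∈ Γ ∧
      ∀ x ∈ X, QuotientGroup.mk' Y (ap α x) = QuotientGroup.mk' Y x :=
    ⟨{ carrier := {α | α ∈ Γ ∧ ∀ x ∈ X, QuotientGroup.mk' Y (ap α x) = QuotientGroup.mk' Y x}
       one_mem' := ⟨Γ.one_mem, fun x hx => by rw [ap_id (hXE hx)]⟩
       mul_mem' := fun {a b} ha hb => ⟨Γ.mul_mem ha.1 hb.1, fun x hx => by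
         rw [ap_comp (hXE hx), ha.2 _ (hX b hb.1 x hx), hb.2 x hx]⟩
       inv_mem' := fun {a} ha => ⟨Γ.inv_mem ha.1, fun x hx => by
         have := ha.2 _ (hX a⁻¹ (Γ.inv_mem ha.1) x hx)
         rw [ap_ap_inv a (hXE hx)] at this
         exact this.symm⟩ }, fun _ => Iff.rfl⟩
  have hTK : cjAut E ≤ K := by
    rintro α ⟨g, hg⟩
    refine (hK α).2 ⟨h.syl.le ⟨g, hg⟩, fun x hx => ?_⟩
    rw [hg x (hXE hx), show g * x * g⁻¹ = ⁅g, x⁆ * x by rw [commutatorElement_def]; group, map_mul,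
      mk_eq_one.2 (hc g x hx), one_mul]
  have hKn : Γ ≤ Subgroup.normalizer (K : Set (MulAut E)) := by
    have key : ∀ γ ∈ Γ, ∀ k ∈ K, γ * k * γ⁻¹ ∈ K := by
      intro γ hγ k hk
      obtain ⟨hkΓ, hkx⟩ := (hK k).1 hk
      refine (hK _).2 ⟨Γ.mul_mem (Γ.mul_mem hγ hkΓ) (Γ.inv_mem hγ), fun x hx => ?_⟩
      have hy := hX γ⁻¹ (Γ.inv_mem hγ) x hx
      rw [ap_comp (hXE hx), ap_comp (hXE hy),
        ap_congr (hY γ hγ) (ap_mem _ (hXE hy)) (hXE hy) (hkx _ hy), ap_ap_inv γ (hXE hx)]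
    intro γ hγ
    refine Subgroup.mem_normalizer_iff.2 fun k => ⟨key γ hγ k, fun hk => ?_⟩
    have := key γ⁻¹ (Γ.inv_mem hγ) _ hk
    simpa [mul_assoc] using this
  intro γ hγ l hl
  obtain ⟨κ, hκ, hn⟩ := Fusion.frattini_conj (h.syl.mono hTK fun α hα => ((hK α).1 hα).1) hKn hγ
  obtain ⟨hκΓ, hκx⟩ := (hK κ).1 hκ
  obtain ⟨β, hβ, hβe⟩ := h.extend _ (Γ.mul_mem hκΓ hγ) hn
  have hβE : ∀ e ∈ E, β e ∈ E := fun e he => by rw [hβe e he]; exact ap_mem _ he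
  have h1 := hA β hβ hβE l hl
  rw [hβe l (hXE (hLX hl)), ap_comp (hXE (hLX hl))] at h1
  have h2 := QuotientGroup.eq.1 (hκx _ (hX γ hγ l (hLX hl)))
  have h3 := L.mul_mem h1 (hYL h2)
  rwa [mul_inv_cancel_left] at h3

end Member

end Cfsg.Agent.Local.FS.AllNormal
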