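import Cfsg.Agent.Lib.Local.FS.RankThreeAllNormal.Neg
import Cfsg.Agent.Lib.Local.FS.RankThreeNormal.Tools

/-!
Elementary abelian subgroups, `Ω₁(Z(G))`, `Ω₁(Z(E))`, and members moving `Ω₁(Z(G))`.
-/

set_option autoImplicit false
set_option linter.style.haveILetI false
set_option linter.unusedSectionVars false

open scoped commutatorElement

namespace Cfsg.Agent.Local.FS.AllNormal

universe u

variable {G : Type u} [Group G]

/-- Powers of a product in class two: the commutator is central and of order dividing the odd `p`. -/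
theorem mul_pow_two {p : ℕ} (hp : Odd p) {x y : G} (hx : Commute x ⁅y, x⁆) (hy : Commute y ⁅y, x⁆)
    (hc : ⁅y, x⁆ ^ p = 1) : (x * y) ^ p = x ^ p * y ^ p := by
  obtain ⟨c, hcd⟩ : ∃ c, c = ⁅y, x⁆ := ⟨_, rfl⟩
  rw [← hcd] at hx hy hc
  have hyx : y * x = c * (x * y) := by rw [hcd, commutatorElement_def]; group
  have hn : ∀ n : ℕ, y ^ n * x = c ^ n * (x * y ^ n) := by
    intro n
    induction n with
    | zero => simp
    | succ n ih =>
      rw [pow_succ', mul_assoc, ih, ← mul_assoc, (hy.pow_right n).eq, mul_assoc, ← mul_assoc y x, hyx,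
        pow_succ c]
      simp only [mul_assoc]
  have key : ∀ n : ℕ, (x * y) ^ n = c ^ (n.choose 2) * (x ^ n * y ^ n) := by
    intro n
    induction n with
    | zero => simp
    | succ n ih =>
      have e : Nat.choose (n + 1) 2 = n.choose 2 + n := by
        rw [Nat.choose_succ_succ' n 1, Nat.choose_one_right, add_comm]
      rw [pow_succ, ih, e, pow_add c, pow_succ x, pow_succ y]
      calc c ^ n.choose 2 * (x ^ n * y ^ n) * (x * y)
          = c ^ n.choose 2 * (x ^ n * (y ^ n * x) * y) := by group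
        _ = c ^ n.choose 2 * (x ^ n * (c ^ n * (x * y ^ n)) * y) := by rw [hn]
        _ = c ^ n.choose 2 * ((x ^ n * c ^ n) * (x * y ^ n) * y) := by group
        _ = _ := by rw [(hx.pow_pow n n).eq]; group
  rw [key]
  obtain ⟨m, hm⟩ : p ∣ p.choose 2 := by
    obtain ⟨k, rfl⟩ := hp
    exact ⟨k, by rw [Nat.choose_two_right, show 2 * k + 1 - 1 = 2 * k by omega,
      show (2 * k + 1) * (2 * k) = (2 * k + 1) * k * 2 by ring, Nat.mul_div_cancel _ two_pos]⟩
  rw [hm, pow_mul, hc, one_pow, one_mul]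

/-- Elementary abelian, with the pointwise conditions. -/
def EA (p : ℕ) (X : Subgroup G) : Prop :=
  (∀ x ∈ X, ∀ y ∈ X, x * y = y * x) ∧ ∀ x ∈ X, x ^ p = 1

theorem EA.of_closure {p : ℕ} {s : Set G} (hc : ∀ x ∈ s, ∀ y ∈ s, x * y = y * x)
    (hp : ∀ x ∈ s, x ^ p = 1) : EA p (Subgroup.closure s) := by
  have h1 : ∀ x ∈ Subgroup.closure s, ∀ y ∈ Subgroup.closure s, x * y = y * x := by
    have h2 : Subgroup.closure s ≤ Subgroup.centralizer s := by
      rw [Subgroup.closure_le]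
      exact fun x hx => Subgroup.mem_centralizer_iff.2 fun y hy => hc y hy x hx
    intro x hx y hy
    have h3 : Subgroup.closure s ≤ Subgroup.centralizer (Subgroup.closure s : Set G) := by
      rw [Subgroup.closure_le]
      exact fun z hz => Subgroup.mem_centralizer_iff.2 fun w hw =>
        (Subgroup.mem_centralizer_iff.1 (h2 hw) z hz).symm
    exact Subgroup.mem_centralizer_iff.1 (h3 hy) x hx
  refine ⟨h1, fun x hx => ?_⟩
  induction hx using Subgroup.closure_induction with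
  | mem x hx => exact hp x hx
  | one => exact one_pow p
  | mul a b ha hb iha ihb => rw [(show Commute a b from h1 a ha b hb).mul_pow, iha, ihb, one_mul]
  | inv a _ iha => rw [inv_pow, iha, inv_one]

theorem EA.sup {p : ℕ} {A B : Subgroup G} (hA : EA p A) (hB : EA p B)
    (hAB : ∀ a ∈ A, ∀ b ∈ B, a * b = b * a) : EA p (A ⊔ B) := by
  have h := EA.of_closure (p := p) (s := (A : Set G) ∪ B) ?_ ?_
  · rwa [Subgroup.closure_union, Subgroup.closure_eq, Subgroup.closure_eq] at h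
  · rintro x (hx | hx) y (hy | hy)
    exacts [hA.1 x hx y hy, hAB x hx y hy, (hAB y hy x hx).symm, hB.1 x hx y hy]
  · rintro x (hx | hx)
    exacts [hA.2 x hx, hB.2 x hx]

theorem EA.mono {p : ℕ} {A B : Subgroup G} (hB : EA p B) (h : A ≤ B) : EA p A :=
  ⟨fun x hx y hy => hB.1 x (h hx) y (h hy), fun x hx => hB.2 x (h hx)⟩

theorem EA.zpowers {p : ℕ} {x : G} (hx : x ^ p = 1) : EA p (Subgroup.zpowers x) := by
  rw [Subgroup.zpowers_eq_closure]
  exact EA.of_closure (by rintro _ rfl _ rfl; rfl) (by rintro _ rfl; exact hx)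

/-- `Ω₁` of the centraliser of `E` in `E`. -/
def vE (p : ℕ) (E : Subgroup G) : Subgroup G :=
  Subgroup.closure {x | x ∈ E ∧ (∀ e ∈ E, x * e = e * x) ∧ x ^ p = 1}

theorem mem_vE {p : ℕ} {E : Subgroup G} {x : G} :
    x ∈ vE p E ↔ x ∈ E ∧ (∀ e ∈ E, x * e = e * x) ∧ x ^ p = 1 := by
  refine ⟨fun hx => ?_, fun hx => Subgroup.subset_closure hx⟩
  induction hx using Subgroup.closure_induction with
  | mem x hx => exact hx
  | one => exact ⟨E.one_mem, fun e _ => by simp, one_pow p⟩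
  | mul a b _ _ iha ihb =>
    obtain ⟨a1, a2, a3⟩ := iha
    obtain ⟨b1, b2, b3⟩ := ihb
    exact ⟨E.mul_mem a1 b1, fun e he => (Commute.mul_left (a2 e he) (b2 e he)).eq,
      by rw [(show Commute a b from a2 b b1).mul_pow, a3, b3, one_mul]⟩
  | inv a _ iha =>
    obtain ⟨a1, a2, a3⟩ := iha
    exact ⟨E.inv_mem a1, fun e he => (Commute.inv_left (a2 e he)).eq, by rw [inv_pow, a3, inv_one]⟩

theorem vE_le (p : ℕ) (E : Subgroup G) : vE p E ≤ E := fun _ hx => (mem_vE.1 hx).1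

theorem ea_vE (p : ℕ) (E : Subgroup G) : EA p (vE p E) :=
  ⟨fun _ hx y hy => (mem_vE.1 hx).2.1 y (vE_le p E hy), fun _ hx => (mem_vE.1 hx).2.2⟩

theorem inv_vE {p : ℕ} {E : Subgroup G} (Γ : Subgroup (MulAut E)) : Inv Γ (vE p E) := by
  intro γ _ x hx
  obtain ⟨hxE, hc, hp⟩ := mem_vE.1 hx
  refine mem_vE.2 ⟨ap_mem γ hxE, fun e he => ?_, by rw [← ap_pow γ hxE, hp, ap_one]⟩
  have h := congrArg (ap γ) (hc (ap γ⁻¹ e) (ap_mem _ he))
  rwa [ap_mul γ hxE (ap_mem _ he), ap_mul γ (ap_mem _ he) hxE, ap_ap_inv γ he] at h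

/-- `Ω₁(Z(G))`. -/
def zG (p : ℕ) (G : Type u) [Group G] : Subgroup G := vE p ⊤

theorem mem_zG {p : ℕ} {x : G} : x ∈ zG p G ↔ (∀ y, x * y = y * x) ∧ x ^ p = 1 := by
  rw [zG, mem_vE]; simp

theorem zG_normal (p : ℕ) : (zG p G).Normal := ⟨fun n hn g => by
  rw [← (mem_zG.1 hn).1 g, mul_inv_cancel_right]; exact hn⟩

theorem map_mem_zG {p : ℕ} (β : MulAut G) {x : G} (hx : x ∈ zG p G) : β x ∈ zG p G := by
  obtain ⟨hc, hp⟩ := mem_zG.1 hx
  refine mem_zG.2 ⟨fun y => ?_, by rw [← map_pow, hp, map_one]⟩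
  obtain ⟨y, rfl⟩ := β.surjective y
  rw [← map_mul, hc, map_mul]

variable [Finite G] {p : ℕ} [hp : Fact p.Prime] {E : Subgroup G}

theorem EA.card_le (hsr : Cfsg.SectionalPRankLE p 3 G) {X : Subgroup G} (hX : EA p X) :
    Nat.card X ≤ p ^ 3 := by
  have h := RankThreeNormal.card_le_rank hsr (bot_le : ⊥ ≤ X) (fun a _ b hb => by
    rw [Subgroup.mem_bot] at hb ⊢; rw [hb, mul_one, mul_inv_cancel])
    (fun x hx y hy => Subgroup.mem_bot.2 (commutatorElement_eq_one_iff_mul_comm.2 (hX.1 x hx y hy)))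
    (fun x hx => Subgroup.mem_bot.2 (hX.2 x hx))
  rwa [Subgroup.card_bot, mul_one] at h

/-- A nontrivial normal subgroup meets `Ω₁(Z(G))`. -/
theorem exists_zG (hG : IsPGroup p G) {N : Subgroup G} [N.Normal] (hN : N ≠ ⊥) :
    ∃ z ∈ N, z ∈ zG p G ∧ z ≠ 1 := by
  obtain ⟨z, hz, hzc, hzo⟩ := Solv.exists_central_order hG N hN
  exact ⟨z, hz, mem_zG.2 ⟨fun y => (Subgroup.mem_center_iff.1 hzc y).symm,
    hzo ▸ pow_orderOf_eq_one z⟩, fun e => hp.out.one_lt.ne' (by rw [← hzo, e, orderOf_one])⟩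

theorem zG_ne_bot (hG : IsPGroup p G) [Nontrivial G] : zG p G ≠ ⊥ := fun e => by
  obtain ⟨z, -, hz, hz1⟩ := exists_zG hG (N := (⊤ : Subgroup G)) top_ne_bot
  rw [e, Subgroup.mem_bot] at hz
  exact hz1 hz

/-- A normal subgroup of order at most `p` is central. -/
theorem le_zG_of_card (hG : IsPGroup p G) {N : Subgroup G} (hN : N.Normal) (hc : Nat.card N ≤ p) :
    N ≤ zG p G := fun x hx => by
  have hb : (⊥ : Subgroup G).Normal := inferInstance
  have hc' : Nat.card N ≤ Nat.card (⊥ : Subgroup G) * p := by rwa [Subgroup.card_bot, one_mul]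
  refine mem_zG.2 ⟨fun y => (commutatorElement_eq_one_iff_mul_comm.1
    (Subgroup.mem_bot.1 (central_step hG hN hb bot_le hc' y hx))).symm,
    Subgroup.mem_bot.1 (pow_mem_of_card hG hb bot_le hc' hx)⟩

theorem card_lt_mul (hG : IsPGroup p G) {X Y : Subgroup G} (h : X < Y) :
    Nat.card X * p ≤ Nat.card Y :=
  RankThreeNormal.mul_card_le_of_lt hG h

theorem card_pow (hG : IsPGroup p G) (X : Subgroup G) : ∃ k, Nat.card X = p ^ k :=
  IsPGroup.iff_card.1 (hG.to_subgroup X)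

/-- The Frattini quotient has order at most `p ^ 3`. -/
theorem card_le_phi (hG : IsPGroup p G) (hsr : Cfsg.SectionalPRankLE p 3 G) {E : Subgroup G}
    (hn : (phi E).Normal) : Nat.card E ≤ p ^ 3 * Nat.card (phi E) :=
  RankThreeNormal.card_le_rank hsr (phi_le E) (fun a _ b hb => hn.conj_mem b hb a)
    (fun _ hx _ hy => comm_mem_phi hG hx hy) fun _ hx => pow_mem_phi hG hx

namespace Member

variable {A : Subgroup (MulAut G)} {Γ : Subgroup (MulAut E)} (h : Member p A E Γ) (hG : IsPGroup p G)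
include h hG

theorem card_eq : Nat.card G = Nat.card E * p := by
  rw [← E.card_mul_index, h.index]

theorem ne_top : E ≠ ⊤ := fun e => hp.out.one_lt.ne' (by rw [← h.index, e, Subgroup.index_top])

theorem sup_eq_top {x : G} (hx : x ∉ E) : E ⊔ Subgroup.zpowers x = ⊤ :=
  sup_zpowers_eq hG le_top (by rw [Subgroup.card_top, h.card_eq hG]) (Subgroup.mem_top x) hx

theorem zG_le : zG p G ≤ vE p E := fun x hx => by
  obtain ⟨hc, hxp⟩ := mem_zG.1 hx
  exact mem_vE.2 ⟨h.centric x fun e _ => hc e, fun e _ => hc e, hxp⟩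

theorem central_of_fixed {x : G} (hx : x ∉ E) {v : G} (hv : v ∈ vE p E) (hxv : x * v = v * x) :
    v ∈ zG p G := by
  obtain ⟨-, hc, hvp⟩ := mem_vE.1 hv
  refine mem_zG.2 ⟨fun y => ?_, hvp⟩
  have hsub : E ⊔ Subgroup.zpowers x ≤ Subgroup.centralizer ({v} : Set G) := by
    rw [sup_le_iff, Subgroup.zpowers_le]
    exact ⟨fun e he => Subgroup.mem_centralizer_singleton_iff.2 (hc e he).symm,
      Subgroup.mem_centralizer_singleton_iff.2 hxv⟩
  rw [h.sup_eq_top hG hx] at hsub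
  exact (Subgroup.mem_centralizer_singleton_iff.1 (hsub (Subgroup.mem_top y))).symm

/-- A moving member is the centraliser of `Ω₁(Z(E))`. -/
theorem mem_of_centralizes (hm : ¬ Inv Γ (zG p G)) {x : G} (hx : ∀ v ∈ vE p E, x * v = v * x) : x ∈ E := by
  by_contra hxE
  exact hm fun γ hγ z hz =>
    h.central_of_fixed hG hxE (inv_vE Γ γ hγ z (h.zG_le hG hz)) (hx _ (inv_vE Γ γ hγ z (h.zG_le hG hz)))

theorem zG_lt (hm : ¬ Inv Γ (zG p G)) : zG p G < vE p E :=
  lt_of_le_of_ne (h.zG_le hG) fun e => hm (e.symm ▸ inv_vE Γ)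

theorem vE_normal : (vE p E).Normal := h.normal_of_inv (inv_vE Γ) (vE_le p E)

end Member

end Cfsg.Agent.Local.FS.AllNormal
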