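import Cfsg.Agent.Lib.Local.FS.RankThreeAllNormal.Unique

/-!
When every `Ω₁Z` of a moving member lies in all members, the conjugates of `Ω₁Z(E₁)` in another
member commute with it.
-/

set_option autoImplicit false
set_option linter.style.haveILetI false
set_option linter.unusedSectionVars false

open scoped commutatorElement

namespace Cfsg.Agent.Local.FS.AllNormal

universe u

variable {G : Type u} [Group G] [Finite G] {p : ℕ} [hp : Fact p.Prime] {A : Subgroup (MulAut G)}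

/-- Commutators and powers of a generating set pass to the generated subgroup, modulo `N`. -/
theorem ea_mod {N : Subgroup G} [N.Normal] {s : Set G} (hc : ∀ x ∈ s, ∀ y ∈ s, ⁅x, y⁆ ∈ N)
    (hpw : ∀ x ∈ s, x ^ p ∈ N) :
    (∀ x ∈ Subgroup.closure s, ∀ y ∈ Subgroup.closure s, ⁅x, y⁆ ∈ N) ∧
      ∀ x ∈ Subgroup.closure s, x ^ p ∈ N := by
  have h := EA.of_closure (p := p) (s := (QuotientGroup.mk' N) '' s) ?_ ?_
  · have hm : ∀ x ∈ Subgroup.closure s, QuotientGroup.mk' N x ∈ Subgroup.closure ((QuotientGroup.mk' N) '' s) :=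
      fun x hx => by rw [← MonoidHom.map_closure]; exact Subgroup.mem_map_of_mem _ hx
    refine ⟨fun x hx y hy => mk_eq_one.1 ?_, fun x hx => mk_eq_one.1 ?_⟩
    · rw [map_commutatorElement, commutatorElement_eq_one_iff_mul_comm]; exact h.1 _ (hm x hx) _ (hm y hy)
    · rw [map_pow]; exact h.2 _ (hm x hx)
  · rintro _ ⟨a, ha, rfl⟩ _ ⟨b, hb, rfl⟩
    rw [← commutatorElement_eq_one_iff_mul_comm, ← map_commutatorElement, mk_eq_one]
    exact hc a ha b hb
  · rintro _ ⟨a, ha, rfl⟩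
    rw [← map_pow, mk_eq_one]
    exact hpw a ha

/-- An element normalising `M` normalises `Φ(M)`. -/
theorem phi_conj_mem {M : Subgroup G} {e : G} (he : e ∈ Subgroup.normalizer (M : Set G)) {n : G}
    (hn : n ∈ phi M) : e * n * e⁻¹ ∈ phi M := by
  obtain ⟨γ, hγ⟩ : ∃ γ : MulAut M, ∀ x : M, (γ x : G) = e * x * e⁻¹ :=
    ⟨{ toFun := fun x => ⟨e * x * e⁻¹, (Subgroup.mem_normalizer_iff.1 he x).1 x.2⟩
       invFun := fun x => ⟨e⁻¹ * x * e, (Subgroup.mem_normalizer_iff.1 he _).2 (by simp [mul_assoc])⟩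
       left_inv := fun x => Subtype.ext (by simp [mul_assoc])
       right_inv := fun x => Subtype.ext (by simp [mul_assoc])
       map_mul' := fun x y => Subtype.ext (by simp [mul_assoc]) }, fun x => rfl⟩
  have h := inv_phi (⊤ : Subgroup (MulAut M)) γ trivial n hn
  rwa [ap_apply γ (phi_le M hn), hγ] at h

/-- A subgroup that is cyclic modulo `Φ` and a central element is commutative. -/
theorem comm_of_small (hG : IsPGroup p G) {D : Subgroup G} {c : G} (hc : ∀ y, c * y = y * c) (hcD : c ∈ D)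
    (hcard : Nat.card D ≤ Nat.card (phi D ⊔ Subgroup.zpowers c : Subgroup G) * p) :
    ∀ x ∈ D, ∀ y ∈ D, x * y = y * x := by
  have hcM : Subgroup.zpowers c ≤ D := Subgroup.zpowers_le.2 hcD
  have hle : phi D ⊔ Subgroup.zpowers c ≤ D := sup_le (phi_le D) hcM
  by_cases heq : phi D ⊔ Subgroup.zpowers c = D
  · have h := eq_of_sup_phi (E := D) hcM (by rw [sup_comm, heq])
    intro x hx y _
    rw [← h] at hx
    obtain ⟨i, rfl⟩ := Subgroup.mem_zpowers_iff.1 hx
    exact ((show Commute c y from hc y).zpow_left i).eq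
  · obtain ⟨m, hm, hm0⟩ := SetLike.exists_of_lt (lt_of_le_of_ne hle heq)
    have h1 := sup_zpowers_eq hG hle hcard hm hm0
    have h2 := eq_of_sup_phi (E := D) (X := Subgroup.zpowers c ⊔ Subgroup.zpowers m)
      (sup_le hcM (Subgroup.zpowers_le.2 hm)) (by rw [sup_comm _ (phi D), ← sup_assoc, h1])
    intro x hx y hy
    rw [← h2] at hx hy
    have hsub : Subgroup.zpowers c ⊔ Subgroup.zpowers m ≤ Subgroup.centralizer ({m} : Set G) :=
      sup_le (Subgroup.zpowers_le.2 (Subgroup.mem_centralizer_singleton_iff.2 (hc m)))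
        (Subgroup.zpowers_le.2 (Subgroup.mem_centralizer_singleton_iff.2 rfl))
    have hsub2 : Subgroup.zpowers c ⊔ Subgroup.zpowers m ≤ Subgroup.centralizer ({x} : Set G) :=
      sup_le (Subgroup.zpowers_le.2 (Subgroup.mem_centralizer_singleton_iff.2 (hc x)))
        (Subgroup.zpowers_le.2 (Subgroup.mem_centralizer_singleton_iff.2
          (Subgroup.mem_centralizer_singleton_iff.1 (hsub hx)).symm))
    exact (Subgroup.mem_centralizer_singleton_iff.1 (hsub2 hy)).symm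

variable {E₁ E₂ : Subgroup G} {Γ₁ : Subgroup (MulAut E₁)} {Γ₂ : Subgroup (MulAut E₂)}

/-- The conjugates of `Ω₁Z(E₁)` commute with it. -/
theorem Ctx.commute_img (C : Ctx p A) (hc : Contained p A) (h₁ : Member p A E₁ Γ₁)
    (hm₁ : ¬ Inv Γ₁ (zG p G)) (h₂ : Member p A E₂ Γ₂) (hne : E₂ ≠ E₁) {g : MulAut E₂} (hg : g ∈ Γ₂)
    {a : G} (ha : a ∈ vE p E₁) {b : G} (hb : b ∈ img g (vE p E₁)) : a * b = b * a := by
  by_contra hab
  have hG := C.pgroup
  have hodd := hp.out.odd_of_ne_two C.ne_two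
  have hp' := hp.out
  have hm₂ : Inv Γ₂ (zG p G) := by_contra fun h => hne (C.unique hc h₁ hm₁ h₂ h)
  haveI := h₁.normal
  haveI := h₂.normal
  haveI hVn := h₁.vE_normal hG
  haveI := zG_normal (G := G) p
  have hV2 : vE p E₁ ≤ E₂ := hc E₁ E₂ Γ₁ Γ₂ h₁ hm₁ h₂
  have hV1 := vE_le p E₁
  have hVab := ea_vE p E₁
  have hb2 : b ∈ E₂ := img_le g _ hb
  have hbE1 : b ∉ E₁ := fun h => hab ((mem_vE.1 ha).2.1 b h)
  have hZV := h₁.zG_le hG
  have haZ : a ∉ zG p G := fun h => hab ((mem_zG.1 h).1 b)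
  have hgn := img_normalized (E := E₂) hV2 (fun e _ n hn => hVn.conj_mem n hn e) g
  have hgea : EA p (img g (vE p E₁)) := by
    refine ⟨fun x hx y hy => ?_, fun x hx => ?_⟩
    · obtain ⟨x', hx', hxE, rfl⟩ := mem_img.1 hx
      obtain ⟨y', hy', hyE, rfl⟩ := mem_img.1 hy
      rw [← ap_mul g hxE hyE, ← ap_mul g hyE hxE, hVab.1 x' hx' y' hy']
    · obtain ⟨x', hx', hxE, rfl⟩ := mem_img.1 hx
      rw [← ap_pow g hxE, hVab.2 x' hx', ap_one]
  have hZg : zG p G ≤ img g (vE p E₁) := fun z hz => by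
    have hzE : z ∈ E₂ := (h₂.zG_le hG).trans (vE_le p E₂) hz
    rw [← ap_ap_inv g hzE]
    exact ap_mem_img (hZV (hm₂ _ (Γ₂.inv_mem hg) z hz)) (ap_mem _ hzE)
  obtain ⟨M, hM⟩ : ∃ M, M = E₁ ⊓ E₂ := ⟨_, rfl⟩
  have hM1 : M ≤ E₁ := hM ▸ inf_le_left
  have hM2 : M ≤ E₂ := hM ▸ inf_le_right
  haveI hMn : M.Normal := hM ▸ inferInstance
  have hVM : vE p E₁ ≤ M := hM ▸ le_inf hV1 hV2
  have hcent : ∀ {w}, w ∈ vE p E₁ → b * w = w * b → w ∈ zG p G := fun {w} hw h =>
    h₁.central_of_fixed hG hbE1 hw h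
  -- orders
  obtain ⟨V', hV'⟩ : ∃ V', V' = img g (vE p E₁) := ⟨_, rfl⟩
  rw [← hV'] at hgn hgea hZg hb
  have hcV' : Nat.card V' = Nat.card (vE p E₁) := hV' ▸ card_img g hV2
  have hV'2 : V' ≤ E₂ := hV' ▸ img_le g _
  have hcV'E : Nat.card V' = p * Nat.card (E₁ ⊓ V' : Subgroup G) := h₁.card_inf hG fun h => hbE1 (h hb)
  have hinf : E₁ ⊓ V' ≤ zG p G := by
    intro w hw
    have h1 : EA p (vE p E₁ ⊔ (E₁ ⊓ V')) := EA.sup hVab (hgea.mono inf_le_right)
      fun x hx y hy => (mem_vE.1 hx).2.1 y hy.1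
    by_cases hwV : w ∈ vE p E₁
    · exact hcent hwV (hgea.1 b hb w hw.2)
    exfalso
    have hlt : vE p E₁ < vE p E₁ ⊔ (E₁ ⊓ V') := lt_of_le_of_ne le_sup_left fun e =>
      hwV (e.ge (Subgroup.mem_sup_right hw))
    have h3 := (card_lt_mul hG hlt).trans (EA.card_le C.rank h1)
    -- then `Ω₁Z(G)` exhausts the meet
    have h4 := card_lt_mul hG (h₁.zG_lt hG hm₁)
    haveI : Nontrivial G := ⟨⟨b, 1, fun e => hbE1 (e ▸ one_mem _)⟩⟩
    obtain ⟨k, hk⟩ := card_pow hG (zG p G)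
    obtain ⟨r, hr⟩ := card_pow hG (vE p E₁)
    have hk0 : k ≠ 0 := fun e => zG_ne_bot hG (Subgroup.card_eq_one.1 (by rw [hk, e, pow_zero]))
    rw [hr, ← pow_succ] at h3
    rw [hk, hr, ← pow_succ] at h4
    have h3' := (Nat.pow_le_pow_iff_right hp'.one_lt).1 h3
    have h4' := (Nat.pow_le_pow_iff_right hp'.one_lt).1 h4
    have hk1 : k = 1 := by omega
    have hr2 : r = 2 := by omega
    have hle : zG p G ≤ E₁ ⊓ V' := le_inf (hZV.trans hV1) hZg
    have heq := Subgroup.eq_of_le_of_card_ge hle (by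
      rw [hcV', hr, hr2, sq] at hcV'E
      rw [hk, hk1, pow_one, ← Nat.eq_of_mul_eq_mul_left hp'.pos hcV'E])
    exact hwV (hZV (heq.ge hw))
  have hcVZ : Nat.card (vE p E₁) ≤ Nat.card (zG p G) * p := by
    rw [← hcV', hcV'E, mul_comm]
    exact Nat.mul_le_mul_right p (Subgroup.card_le_of_le hinf)
  have hVgen : zG p G ⊔ Subgroup.zpowers a = vE p E₁ := sup_zpowers_eq hG hZV hcVZ ha haZ
  have hbVM : b ∉ M := fun h => hbE1 (hM1 h)
  have hcE2 : Nat.card E₂ = p * Nat.card M := hM ▸ h₁.card_inf hG fun h => hbE1 (h hb2)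
  have hE2gen : M ⊔ Subgroup.zpowers b = E₂ := sup_zpowers_eq hG hM2 (by rw [hcE2, mul_comm]) hb2 hbVM
  -- the common centraliser
  obtain ⟨D, hD⟩ : ∃ D, D = M ⊓ img g M := ⟨_, rfl⟩
  have hDM : D ≤ M := hD ▸ inf_le_left
  have hDb : ∀ d ∈ D, d * b = b * d := by
    intro d hd
    obtain ⟨m, hm, hmE, rfl⟩ := mem_img.1 (hD ▸ hd).2
    obtain ⟨w, hw, hwE, rfl⟩ := mem_img.1 (hV'.le hb)
    rw [← ap_mul g hmE hwE, ← ap_mul g hwE hmE, (mem_vE.1 hw).2.1 m (hM1 hm)]
  have hDa : ∀ d ∈ D, a * d = d * a := fun d hd => (mem_vE.1 ha).2.1 d (hM1 (hDM hd))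
  have haD : a ∉ D := fun h => haZ (hcent ha (hDb a h).symm)
  have hgM := img_normalized (E := E₂) hM2 (fun e _ n hn => hMn.conj_mem n hn e) g
  have hDn2 : ∀ e ∈ E₂, ∀ d ∈ D, e * d * e⁻¹ ∈ D := fun e he d hd => hD ▸
    ⟨hMn.conj_mem d (hDM hd) e, hgM e he d (hD ▸ hd).2⟩
  have hcMD : Nat.card M ≤ Nat.card D * p := by
    have h1 := Solv.card_sup_mul_card_inf' M (img g M) (fun y _ => by
      rw [Subgroup.normalizer_eq_top]; exact Subgroup.mem_top y)
    have h2 : Nat.card (M ⊔ img g M : Subgroup G) ≤ p * Nat.card M :=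
      hcE2 ▸ Subgroup.card_le_of_le (sup_le hM2 (img_le g M))
    rw [← hD, card_img g hM2] at h1
    have h3 : Nat.card M * Nat.card M ≤ p * Nat.card M * Nat.card D :=
      h1.ge.trans (Nat.mul_le_mul_right _ h2)
    refine Nat.le_of_mul_le_mul_left (c := Nat.card M) ?_ Nat.card_pos
    calc Nat.card M * Nat.card M ≤ p * Nat.card M * Nat.card D := h3
      _ = Nat.card M * (Nat.card D * p) := by ring
  have hMgen : D ⊔ Subgroup.zpowers a = M := sup_zpowers_eq hG hDM hcMD (hVM ha) haD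
  obtain ⟨c, hcd⟩ : ∃ c, c = ⁅b, a⁆ := ⟨_, rfl⟩
  have hcV : c ∈ vE p E₁ := by
    rw [hcd, commutatorElement_def]
    exact (vE p E₁).mul_mem (hVn.conj_mem a ha b) ((vE p E₁).inv_mem ha)
  have hcV'' : c ∈ V' := by
    rw [hcd, commutatorElement_def, mul_assoc, mul_assoc, ← mul_assoc a]
    exact V'.mul_mem hb (hgn a (hV2 ha) _ (V'.inv_mem hb))
  have hcZ : c ∈ zG p G := hinf ⟨hV1 hcV, hcV''⟩
  have hc1 : c ≠ 1 := fun e => hab (commutatorElement_eq_one_iff_mul_comm.1 (hcd ▸ e)).symm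
  have hZD : zG p G ≤ D := hD ▸ fun z hz => ⟨hVM (hZV hz), by
    have hzE : z ∈ E₂ := (h₂.zG_le hG).trans (vE_le p E₂) hz
    rw [← ap_ap_inv g hzE]
    exact ap_mem_img (hVM (hZV (hm₂ _ (Γ₂.inv_mem hg) z hz))) (ap_mem _ hzE)⟩
  have hE2cl : E₂ ≤ Subgroup.closure ((D : Set G) ∪ {a, b}) := by
    rw [← hE2gen, ← hMgen]
    exact sup_le (sup_le (fun d hd => Subgroup.subset_closure (Or.inl hd))
      (Subgroup.zpowers_le.2 (Subgroup.subset_closure (Or.inr (Or.inl rfl)))))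
      (Subgroup.zpowers_le.2 (Subgroup.subset_closure (Or.inr (Or.inr rfl))))
  -- `D` is commutative
  have hDab : ∀ x ∈ D, ∀ y ∈ D, x * y = y * x := by
    obtain ⟨N, hN⟩ : ∃ N, N = phi D ⊔ Subgroup.zpowers c := ⟨_, rfl⟩
    refine comm_of_small hG (mem_zG.1 hcZ).1 (hZD hcZ) (hN ▸ ?_)
    have hND : N ≤ D := hN ▸ sup_le (phi_le D) (Subgroup.zpowers_le.2 (hZD hcZ))
    have hnorm : E₂ ≤ Subgroup.normalizer (N : Set G) := by
      have hkey : ∀ e ∈ E₂, ∀ n ∈ N, e * n * e⁻¹ ∈ N := by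
        intro e he n hn
        have hen : e ∈ Subgroup.normalizer (D : Set G) := Subgroup.mem_normalizer_iff.2 fun d =>
          ⟨hDn2 e he d, fun hd => by simpa [mul_assoc] using hDn2 e⁻¹ (E₂.inv_mem he) _ hd⟩
        haveI := zG_zpowers_normal hcZ
        rw [hN] at hn ⊢
        obtain ⟨f, hf, w, hw, rfl⟩ := Subgroup.mem_sup_of_normal_right.1 hn
        rw [show e * (f * w) * e⁻¹ = e * f * e⁻¹ * (e * w * e⁻¹) by group]
        exact Subgroup.mul_mem_sup (phi_conj_mem hen hf) ((zG_zpowers_normal hcZ).conj_mem w hw e)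
      exact fun e he => Subgroup.mem_normalizer_iff.2 fun n =>
        ⟨hkey e he n, fun hn => by simpa [mul_assoc] using hkey e⁻¹ (E₂.inv_mem he) _ hn⟩
    haveI : (N.subgroupOf E₂).Normal := Subgroup.normal_subgroupOf_of_le_normalizer hnorm
    have hcN : c ∈ N := hN ▸ Subgroup.mem_sup_right (Subgroup.mem_zpowers c)
    have hΦN : phi D ≤ N := hN ▸ le_sup_left
    have hq := ea_mod (G := E₂) (p := p) (N := N.subgroupOf E₂)
      (s := Subtype.val ⁻¹' ((D : Set G) ∪ {a, b})) ?_ ?_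
    · have htop : ∀ x : E₂, x ∈ Subgroup.closure (Subtype.val ⁻¹' ((D : Set G) ∪ {a, b}) : Set E₂) := by
        intro x
        have hsub : (D : Set G) ∪ {a, b} ⊆ E₂ := by
          rintro y (hy | rfl | rfl)
          exacts [hM2 (hDM hy), hV2 ha, hb2]
        have h1 : E₂ ≤ (Subgroup.closure (Subtype.val ⁻¹' ((D : Set G) ∪ {a, b}) : Set E₂)).map E₂.subtype := by
          rw [MonoidHom.map_closure, Subgroup.coe_subtype, Set.image_preimage_eq_inter_range,
            Subtype.range_coe, Set.inter_eq_left.2 hsub]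
          exact hE2cl
        obtain ⟨y, hy, hyx⟩ := h1 x.2
        rwa [show x = y from Subtype.ext hyx.symm]
      have h := RankThreeNormal.card_le_rank C.rank (A := E₂) (hND.trans (hDM.trans hM2))
        (fun e he n hn => (Subgroup.mem_normalizer_iff.1 (hnorm he) n).1 hn)
        (fun x hx y hy => hq.1 ⟨x, hx⟩ (htop _) ⟨y, hy⟩ (htop _))
        (fun x hx => hq.2 ⟨x, hx⟩ (htop _))
      have h2 := card_lt_mul hG (lt_of_le_of_ne hDM fun e => haD (e ▸ hVM ha))
      rw [hcE2] at h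
      have h3 : p * p * Nat.card D ≤ p * p * (Nat.card N * p) :=
        calc p * p * Nat.card D = p * (Nat.card D * p) := by ring
          _ ≤ p * Nat.card M := Nat.mul_le_mul_left p h2
          _ ≤ p ^ 3 * Nat.card N := h
          _ = p * p * (Nat.card N * p) := by ring
      exact Nat.le_of_mul_le_mul_left h3 (Nat.mul_pos hp'.pos hp'.pos)
    · rintro ⟨x, hx⟩ hxs ⟨y, hy⟩ hys
      show ⁅x, y⁆ ∈ N
      have hone : ∀ {x y : G}, x * y = y * x → ⁅x, y⁆ ∈ N := fun h => by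
        rw [commutatorElement_eq_one_iff_mul_comm.2 h]; exact one_mem _
      simp only [Set.mem_preimage, Set.mem_union, SetLike.mem_coe, Set.mem_insert_iff, Set.mem_singleton_iff]
        at hxs hys
      rcases hxs with hxs | rfl | rfl <;> rcases hys with hys | rfl | rfl
      · exact hΦN (comm_mem_phi hG hxs hys)
      · exact hone (hDa x hxs).symm
      · exact hone (hDb x hxs)
      · exact hone (hDa y hys)
      · exact hone rfl
      · rw [← commutatorElement_inv, ← hcd]; exact inv_mem hcN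
      · exact hone (hDb y hys).symm
      · rw [← hcd]; exact hcN
      · exact hone rfl
    · rintro ⟨x, hx⟩ hxs
      show x ^ p ∈ N
      simp only [Set.mem_preimage, Set.mem_union, SetLike.mem_coe, Set.mem_insert_iff, Set.mem_singleton_iff] at hxs
      rcases hxs with hxs | rfl | rfl
      · exact hΦN (pow_mem_phi hG hxs)
      · rw [hVab.2 _ ha]; exact one_mem _
      · rw [hgea.2 _ hb]; exact one_mem _
  have hDc : ∀ d ∈ D, ∀ e ∈ E₂, d * e = e * d := by
    intro d hd e he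
    have hsub : Subgroup.closure ((D : Set G) ∪ {a, b}) ≤ Subgroup.centralizer ({d} : Set G) := by
      rw [Subgroup.closure_le]
      rintro y (hy | rfl | rfl) <;> refine Subgroup.mem_centralizer_singleton_iff.2 ?_
      exacts [(hDab d hd y hy).symm, hDa d hd, (hDb d hd).symm]
    exact (Subgroup.mem_centralizer_singleton_iff.1 (hsub (hE2cl he))).symm
  -- `D` is the centre of `E₂`
  have hDmem : ∀ x ∈ E₂, (∀ e ∈ E₂, x * e = e * x) → x ∈ D := by
    intro x hx hxc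
    have hxE1 : x ∈ E₁ := h₁.mem_of_centralizes hG hm₁ fun w hw => hxc w (hV2 hw)
    have hxM : x ∈ M := hM ▸ ⟨hxE1, hx⟩
    rw [← hMgen] at hxM
    haveI : (D.subgroupOf E₂).Normal := ⟨fun n hn e => hDn2 e e.2 n hn⟩
    have hex : ∃ d ∈ D, ∃ i : ℤ, x = d * a ^ i := by
      rw [← Subgroup.closure_eq D, Subgroup.zpowers_eq_closure, ← Subgroup.closure_union] at hxM
      clear hxc hx hxE1
      induction hxM using Subgroup.closure_induction with
      | mem y hy =>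
        rcases hy with hy | hy
        · exact ⟨y, hy, 0, by rw [zpow_zero, mul_one]⟩
        · rw [Set.mem_singleton_iff] at hy; exact ⟨1, one_mem _, 1, by rw [hy, zpow_one, one_mul]⟩
      | one => exact ⟨1, one_mem _, 0, by simp⟩
      | mul y y' _ _ iy iy' =>
        obtain ⟨d, hd, i, rfl⟩ := iy
        obtain ⟨d', hd', i', rfl⟩ := iy'
        refine ⟨d * d', mul_mem hd hd', i + i', ?_⟩
        rw [mul_assoc d, ← mul_assoc (a ^ i) d', ((show Commute a d' from hDa d' hd').zpow_left i).eq, zpow_add]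
        group
      | inv y _ iy =>
        obtain ⟨d, hd, i, rfl⟩ := iy
        refine ⟨d⁻¹, inv_mem hd, -i, ?_⟩
        rw [mul_inv_rev, zpow_neg, (((show Commute a d from hDa d hd).zpow_left i).inv_inv).eq]
    obtain ⟨d, hd, i, rfl⟩ := hex
    have h1 : b * a ^ i = a ^ i * b := by
      have e := hxc b hb2
      rw [mul_assoc d, ← mul_assoc b d, ← hDb d hd, mul_assoc d] at e
      exact (mul_left_cancel e).symm
    exact D.mul_mem hd (hZD (hcent ((vE p E₁).zpow_mem ha i) h1))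
  have hDinv : Inv Γ₂ D := by
    intro γ hγ d hd
    have hdE := hM2 (hDM hd)
    refine hDmem _ (ap_mem γ hdE) fun e he => ?_
    rw [← ap_ap_inv γ he, ← ap_mul γ hdE (ap_mem _ he), ← ap_mul γ (ap_mem _ he) hdE, hDc d hd _ (ap_mem _ he)]
  haveI hDn : D.Normal := h₂.normal_of_inv hDinv (hDM.trans hM2)
  -- an element of `E₁` outside `E₂`
  obtain ⟨v, hv, hv2⟩ : ∃ v ∈ E₁, v ∉ E₂ := by
    by_contra hno
    push Not at hno
    refine hne (Subgroup.eq_of_le_of_card_ge hno ?_).symm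
    have e := h₁.card_eq hG
    rw [h₂.card_eq hG] at e
    exact (Nat.eq_of_mul_eq_mul_right hp'.pos e).le
  have hav : a * v = v * a := (mem_vE.1 ha).2.1 v hv
  obtain ⟨q, hqd⟩ : ∃ q, q = ⁅b, v⁆ := ⟨_, rfl⟩
  have hqM : q ∈ M := hqd ▸ hM ▸ ⟨h₁.comm_mem b v, h₂.comm_mem b v⟩
  have hqD : q ∉ D := by
    intro hq
    have hΦD : phi E₂ ≤ D := by
      have hq2 := ea_mod (N := D) (p := p) (s := (D : Set G) ∪ {a, b}) ?_ ?_
      · exact phi_le_of (fun e _ n hn => hDn.conj_mem n hn e) (fun x hx => hq2.2 x (hE2cl hx))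
          (fun x hx y hy => hq2.1 x (hE2cl hx) y (hE2cl hy))
      · have hone : ∀ {x y : G}, x * y = y * x → ⁅x, y⁆ ∈ D := fun h => by
          rw [commutatorElement_eq_one_iff_mul_comm.2 h]; exact one_mem _
        rintro x (hx | rfl | rfl) y (hy | rfl | rfl)
        exacts [hone (hDab x hx y hy), hone (hDa x hx).symm, hone (hDb x hx), hone (hDa y hy), hone rfl,
          by rw [← commutatorElement_inv, ← hcd]; exact inv_mem (hZD hcZ), hone (hDb y hy).symm,
          hcd ▸ hZD hcZ, hone rfl]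
      · rintro x (hx | rfl | rfl)
        exacts [pow_mem hx p, by rw [hVab.2 _ ha]; exact one_mem _, by rw [hgea.2 _ hb]; exact one_mem _]
    have hvD : ∀ e ∈ E₂, ⁅v, e⁆ ∈ D := by
      have hle : Subgroup.closure ((D : Set G) ∪ {a, b}) ≤
          (Subgroup.centralizer ({QuotientGroup.mk' D v} : Set _)).comap (QuotientGroup.mk' D) := by
        rw [Subgroup.closure_le]
        rintro y (hy | rfl | rfl) <;> refine Subgroup.mem_centralizer_singleton_iff.2 ?_
        · rw [mk_eq_one.2 hy, one_mul, mul_one]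
        · rw [← map_mul, ← map_mul, hav]
        · rw [← commutatorElement_eq_one_iff_mul_comm, ← map_commutatorElement, mk_eq_one, ← hqd]; exact hq
      intro e he
      refine mk_eq_one.1 ?_
      rw [map_commutatorElement, commutatorElement_eq_one_iff_mul_comm]
      exact (Subgroup.mem_centralizer_singleton_iff.1 (hle (hE2cl he))).symm
    have hΦn := h₂.normal_of_inv (inv_phi Γ₂) (phi_le E₂)
    refine h₂.not_series hG hDinv (inv_phi Γ₂) (hDM.trans hM2) hΦD le_rfl hv2 hvD (fun d hd => ?_)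
      (fun e he => ?_)
    · refine central_step hG hDn hΦn hΦD ?_ v hd
      have h1 := card_le_phi hG C.rank hΦn
      have h2 := card_lt_mul hG (lt_of_le_of_ne hDM fun e => haD (e ▸ hVM ha))
      rw [hcE2] at h1
      have h3 : p * p * Nat.card D ≤ p * p * (Nat.card (phi E₂) * p) :=
        calc p * p * Nat.card D = p * (Nat.card D * p) := by ring
          _ ≤ p * Nat.card M := Nat.mul_le_mul_left p h2
          _ ≤ p ^ 3 * Nat.card (phi E₂) := h1
          _ = p * p * (Nat.card (phi E₂) * p) := by ring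
      exact Nat.le_of_mul_le_mul_left h3 (Nat.mul_pos hp'.pos hp'.pos)
    · have hc' := hΦn.conj_mem e he v
      rw [commutatorElement_def]; exact mul_mem hc' (inv_mem he)
  -- the shape of `q`
  obtain ⟨δ, hδ, w, hw, hqe⟩ : ∃ δ ∈ D, ∃ w ∈ Subgroup.zpowers a, δ * w = q :=
    Subgroup.mem_sup_of_normal_left.1 (hMgen.ge hqM)
  obtain ⟨i, rfl⟩ := Subgroup.mem_zpowers_iff.1 hw
  have haiV : a ^ i ∈ vE p E₁ := (vE p E₁).zpow_mem ha i
  have haiab : ⁅b, a ^ i⁆ ∈ zG p G := by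
    refine hinf ⟨hV1 ?_, ?_⟩
    · rw [commutatorElement_def]; exact mul_mem (hVn.conj_mem _ haiV b) (inv_mem haiV)
    · rw [commutatorElement_def, mul_assoc, mul_assoc, ← mul_assoc (a ^ i)]
      exact mul_mem hb (hgn _ (hV2 haiV) _ (inv_mem hb))
  have hδp : δ ^ p = 1 := by
    have h1 : (q⁻¹ * b) ^ p = 1 := by
      rw [show q⁻¹ * b = v * b * v⁻¹ by rw [hqd, commutatorElement_def]; group, conj_pow, hgea.2 b hb,
        mul_one, mul_inv_cancel]
    have e : q⁻¹ * b = δ⁻¹ * ((a ^ i)⁻¹ * b) := by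
      rw [← hqe, mul_inv_rev, ← mul_assoc]
      congr 1
      exact (((show Commute a δ from hDa δ hδ).zpow_left i).inv_inv).eq
    have h2 : ((a ^ i)⁻¹ * b) ^ p = 1 := by
      have hcm : ⁅b, (a ^ i)⁻¹⁆ ∈ zG p G := by
        have h := (zG_normal p).conj_mem _ (inv_mem haiab) (a ^ i)⁻¹
        rwa [show (a ^ i)⁻¹ * ⁅b, a ^ i⁆⁻¹ * (a ^ i)⁻¹⁻¹ = ⁅b, (a ^ i)⁻¹⁆ by
          simp [commutatorElement_def, mul_assoc]] at h
      rw [mul_pow_two hodd ((mem_zG.1 hcm).1 _).symm ((mem_zG.1 hcm).1 _).symm (mem_zG.1 hcm).2,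
        hVab.2 _ (inv_mem haiV), hgea.2 b hb, one_mul]
    rw [e, (show Commute δ⁻¹ ((a ^ i)⁻¹ * b) from
      hDc _ (inv_mem hδ) _ (mul_mem (hV2 (inv_mem haiV)) hb2)).mul_pow, h2, mul_one, inv_pow,
      inv_eq_one] at h1
    exact h1
  have haiD : a ^ i ∉ D := fun h => hqD (hqe ▸ mul_mem hδ h)
  have haiZ : a ^ i ∉ zG p G := fun h => haiD (hZD h)
  have hvδ : ⁅v, δ⁆ ∈ zG p G := by
    obtain ⟨O, hO⟩ : ∃ O, O = Subgroup.closure {x | x ∈ D ∧ x ^ p = 1} := ⟨_, rfl⟩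
    have hOea : EA p O := hO ▸ EA.of_closure (fun x hx y hy => hDab x hx.1 y hy.1) fun x hx => hx.2
    have hOD : O ≤ D := hO ▸ (Subgroup.closure_le D).2 fun x hx => hx.1
    haveI : O.Normal := ⟨fun n hn e => hO ▸ Subgroup.subset_closure
      ⟨hDn.conj_mem n (hOD hn) e, by rw [conj_pow, hOea.2 n hn, mul_one, mul_inv_cancel]⟩⟩
    have hZO : zG p G ≤ O := fun z hz => hO ▸ Subgroup.subset_closure ⟨hZD hz, (mem_zG.1 hz).2⟩
    refine central_step hG inferInstance (zG_normal p) hZO ?_ v (hO ▸ Subgroup.subset_closure ⟨hδ, hδp⟩)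
    have h1 := EA.card_le C.rank (EA.sup hVab hOea fun x hx y hy => (mem_vE.1 hx).2.1 y (hM1 (hDM (hOD hy))))
    have h2 := Solv.card_sup_mul_card_inf' (vE p E₁) O (fun y _ => by
      rw [Subgroup.normalizer_eq_top]; exact Subgroup.mem_top y)
    have h3 : Nat.card (vE p E₁ ⊓ O : Subgroup G) ≤ Nat.card (zG p G) :=
      Subgroup.card_le_of_le fun x hx => hcent hx.1 (hDb x (hOD hx.2)).symm
    have h4 := card_lt_mul hG (h₁.zG_lt hG hm₁)
    haveI : Nontrivial G := ⟨⟨b, 1, fun e => hbE1 (e ▸ one_mem _)⟩⟩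
    obtain ⟨k, hk⟩ := card_pow hG (zG p G)
    have hk0 : k ≠ 0 := fun e => zG_ne_bot hG (Subgroup.card_eq_one.1 (by rw [hk, e, pow_zero]))
    obtain ⟨j, hj⟩ := card_pow hG O
    have h5 : p ^ (k + 1) * p ^ j ≤ p ^ 3 * p ^ k := by
      rw [← hk, pow_succ, ← hk, ← hj]
      exact (Nat.mul_le_mul_right _ h4).trans (h2.ge.trans (Nat.mul_le_mul h1 h3))
    rw [← pow_add, ← pow_add] at h5
    have h6 := (Nat.pow_le_pow_iff_right hp'.one_lt).1 h5
    rw [hj, hk, ← pow_succ]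
    exact Nat.pow_le_pow_right hp'.pos (by omega)
  have hvp : v ^ p ∈ D := by
    have hvpM : v ^ p ∈ M := hM ▸ ⟨E₁.pow_mem hv p, h₂.pow_mem' v⟩
    have h1 : b * v ^ p * b⁻¹ = v ^ p := by
      rw [← conj_pow, show b * v * b⁻¹ = a ^ i * (δ * v) by
          rw [← mul_assoc, ((show Commute a δ from hDa δ hδ).zpow_left i).eq, hqe, hqd, commutatorElement_def]
          group,
        (show Commute (a ^ i) (δ * v) from (mem_vE.1 haiV).2.1 _ (mul_mem (hM1 (hDM hδ)) hv)).mul_pow,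
        hVab.2 _ haiV, one_mul,
        mul_pow_two hodd ((mem_zG.1 hvδ).1 _).symm ((mem_zG.1 hvδ).1 _).symm (mem_zG.1 hvδ).2, hδp, one_mul]
    obtain ⟨d, hd, w, hw', hde⟩ := Subgroup.mem_sup_of_normal_left.1 (hMgen.ge hvpM)
    obtain ⟨j, rfl⟩ := Subgroup.mem_zpowers_iff.1 hw'
    rw [← hde] at h1 ⊢
    refine D.mul_mem hd (hZD (hcent ((vE p E₁).zpow_mem ha j) ?_))
    rw [mul_inv_eq_iff_eq_mul, ← mul_assoc, ← hDb d hd, mul_assoc, mul_assoc] at h1
    exact mul_left_cancel h1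
  have hcE1 : Nat.card E₁ = p * Nat.card M := by
    have e := h₁.card_eq hG
    rw [h₂.card_eq hG, hcE2] at e
    exact (Nat.eq_of_mul_eq_mul_right hp'.pos e).symm
  have hE1gen : M ⊔ Subgroup.zpowers v = E₁ :=
    sup_zpowers_eq hG hM1 (by rw [hcE1, mul_comm]) hv fun h => hv2 (hM2 h)
  have hΦ1 : phi E₁ ≤ D := by
    have hq2 := ea_mod (N := D) (p := p) (s := (D : Set G) ∪ {a, v}) ?_ ?_
    · have hsub : E₁ ≤ Subgroup.closure ((D : Set G) ∪ {a, v}) := by
        rw [← hE1gen, ← hMgen]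
        exact sup_le (sup_le (fun d hd => Subgroup.subset_closure (Or.inl hd))
          (Subgroup.zpowers_le.2 (Subgroup.subset_closure (Or.inr (Or.inl rfl)))))
          (Subgroup.zpowers_le.2 (Subgroup.subset_closure (Or.inr (Or.inr rfl))))
      exact phi_le_of (fun e _ n hn => hDn.conj_mem n hn e) (fun x hx => hq2.2 x (hsub hx))
        (fun x hx y hy => hq2.1 x (hsub hx) y (hsub hy))
    · have hl : ∀ {x} (y : G), x ∈ D → ⁅y, x⁆ ∈ D := fun {x} y hx => by
        rw [commutatorElement_def]; exact mul_mem (hDn.conj_mem x hx y) (inv_mem hx)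
      have hone : ∀ {x y : G}, x * y = y * x → ⁅x, y⁆ ∈ D := fun h => by
        rw [commutatorElement_eq_one_iff_mul_comm.2 h]; exact one_mem _
      rintro x (hx | rfl | rfl) y (hy | rfl | rfl)
      exacts [hl x hy, by rw [← commutatorElement_inv]; exact inv_mem (hl _ hx),
        by rw [← commutatorElement_inv]; exact inv_mem (hl _ hx), hl _ hy, hone rfl, hone hav,
        hl _ hy, hone hav.symm, hone rfl]
    · rintro x (hx | rfl | rfl)
      exacts [pow_mem hx p, by rw [hVab.2 _ ha]; exact one_mem _, hvp]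
  -- the commutator line
  obtain ⟨L, hL⟩ : ∃ L, L = Subgroup.closure {z | ∃ x : G, ∃ w ∈ vE p E₁, ⁅x, w⁆ = z} := ⟨_, rfl⟩
  have hLc : L ≤ Subgroup.zpowers c := by
    have hcn := zG_zpowers_normal hcZ
    obtain ⟨π, hπ⟩ : ∃ π, π = QuotientGroup.mk' (Subgroup.zpowers c) := ⟨_, rfl⟩
    have hVc : ∀ w ∈ vE p E₁, π b * π w = π w * π b := by
      intro w hw
      have hle : vE p E₁ ≤ (Subgroup.centralizer ({π b} : Set _)).comap π := by
        rw [← hVgen, sup_le_iff, Subgroup.zpowers_le]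
        refine ⟨fun z hz => Subgroup.mem_centralizer_singleton_iff.2 ?_, Subgroup.mem_centralizer_singleton_iff.2 ?_⟩
        · rw [← map_mul, ← map_mul, (mem_zG.1 hz).1 b]
        · refine (commutatorElement_eq_one_iff_mul_comm.1 ?_).symm
          rw [← map_commutatorElement, hπ, mk_eq_one, ← hcd]
          exact Subgroup.mem_zpowers c
      exact (Subgroup.mem_centralizer_singleton_iff.1 (hle hw)).symm
    rw [hL, Subgroup.closure_le]
    rintro _ ⟨x, w, hw, rfl⟩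
    have hle : (⊤ : Subgroup G) ≤ (Subgroup.centralizer ({π w} : Set _)).comap π := by
      rw [← h₁.sup_eq_top hG hbE1, sup_le_iff, Subgroup.zpowers_le]
      refine ⟨fun e he => Subgroup.mem_centralizer_singleton_iff.2 ?_,
        Subgroup.mem_centralizer_singleton_iff.2 (hVc w hw)⟩
      rw [← map_mul, ← map_mul, (mem_vE.1 hw).2.1 e he]
    refine mk_eq_one.1 ?_
    rw [map_commutatorElement, commutatorElement_eq_one_iff_mul_comm, ← hπ]
    exact Subgroup.mem_centralizer_singleton_iff.1 (hle (Subgroup.mem_top x))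
  have hcL : c ∈ L := hL ▸ Subgroup.subset_closure ⟨b, a, ha, hcd.symm⟩
  have hLZ : L ≤ zG p G := hLc.trans (Subgroup.zpowers_le.2 hcZ)
  have hLA : ∀ β ∈ A, ∀ z ∈ L, β z ∈ L := by
    intro β hβ
    obtain ⟨Γ', hΓ', hm'⟩ := h₁.exists_map_moving hm₁ hβ
    have hmap := C.unique hc h₁ hm₁ hΓ' hm'
    have hVinv : ∀ w ∈ vE p E₁, β w ∈ vE p E₁ := by
      intro w hw
      obtain ⟨hwE, hwc, hwp⟩ := mem_vE.1 hw
      refine mem_vE.2 ⟨hmap.le ⟨w, hwE, rfl⟩, fun e he => ?_, by rw [← map_pow, hwp, map_one]⟩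
      rw [← hmap] at he
      obtain ⟨e', he', rfl⟩ := he
      show β w * β e' = β e' * β w
      rw [← map_mul, hwc e' he', map_mul]
    have hle : L ≤ L.comap β.toMonoidHom := by
      conv_lhs => rw [hL]
      rw [Subgroup.closure_le]
      rintro _ ⟨x, w, hw, rfl⟩
      show β ⁅x, w⁆ ∈ L
      rw [map_commutatorElement, hL]
      exact Subgroup.subset_closure ⟨β x, β w, hVinv w hw, rfl⟩
    exact fun z hz => hle hz
  obtain ⟨Γ, hΓ, hΓc⟩ : ∃ Γ : Subgroup (MulAut E₁), Member p A E₁ Γ ∧ ¬ Inv Γ L := by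
    by_contra hno
    push Not at hno
    have hbot := C.core L hLA fun E Γ hE => ⟨hLZ.trans ((hE.zG_le hG).trans (vE_le p E)), by
      by_cases hEm : Inv Γ (zG p G)
      · exact hE.inv_of_central hG hEm (Inv.bot Γ) bot_le hLZ ((hE.zG_le hG).trans (vE_le p E))
          (fun x z hz => by
            rw [Subgroup.mem_bot, commutatorElement_eq_one_iff_mul_comm]; exact ((mem_zG.1 hz).1 x).symm)
          fun β hβ _ => hLA β hβ
      · obtain rfl := C.unique hc h₁ hm₁ hE hEm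
        exact hno Γ hE⟩
    rw [hbot, Subgroup.mem_bot] at hcL
    exact hc1 hcL
  have hΦn1 := h₁.normal_of_inv (inv_phi Γ₁) (phi_le E₁)
  obtain ⟨U, hU⟩ : ∃ U, U = vE p E₁ ⊓ phi E₁ := ⟨_, rfl⟩
  have hUZ : U ≤ zG p G := fun w hw => hcent (hU ▸ hw).1 (hDb w (hΦ1 (hU ▸ hw).2)).symm
  have hUinv : Inv Γ U := hU ▸ (inv_vE Γ).inf (inv_phi Γ)
  have hcU : c ∉ U := by
    intro hcU
    have hLU : L ≤ U := hLc.trans (Subgroup.zpowers_le.2 hcU)
    exact hΓc (hΓ.inv_of_central hG hUinv (Inv.bot Γ) bot_le hLU (hUZ.trans (hZV.trans hV1))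
      (fun x z hz => by
        rw [Subgroup.mem_bot, commutatorElement_eq_one_iff_mul_comm]; exact ((mem_zG.1 (hUZ hz)).1 x).symm)
      fun β hβ _ => hLA β hβ)
  by_cases hUb : U = ⊥
  · haveI := hΦn1
    have hΦb : phi E₁ = ⊥ := by
      by_contra hne'
      obtain ⟨z, hz, hzZ, hz1⟩ := exists_zG hG hne'
      exact hz1 (Subgroup.mem_bot.1 (hUb ▸ hU ▸ ⟨hZV hzZ, hz⟩))
    exact hv2 (hV2 (mem_vE.2 ⟨hv, fun e he => commutatorElement_eq_one_iff_mul_comm.1
      (Subgroup.mem_bot.1 (hΦb ▸ comm_mem_phi hG hv he)), Subgroup.mem_bot.1 (hΦb ▸ pow_mem_phi hG hv)⟩))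
  -- now `Ω₁Z(G)` has order `p²`
  have hcp : c ^ p = 1 := (mem_zG.1 hcZ).2
  have hcVU : p * p * Nat.card U ≤ Nat.card (vE p E₁) ∧ Nat.card (zG p G) = p * p := by
    obtain ⟨k, hk⟩ := card_pow hG (zG p G)
    obtain ⟨j, hj⟩ := card_pow hG U
    obtain ⟨r, hr⟩ := card_pow hG (vE p E₁)
    have h1 := card_lt_mul hG (h₁.zG_lt hG hm₁)
    have h2 := card_lt_mul hG (lt_of_le_of_ne hUZ fun e => hcU (e.ge hcZ))
    have h3 := EA.card_le C.rank hVab
    have hj0 : j ≠ 0 := fun e => hUb (Subgroup.card_eq_one.1 (by rw [hj, e, pow_zero]))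
    rw [hk, hr, ← pow_succ] at h1
    rw [hj, hk, ← pow_succ] at h2
    rw [hr] at h3
    have h1' := (Nat.pow_le_pow_iff_right hp'.one_lt).1 h1
    have h2' := (Nat.pow_le_pow_iff_right hp'.one_lt).1 h2
    have h3' := (Nat.pow_le_pow_iff_right hp'.one_lt).1 h3
    refine ⟨?_, ?_⟩
    · rw [hj, hr, ← sq, ← pow_add]
      exact Nat.pow_le_pow_right hp'.pos (by omega)
    · rw [hk, show k = 2 by omega, sq]
  obtain ⟨X, hX⟩ : ∃ X, X = vE p E₁ ⊔ phi E₁ := ⟨_, rfl⟩
  obtain ⟨L2, hL2⟩ : ∃ L2, L2 = Subgroup.zpowers c ⊔ phi E₁ := ⟨_, rfl⟩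
  haveI := zG_zpowers_normal hcZ
  haveI := hΦn1
  haveI hL2n : L2.Normal := hL2 ▸ inferInstance
  have hcX : Nat.card X * Nat.card U = Nat.card (vE p E₁) * Nat.card (phi E₁) := by
    rw [hX, hU]
    exact Solv.card_sup_mul_card_inf' (vE p E₁) (phi E₁) (fun y _ => by
      rw [Subgroup.normalizer_eq_top]; exact Subgroup.mem_top y)
  have hcL2 : Nat.card L2 = p * Nat.card (phi E₁) := by
    have h1 := Solv.card_sup_mul_card_inf' (Subgroup.zpowers c) (phi E₁) (fun y _ => by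
      rw [Subgroup.normalizer_eq_top]; exact Subgroup.mem_top y)
    rw [show Subgroup.zpowers c ⊓ phi E₁ = ⊥ from (Subgroup.eq_bot_iff_forall _).2 fun y hy =>
      eq_of_inf_zpowers hcp hcU (hU ▸ ⟨hZV ((Subgroup.zpowers_le.2 hcZ) hy.1), hy.2⟩) hy.1,
      Subgroup.card_bot, mul_one, ← hL2, card_zpowers_eq hcp hc1] at h1
    exact h1
  have hcX1 : p * p * Nat.card (phi E₁) ≤ Nat.card X := by
    refine Nat.le_of_mul_le_mul_right (c := Nat.card U) ?_ Nat.card_pos
    rw [hcX, mul_right_comm]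
    exact Nat.mul_le_mul_right _ hcVU.1
  have hcX2 : Nat.card X ≤ p * p * Nat.card (phi E₁) := by
    refine Nat.le_of_mul_le_mul_right (c := Nat.card U) ?_ Nat.card_pos
    rw [hcX]
    have h1 : Nat.card (vE p E₁) ≤ p ^ 3 := EA.card_le C.rank hVab
    obtain ⟨j, hj⟩ := card_pow hG U
    have hj0 : j ≠ 0 := fun e => hUb (Subgroup.card_eq_one.1 (by rw [hj, e, pow_zero]))
    calc Nat.card (vE p E₁) * Nat.card (phi E₁) ≤ p ^ 3 * Nat.card (phi E₁) := Nat.mul_le_mul_right _ h1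
      _ = p * p * Nat.card (phi E₁) * p ^ 1 := by ring
      _ ≤ p * p * Nat.card (phi E₁) * Nat.card U :=
          Nat.mul_le_mul_left _ (hj ▸ Nat.pow_le_pow_right hp'.pos (by omega))
  have hL2D : L2 ≤ D := hL2 ▸ sup_le (Subgroup.zpowers_le.2 (hZD hcZ)) hΦ1
  refine h₁.no_regular hG C.ne_two (X := X) (L := L2)
    (hX ▸ (inv_vE Γ₁).sup (inv_phi Γ₁) hV1 (phi_le E₁)) (hX ▸ sup_le hV1 (phi_le E₁)) hL2n
    (hL2 ▸ le_sup_right) (hL2 ▸ hX ▸ sup_le_sup_right (Subgroup.zpowers_le.2 hcV) _) ?_ ?_ ?_ (g := b)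
    hv (fun h => hqD (hL2D (hqd ▸ h))) ⟨a, hX ▸ Subgroup.mem_sup_left ha, ?_⟩
  · have h1 := card_le_phi hG C.rank hΦn1
    calc Nat.card E₁ ≤ p ^ 3 * Nat.card (phi E₁) := h1
      _ = p * p * Nat.card (phi E₁) * p := by ring
      _ ≤ Nat.card X * p := Nat.mul_le_mul_right p hcX1
  · rw [hcL2]
    calc Nat.card X ≤ p * p * Nat.card (phi E₁) := hcX2
      _ = p * Nat.card (phi E₁) * p := by ring
  · rw [hcL2, mul_comm]
  · rw [← hcd]
    exact fun h => hcU (hU ▸ ⟨hcV, h⟩)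

end Cfsg.Agent.Local.FS.AllNormal
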