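import Cfsg.Agent.Lib.Local.FS.RankThreeAllNormal.TwoTools

/-!
When every `Ω₁Z` of a moving member lies in all members, there is a nontrivial common invariant subgroup;
this contradicts the hypothesis on the core.
-/

set_option autoImplicit false
set_option linter.style.haveILetI false
set_option linter.unusedSectionVars false

open scoped commutatorElement

namespace Cfsg.Agent.Local.FS.AllNormal

universe u

variable {G : Type u} [Group G] [Finite G] {p : ℕ} [hp : Fact p.Prime] {A : Subgroup (MulAut G)}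

variable {E₁ E₂ : Subgroup G} {Γ₁ : Subgroup (MulAut E₁)} {Γ₂ : Subgroup (MulAut E₂)}

theorem Ctx.map_member (C : Ctx p A) (hc : Contained p A) (h₁ : Member p A E₁ Γ₁) (hm₁ : ¬ Inv Γ₁ (zG p G))
    {β : MulAut G} (hβ : β ∈ A) :
    (∀ e ∈ E₁, β e ∈ E₁) ∧ ∀ w ∈ vE p E₁, β w ∈ vE p E₁ := by
  obtain ⟨Γ', hΓ', hm'⟩ := h₁.exists_map_moving hm₁ hβ
  have hmap := C.unique hc h₁ hm₁ hΓ' hm'
  refine ⟨fun e he => hmap.le ⟨e, he, rfl⟩, fun w hw => ?_⟩
  obtain ⟨hwE, hwc, hwp⟩ := mem_vE.1 hw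
  refine mem_vE.2 ⟨hmap.le ⟨w, hwE, rfl⟩, fun e he => ?_, by rw [← map_pow, hwp, map_one]⟩
  rw [← hmap] at he
  obtain ⟨e', he', rfl⟩ := he
  show β w * β e' = β e' * β w
  rw [← map_mul, hwc e' he', map_mul]

/-- The orbit of `Ω₁Z(E₁)` in a member not fixing it. -/
theorem Ctx.orb_shape (C : Ctx p A) (hc : Contained p A) (h₁ : Member p A E₁ Γ₁) (hm₁ : ¬ Inv Γ₁ (zG p G))
    (h₂ : Member p A E₂ Γ₂) (hV : ¬ Inv Γ₂ (vE p E₁)) :
    EA p (orb Γ₂ (vE p E₁)) ∧ Nat.card (orb Γ₂ (vE p E₁)) = p ^ 3 ∧ Nat.card (vE p E₁) = p ^ 2 ∧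
      Nat.card (zG p G) = p ∧ E₂ ≠ E₁ := by
  have hG := C.pgroup
  have hne : E₂ ≠ E₁ := by rintro rfl; exact hV (inv_vE Γ₂)
  have hV2 : vE p E₁ ≤ E₂ := hc E₁ E₂ Γ₁ Γ₂ h₁ hm₁ h₂
  have hVab := ea_vE p E₁
  have hea : EA p (orb Γ₂ (vE p E₁)) := by
    refine EA.of_closure ?_ ?_
    · rintro _ ⟨γ, hγ, x, hx, hxE, rfl⟩ _ ⟨δ, hδ, y, hy, hyE, rfl⟩
      have h := congrArg (ap γ) (C.commute_img hc h₁ hm₁ h₂ hne (Γ₂.mul_mem (Γ₂.inv_mem hγ) hδ) hx
        (ap_mem_img hy hyE))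
      rwa [ap_mul γ hxE (ap_mem _ hyE), ap_mul γ (ap_mem _ hyE) hxE, ← ap_comp hyE, mul_inv_cancel_left] at h
    · rintro _ ⟨γ, hγ, x, hx, hxE, rfl⟩
      rw [← ap_pow γ hxE, hVab.2 x hx, ap_one]
  have hlt : vE p E₁ < orb Γ₂ (vE p E₁) := lt_of_le_of_ne (le_orb Γ₂ hV2) fun e =>
    hV (e.symm ▸ inv_orb Γ₂ _)
  have hle := EA.card_le C.rank hea
  haveI : Nontrivial G := by
    obtain ⟨x, -, hx⟩ := SetLike.exists_of_lt hlt
    exact ⟨⟨x, 1, fun e => hx (e ▸ one_mem _)⟩⟩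
  obtain ⟨k, hk⟩ := card_pow hG (zG p G)
  obtain ⟨r, hr⟩ := card_pow hG (vE p E₁)
  obtain ⟨s, hs⟩ := card_pow hG (orb Γ₂ (vE p E₁))
  have hk0 : k ≠ 0 := fun e => zG_ne_bot hG (Subgroup.card_eq_one.1 (by rw [hk, e, pow_zero]))
  have h1 := card_lt_mul hG (h₁.zG_lt hG hm₁)
  have h2 := card_lt_mul hG hlt
  rw [hk, hr, ← pow_succ] at h1
  rw [hr, hs, ← pow_succ] at h2
  rw [hs] at hle
  have h1' := (Nat.pow_le_pow_iff_right hp.out.one_lt).1 h1
  have h2' := (Nat.pow_le_pow_iff_right hp.out.one_lt).1 h2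
  have h3' := (Nat.pow_le_pow_iff_right hp.out.one_lt).1 hle
  exact ⟨hea, by rw [hs]; congr 1; omega, by rw [hr]; congr 1; omega,
    by rw [hk, show k = 1 by omega, pow_one], hne⟩

/-- The case where every `Ω₁Z` of a moving member lies in all members does not occur. -/
theorem Ctx.not_contained (C : Ctx p A) (hc : Contained p A) : False := by
  have hG := C.pgroup
  have hp2 := C.ne_two
  have hp' := hp.out
  have hodd := hp'.odd_of_ne_two hp2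
  obtain ⟨E₁, Γ₁, h₁, hm₁⟩ := C.exists_moving
  haveI := h₁.normal
  haveI hVn := h₁.vE_normal hG
  haveI hZn := zG_normal (G := G) p
  have hVab := ea_vE p E₁
  have hV1 := vE_le p E₁
  have hZV := h₁.zG_le hG
  have hAE := fun β hβ => (C.map_member hc h₁ hm₁ (β := β) hβ).1
  have hAV := fun β hβ => (C.map_member hc h₁ hm₁ (β := β) hβ).2
  have hmem : ∀ (E : Subgroup G) (Γ : Subgroup (MulAut E)), Member p A E Γ → vE p E₁ ≤ E :=
    fun E Γ h => hc E₁ E Γ₁ Γ h₁ hm₁ h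
  have hVbot : vE p E₁ ≠ ⊥ := fun e => by
    have h := h₁.zG_lt hG hm₁
    rw [e] at h
    exact not_lt_bot h
  obtain ⟨E₂, Γ₂, h₂, hV⟩ : ∃ (E : Subgroup G) (Γ : Subgroup (MulAut E)), Member p A E Γ ∧
      ¬ Inv Γ (vE p E₁) := by
    by_contra hno
    push Not at hno
    exact hVbot (C.core _ hAV fun E Γ h => ⟨hmem E Γ h, hno E Γ h⟩)
  haveI := h₂.normal
  obtain ⟨hWea, hcW, hcV, hcZ, hne⟩ := C.orb_shape hc h₁ hm₁ h₂ hV
  obtain ⟨W, hW⟩ : ∃ W, W = orb Γ₂ (vE p E₁) := ⟨_, rfl⟩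
  rw [← hW] at hWea hcW
  have hV2 := hmem E₂ Γ₂ h₂
  have hWE2 : W ≤ E₂ := hW ▸ orb_le Γ₂ _
  have hWinv : Inv Γ₂ W := hW ▸ inv_orb Γ₂ _
  haveI hWn : W.Normal := h₂.normal_of_inv hWinv hWE2
  have hVW : vE p E₁ ≤ W := hW ▸ le_orb Γ₂ hV2
  have hWE1 : W ≤ E₁ := fun w hw => h₁.mem_of_centralizes hG hm₁ fun v hv => hWea.1 w hw v (hVW hv)
  have hcWV : Nat.card W ≤ Nat.card (vE p E₁) * p := by rw [hcW, hcV, pow_succ]
  have hcVZ : Nat.card (vE p E₁) ≤ Nat.card (zG p G) * p := by rw [hcV, hcZ, sq]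
  have hGV : ∀ g : G, ∀ v ∈ vE p E₁, ⁅g, v⁆ ∈ zG p G := fun g v hv => central_step hG hVn hZn hZV hcVZ g hv
  have hGW : ∀ g : G, ∀ w ∈ W, ⁅g, w⁆ ∈ vE p E₁ := fun g w hw => central_step hG hWn hVn hVW hcWV g hw
  have hsat : ∀ x ∈ E₁, x ^ p = 1 → (∀ e ∈ E₁, ⁅e, x⁆ ∈ vE p E₁) → x ∈ W := fun x =>
    C.sat h₁ hm₁ hWn hWea hWE1 hVW hcW hcV hcZ
  have hAW : ∀ β ∈ A, ∀ w ∈ W, β w ∈ W := fun β hβ w hw => by
    refine hsat _ (hAE β hβ w (hWE1 hw)) (by rw [← map_pow, hWea.2 w hw, map_one]) fun e _ => ?_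
    have h := hAV β hβ _ (hGW (β⁻¹ e) w hw)
    rwa [map_commutatorElement, show β (β⁻¹ e) = e from β.apply_symm_apply e] at h
  -- the centraliser of `W`
  obtain ⟨K, hK⟩ : ∃ K, K = Subgroup.centralizer (W : Set G) := ⟨_, rfl⟩
  have hKmem : ∀ {x : G}, x ∈ K ↔ ∀ w ∈ W, x * w = w * x := fun {x} => by
    rw [hK, Subgroup.mem_centralizer_iff]
    exact ⟨fun h w hw => (h w hw).symm, fun h w hw => (h w hw).symm⟩
  haveI hKn : K.Normal := hK ▸ Subgroup.normal_centralizer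
  have hK1 : K ≤ E₁ := fun x hx => h₁.mem_of_centralizes hG hm₁ fun v hv => hKmem.1 hx v (hVW hv)
  have hKA : ∀ β ∈ A, ∀ x ∈ K, β x ∈ K := fun β hβ x hx => hKmem.2 fun w hw => by
    have h := congrArg β (hKmem.1 hx _ (hAW β⁻¹ (A.inv_mem hβ) w hw))
    rwa [map_mul, map_mul, show β (β⁻¹ w) = w from β.apply_symm_apply w] at h
  have hKW : ∀ x ∈ K, x ^ p = 1 → x ∈ W := by
    intro x hx hxp
    have h := EA.sup hWea (EA.zpowers hxp) fun w hw y hy => by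
      obtain ⟨i, rfl⟩ := Subgroup.mem_zpowers_iff.1 hy
      exact ((show Commute x w from hKmem.1 hx w hw).zpow_left i).eq.symm
    rw [Subgroup.eq_of_le_of_card_ge (le_sup_left : W ≤ W ⊔ Subgroup.zpowers x)
      ((EA.card_le C.rank h).trans hcW.ge)]
    exact Subgroup.mem_sup_right (Subgroup.mem_zpowers x)
  have hinvK : ∀ {E : Subgroup G} {Γ : Subgroup (MulAut E)}, Inv Γ W → K ≤ E → W ≤ E → Inv Γ K := by
    intro E Γ hi hKE hWE γ hγ x hx
    refine hKmem.2 fun w hw => ?_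
    have hy := hi γ⁻¹ (Γ.inv_mem hγ) w hw
    have h := congrArg (ap γ) (hKmem.1 hx _ hy)
    rwa [ap_mul γ (hKE hx) (hWE hy), ap_mul γ (hWE hy) (hKE hx), ap_ap_inv γ (hWE hw)] at h
  -- `E₂` is the centraliser of `W` modulo `Ω₁Z(G)`
  obtain ⟨π, hπ⟩ : ∃ π, π = QuotientGroup.mk' (zG p G) := ⟨_, rfl⟩
  have hπc : ∀ {a b : G}, ⁅a, b⁆ ∈ zG p G ↔ π a * π b = π b * π a := fun {a b} => by
    rw [← commutatorElement_eq_one_iff_mul_comm, ← map_commutatorElement, hπ, mk_eq_one]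
  have hm₂ : Inv Γ₂ (zG p G) := by_contra fun h => hne (C.unique hc h₁ hm₁ h₂ h)
  have hE2W : ∀ e ∈ E₂, ∀ w ∈ W, ⁅e, w⁆ ∈ zG p G := by
    intro e he
    have hle : W ≤ (Subgroup.centralizer ({π e} : Set _)).comap π := by
      conv_lhs => rw [hW]
      refine orb_le_of fun γ hγ z hz => Subgroup.mem_centralizer_singleton_iff.2 (hπc.1 ?_).symm
      obtain ⟨v, hv, hvE, rfl⟩ := mem_img.1 hz
      rw [← ap_ap_inv γ he, ← ap_comm γ (ap_mem _ he) hvE]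
      exact hm₂ γ hγ _ (hGV _ v hv)
    intro w hw
    exact hπc.2 (Subgroup.mem_centralizer_singleton_iff.1 (hle hw)).symm
  have hE2 : ∀ x : G, (∀ w ∈ W, ⁅x, w⁆ ∈ zG p G) → x ∈ E₂ := by
    intro x hx
    by_contra hxE
    refine hV (h₂.inv_of_central hG hWinv hm₂ hZV hVW hWE2 (fun g w hw => ?_) fun β hβ _ => hAV β hβ)
    have hle : E₂ ⊔ Subgroup.zpowers x ≤ (Subgroup.centralizer ({π w} : Set _)).comap π := sup_le
      (fun e he => Subgroup.mem_centralizer_singleton_iff.2 (hπc.1 (hE2W e he w hw)))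
      (Subgroup.zpowers_le.2 (Subgroup.mem_centralizer_singleton_iff.2 (hπc.1 (hx w hw))))
    rw [h₂.sup_eq_top hG hxE] at hle
    exact hπc.2 (Subgroup.mem_centralizer_singleton_iff.1 (hle (Subgroup.mem_top g)))
  have hK2 : K ≤ E₂ := fun x hx => hE2 x fun w hw => by
    rw [commutatorElement_eq_one_iff_mul_comm.2 (hKmem.1 hx w hw)]; exact one_mem _
  obtain ⟨v, hv, hv2⟩ : ∃ v ∈ E₁, v ∉ E₂ := by
    by_contra hno
    push Not at hno
    refine hne (Subgroup.eq_of_le_of_card_ge hno ?_).symm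
    have e := h₁.card_eq hG
    rw [h₂.card_eq hG] at e
    exact (Nat.eq_of_mul_eq_mul_right hp'.pos e).le
  obtain ⟨x₀, hx₀, hx₀1⟩ : ∃ x₀ ∈ E₂, x₀ ∉ E₁ := by
    by_contra hno
    push Not at hno
    refine hne (Subgroup.eq_of_le_of_card_ge hno ?_)
    have e := h₁.card_eq hG
    rw [h₂.card_eq hG] at e
    exact (Nat.eq_of_mul_eq_mul_right hp'.pos e).ge
  obtain ⟨w₀, hw₀, htZ⟩ : ∃ w₀ ∈ W, ⁅v, w₀⁆ ∉ zG p G := by
    by_contra hno
    push Not at hno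
    exact hv2 (hE2 v hno)
  have hw₀V : w₀ ∉ vE p E₁ := fun h => htZ (hGV v w₀ h)
  have hWgen : vE p E₁ ⊔ Subgroup.zpowers w₀ = W := sup_zpowers_eq hG hVW hcWV hw₀ hw₀V
  have hyv : ∀ y, y ∉ E₁ → ⁅y, v⁆ ∉ K := by
    intro y hy hmK
    obtain ⟨m, hm⟩ : ∃ m, m = ⁅y, v⁆ := ⟨_, rfl⟩
    rw [← hm] at hmK
    obtain ⟨t, ht⟩ : ∃ t, t = ⁅v, w₀⁆ := ⟨_, rfl⟩
    obtain ⟨u, hu⟩ : ∃ u, u = ⁅y, w₀⁆ := ⟨_, rfl⟩
    have htV : t ∈ vE p E₁ := ht ▸ hGW v w₀ hw₀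
    have huV : u ∈ vE p E₁ := hu ▸ hGW y w₀ hw₀
    refine htZ (ht ▸ h₁.central_of_fixed hG hy htV ?_)
    have e1 : v * w₀ * v⁻¹ = t * w₀ := by rw [ht, commutatorElement_def]; group
    have e2 : y * w₀ * y⁻¹ = u * w₀ := by rw [hu, commutatorElement_def]; group
    have hw1 : y * v * w₀ * (y * v)⁻¹ = y * t * y⁻¹ * u * w₀ := by
      calc y * v * w₀ * (y * v)⁻¹ = y * (v * w₀ * v⁻¹) * y⁻¹ := by group
        _ = y * t * y⁻¹ * (y * w₀ * y⁻¹) := by rw [e1]; group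
        _ = y * t * y⁻¹ * u * w₀ := by rw [e2]; group
    have hw2 : v * y * w₀ * (v * y)⁻¹ = u * t * w₀ := by
      calc v * y * w₀ * (v * y)⁻¹ = v * (y * w₀ * y⁻¹) * v⁻¹ := by group
        _ = v * u * v⁻¹ * (v * w₀ * v⁻¹) := by rw [e2]; group
        _ = u * t * w₀ := by
          rw [e1, ← (mem_vE.1 huV).2.1 v hv, mul_inv_cancel_right, mul_assoc]
    have hWt : u * t * w₀ ∈ W := W.mul_mem (hVW ((vE p E₁).mul_mem huV htV)) hw₀
    have e3 : y * v * w₀ * (y * v)⁻¹ = v * y * w₀ * (v * y)⁻¹ := by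
      rw [show y * v = m * (v * y) by rw [hm, commutatorElement_def]; group]
      calc m * (v * y) * w₀ * (m * (v * y))⁻¹ = m * (v * y * w₀ * (v * y)⁻¹) * m⁻¹ := by group
        _ = v * y * w₀ * (v * y)⁻¹ := by rw [hw2, hKmem.1 hmK _ hWt, mul_inv_cancel_right]
    rw [hw1, hw2, hVab.1 u huV t htV] at e3
    exact mul_inv_eq_iff_eq_mul.1 (mul_right_cancel (mul_right_cancel e3))
  -- the meet
  obtain ⟨M, hM⟩ : ∃ M, M = E₁ ⊓ E₂ := ⟨_, rfl⟩
  have hM1 : M ≤ E₁ := hM ▸ inf_le_left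
  have hM2 : M ≤ E₂ := hM ▸ inf_le_right
  haveI hMn : M.Normal := hM ▸ inferInstance
  have hKM : K ≤ M := hM ▸ le_inf hK1 hK2
  have hcE1 : Nat.card E₁ = p * Nat.card M := by
    rw [hM, inf_comm]; exact h₂.card_inf hG fun h => hv2 (h hv)
  have hcE2 : Nat.card E₂ = p * Nat.card M := hM ▸ h₁.card_inf hG fun h => hx₀1 (h hx₀)
  obtain ⟨m, hm⟩ : ∃ m, m = ⁅x₀, v⁆ := ⟨_, rfl⟩
  have hmM : m ∈ M := hm ▸ hM ▸ ⟨h₁.comm_mem x₀ v, h₂.comm_mem x₀ v⟩
  have hmK : m ∉ K := hm ▸ hyv x₀ hx₀1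
  have hKltM : K < M := lt_of_le_of_ne hKM fun e => hmK (e.ge hmM)
  have hKcK := card_lt_mul hG hKltM
  have hcMK : Nat.card M ≤ Nat.card K * p := by
    obtain ⟨φ, hφ⟩ : ∃ φ : M →* zG p G, ∀ x : M, (φ x : G) = ⁅(x : G), w₀⁆ := by
      refine ⟨MonoidHom.mk' (fun x => ⟨⁅(x : G), w₀⁆, hE2W _ (hM2 x.2) w₀ hw₀⟩)
        (fun a b => Subtype.ext ?_), fun x => rfl⟩
      show ⁅(a : G) * (b : G), w₀⁆ = ⁅(a : G), w₀⁆ * ⁅(b : G), w₀⁆
      have hb := (mem_zG.1 (hE2W _ (hM2 b.2) w₀ hw₀)).1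
      rw [show ⁅(a : G) * (b : G), w₀⁆ = (a : G) * ⁅(b : G), w₀⁆ * (a : G)⁻¹ * ⁅(a : G), w₀⁆ by
        simp only [commutatorElement_def]; group, ← hb, mul_inv_cancel_right, hb]
    have hker : φ.ker ≤ K.subgroupOf M := fun x hx => hKmem.2 fun w hw => by
      have h0 : (x : G) * w₀ = w₀ * (x : G) := commutatorElement_eq_one_iff_mul_comm.1
        ((hφ x).symm.trans (congrArg Subtype.val (MonoidHom.mem_ker.1 hx)))
      have hle : W ≤ Subgroup.centralizer ({(x : G)} : Set G) := by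
        rw [← hWgen, sup_le_iff, Subgroup.zpowers_le]
        exact ⟨fun z hz => Subgroup.mem_centralizer_singleton_iff.2 ((mem_vE.1 hz).2.1 _ (hM1 x.2)),
          Subgroup.mem_centralizer_singleton_iff.2 h0.symm⟩
      exact (Subgroup.mem_centralizer_singleton_iff.1 (hle hw)).symm
    calc Nat.card M = Nat.card φ.ker * φ.ker.index := φ.ker.card_mul_index.symm
      _ ≤ Nat.card (K.subgroupOf M) * p := Nat.mul_le_mul (Subgroup.card_le_of_le hker) (by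
          rw [Subgroup.index_ker]; exact (Subgroup.card_le_card_group _).trans hcZ.le)
      _ = Nat.card K * p := by rw [Nat.card_congr (Subgroup.subgroupOfEquivOfLe hKM).toEquiv]
  have hMK : ∀ g : G, ∀ x ∈ M, ⁅g, x⁆ ∈ K := fun g x hx => central_step hG hMn hKn hKM hcMK g hx
  have hpK : ∀ g : G, g ^ p ∈ K := by
    intro g
    refine hKmem.2 fun w hw => ?_
    obtain ⟨t, ht⟩ : ∃ t, t = ⁅g, w⁆ := ⟨_, rfl⟩
    obtain ⟨z, hz⟩ : ∃ z, z = ⁅g, t⁆ := ⟨_, rfl⟩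
    have htV : t ∈ vE p E₁ := ht ▸ hGW g w hw
    have hzc := mem_zG.1 (hz ▸ hGV g t htV)
    have hgt : g * t * g⁻¹ = z * t := by rw [hz, commutatorElement_def]; group
    have hgw : g * w * g⁻¹ = t * w := by rw [ht, commutatorElement_def]; group
    have hn : ∀ n : ℕ, g ^ n * w * (g ^ n)⁻¹ = z ^ n.choose 2 * t ^ n * w := by
      intro n
      induction n with
      | zero => simp
      | succ n ih =>
        have e : Nat.choose (n + 1) 2 = n.choose 2 + n := by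
          rw [Nat.choose_succ_succ' n 1, Nat.choose_one_right, add_comm]
        calc g ^ (n + 1) * w * (g ^ (n + 1))⁻¹ = g * (g ^ n * w * (g ^ n)⁻¹) * g⁻¹ := by
              rw [pow_succ']; group
          _ = g * (z ^ n.choose 2 * t ^ n * w) * g⁻¹ := by rw [ih]
          _ = g * z ^ n.choose 2 * g⁻¹ * (g * t * g⁻¹) ^ n * (g * w * g⁻¹) := by rw [conj_pow]; group
          _ = z ^ n.choose 2 * (z ^ n * t ^ n) * (t * w) := by
            rw [hgt, hgw, (show Commute z t from hzc.1 t).mul_pow,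
              ← ((show Commute z g from hzc.1 g).pow_left (n.choose 2)).eq, mul_inv_cancel_right]
          _ = _ := by rw [e, pow_add, pow_succ]; group
    obtain ⟨q, hq⟩ := hp'.dvd_choose_self (k := 2) (by omega)
      (lt_of_le_of_ne hp'.two_le (Ne.symm hp2))
    have h := hn p
    rw [hq, pow_mul, hzc.2, one_pow, one_mul, hVab.2 t htV, one_mul] at h
    exact mul_inv_eq_iff_eq_mul.1 h
  have hphiK : ∀ {E : Subgroup G} {e : G}, e ∈ E → e ∉ M → M ≤ E → Nat.card E ≤ Nat.card M * p →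
      phi E ≤ K := by
    intro E e he heM hME hcE
    have hgen := sup_zpowers_eq hG hME hcE he heM
    have hq := ea_mod (N := K) (p := p) (s := (M : Set G) ∪ {e}) ?_ (fun x _ => hpK x)
    · have hle : E ≤ Subgroup.closure ((M : Set G) ∪ {e}) := by
        rw [← hgen, Subgroup.closure_union, Subgroup.closure_eq, ← Subgroup.zpowers_eq_closure]
      exact phi_le_of (fun a _ n hn => hKn.conj_mem n hn a) (fun x _ => hpK x)
        (fun x hx y hy => hq.1 x (hle hx) y (hle hy))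
    · rintro x (hx | rfl) y (hy | rfl)
      · exact hMK x y hy
      · rw [← commutatorElement_inv]; exact inv_mem (hMK _ x hx)
      · exact hMK _ y hy
      · rw [commutatorElement_self]; exact one_mem _
  have hfrat : ∀ {E : Subgroup G} {Γ : Subgroup (MulAut E)}, Member p A E Γ → frattini G ≤ E := by
    intro E Γ h
    haveI := h.normal
    exact Solv.frattini_le (p := p) E h.comm_mem h.pow_mem'
  have hphiG : ∀ E : Subgroup G, phi E ≤ frattini G := fun E =>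
    phi_le_of (fun a _ n hn => (inferInstance : (frattini G).Normal).conj_mem n hn a)
      (fun x _ => Solv.pow_mem_frattini hG x) (fun x _ y _ => Solv.commutatorElement_mem_frattini hG x y)
  have hcK : ∀ {E : Subgroup G} {Γ : Subgroup (MulAut E)}, Member p A E Γ →
      Nat.card E = p * Nat.card M → Nat.card K ≤ Nat.card (phi E) * p := by
    intro E Γ h hcE
    have h1 := card_le_phi hG C.rank (h.normal_of_inv (inv_phi Γ) (phi_le E))
    have h3 : p * p * Nat.card K ≤ p * p * (Nat.card (phi E) * p) :=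
      calc p * p * Nat.card K = p * (Nat.card K * p) := by ring
        _ ≤ p * Nat.card M := Nat.mul_le_mul_left p hKcK
        _ ≤ p ^ 3 * Nat.card (phi E) := hcE ▸ h1
        _ = p * p * (Nat.card (phi E) * p) := by ring
    exact Nat.le_of_mul_le_mul_left h3 (Nat.mul_pos hp'.pos hp'.pos)
  have hW1inv : ∀ {Γ : Subgroup (MulAut E₁)}, Member p A E₁ Γ → Inv Γ W := by
    intro Γ _ γ hγ w hw
    refine hsat _ (ap_mem γ (hWE1 hw)) (by rw [← ap_pow γ (hWE1 hw), hWea.2 w hw, ap_one]) fun e he => ?_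
    rw [← ap_ap_inv γ he, ← ap_comm γ (ap_mem _ he) (hWE1 hw)]
    exact inv_vE Γ γ hγ _ (hGW _ w hw)
  -- `K ≤ Φ(G)`
  have hKΦ : K ≤ frattini G := by
    intro x hx
    by_contra hxΦ
    obtain ⟨τ₁, hτ₁p, hτ₁n, hτ₁⟩ := h₁.exists_neg hG (inv_vE Γ₁) (Inv.bot Γ₁) hZn bot_le hZV hV1 hcVZ
      (by rw [Subgroup.card_bot, one_mul, hcZ]) hm₁ (by
        obtain ⟨a, ha, haZ⟩ := SetLike.exists_of_lt (h₁.zG_lt hG hm₁)
        by_contra hno
        push Not at hno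
        exact haZ (mem_zG.2 ⟨fun y => (commutatorElement_eq_one_iff_mul_comm.1
          (Subgroup.mem_bot.1 (hno y a ha))).symm, hVab.2 a ha⟩))
    obtain ⟨τ₂, hτ₂p, hτ₂n, hτ₂⟩ := h₂.exists_neg hG hWinv hm₂ hVn hZV hVW hWE2 hcWV hcVZ hV
      ⟨v, w₀, hw₀, htZ⟩
    obtain ⟨β₁, hβ₁, hβ₁e⟩ := h₁.extend τ₁ (pel_le Γ₁ hτ₁p) hτ₁n
    obtain ⟨β₂, hβ₂, hβ₂e⟩ := h₂.extend τ₂ (pel_le Γ₂ hτ₂p) hτ₂n
    have hK₁ : ∀ y ∈ K, y⁻¹ * β₁ y ∈ frattini G := fun y hy => hphiG E₁ (by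
      rw [hβ₁e y (hK1 hy)]
      exact h₁.pel_fix hG (hinvK (hW1inv h₁) hK1 hWE1) (inv_phi Γ₁)
        (hphiK hv (fun h => hv2 (hM2 h)) hM1 (by rw [hcE1, mul_comm])) hK1 (hcK h₁ hcE1) hτ₁p y hy)
    have hK₂ : ∀ y ∈ K, y⁻¹ * β₂ y ∈ frattini G := fun y hy => hphiG E₂ (by
      rw [hβ₂e y (hK2 hy)]
      exact h₂.pel_fix hG (hinvK hWinv hK2 hWE2) (inv_phi Γ₂)
        (hphiK hx₀ (fun h => hx₀1 (hM1 h)) hM2 (by rw [hcE2, mul_comm])) hK2 (hcK h₂ hcE2) hτ₂p y hy)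
    have hZ₁ : ∀ z ∈ zG p G, z * β₁ z = 1 := fun z hz => by
      rw [hβ₁e z (hV1 (hZV hz))]; exact Subgroup.mem_bot.1 (hτ₁ z (hZV hz))
    have hW₂ : ∀ w ∈ W, w * β₂ w ∈ zG p G := fun w hw => by
      rw [hβ₂e w (hWE2 hw)]; exact hτ₂ w hw
    obtain ⟨H, hHA, hHp, hdec⟩ := exists_complement C.inn
    obtain ⟨g₁, η₁, hη₁, hg₁⟩ := hdec β₁ hβ₁
    obtain ⟨g₂, η₂, hη₂, hg₂⟩ := hdec β₂ hβ₂
    obtain ⟨T, hT⟩ : ∃ T : Subgroup (MulAut G), ∀ α, α ∈ T ↔ α ∈ H ∧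
        ∀ y ∈ K, y⁻¹ * α y ∈ frattini G := by
      refine ⟨{ carrier := {α | α ∈ H ∧ ∀ y ∈ K, y⁻¹ * α y ∈ frattini G}
                one_mem' := ⟨H.one_mem, fun y _ => by simp⟩
                mul_mem' := fun {a b} ha hb => ⟨H.mul_mem ha.1 hb.1, fun y hy => by
                  show y⁻¹ * a (b y) ∈ frattini G
                  rw [show y⁻¹ * a (b y) = y⁻¹ * b y * ((b y)⁻¹ * a (b y)) by group]
                  exact mul_mem (hb.2 y hy) (ha.2 _ (hKA b (hHA hb.1) y hy))⟩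
                inv_mem' := fun {a} ha => ⟨H.inv_mem ha.1, fun y hy => by
                  have h := ha.2 _ (hKA a⁻¹ (A.inv_mem (hHA ha.1)) y hy)
                  rw [show a (a⁻¹ y) = y from a.apply_symm_apply y] at h
                  have := inv_mem h
                  rwa [mul_inv_rev, inv_inv] at this⟩ }, fun _ => Iff.rfl⟩
    have hTH : T ≤ H := fun α hα => ((hT α).1 hα).1
    have hηT : ∀ {β η : MulAut G} {g : G}, η ∈ H → (∀ y, β y = g * η y * g⁻¹) →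
        (∀ y ∈ K, y⁻¹ * β y ∈ frattini G) → η ∈ T := by
      intro β η g hη hg hβK
      refine (hT η).2 ⟨hη, fun y hy => ?_⟩
      have e : η y = g⁻¹ * β y * g := by rw [hg y]; group
      rw [e, show y⁻¹ * (g⁻¹ * β y * g) = y⁻¹ * β y * ⁅(β y)⁻¹, g⁻¹⁆ by
        rw [commutatorElement_def]; group]
      exact mul_mem (hβK y hy) (Solv.commutatorElement_mem_frattini hG _ _)
    obtain ⟨c, hcK', hcx, hfix⟩ := exists_fixed_aut hG (H := T)
      (fun h => hHp (h.trans (Subgroup.card_dvd_of_le hTH))) (K := K) (D := K ⊓ frattini G)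
      (fun h hh => hKA h (hHA (hTH hh)))
      (fun h hh y hy => ⟨hKA h (hHA (hTH hh)) y hy.1, RankThreeNormal.frattini_map_mem h hy.2⟩)
      inf_le_left hx (fun h hh => ⟨K.mul_mem (K.inv_mem hx) (hKA h (hHA (hTH hh)) x hx), ((hT h).1 hh).2 x hx⟩)
    have hc1 : c ≠ 1 := fun e => hxΦ (by
      have := hcx.2
      rw [e, mul_one] at this
      exact inv_mem_iff.1 this)
    obtain ⟨n, hn⟩ := IsPGroup.iff_orderOf.1 hG c
    obtain ⟨n, rfl⟩ : ∃ n', n = n' + 1 := Nat.exists_eq_succ_of_ne_zero fun e =>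
      hc1 (orderOf_eq_one_iff.1 (by rw [hn, e, pow_zero]))
    obtain ⟨t, ht⟩ : ∃ t, t = c ^ p ^ n := ⟨_, rfl⟩
    have htp : t ^ p = 1 := by rw [ht, ← pow_mul, ← pow_succ, ← hn, pow_orderOf_eq_one]
    have ht1 : t ≠ 1 := fun e => (Nat.pow_lt_pow_right hp'.one_lt (Nat.lt_succ_self n)).not_ge (by
      rw [← Nat.succ_eq_add_one] at hn
      rw [← hn]
      exact Nat.le_of_dvd (pow_pos hp'.pos _) (orderOf_dvd_of_pow_eq_one (ht ▸ e)))
    have htW : t ∈ W := hKW t (ht ▸ K.pow_mem hcK' _) htp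
    have hβt : ∀ {β η : MulAut G} {g : G}, η ∈ T → (∀ y, β y = g * η y * g⁻¹) → β t = g * t * g⁻¹ :=
      fun {β η g} hη hg => by rw [hg t, ht, map_pow, hfix η hη]
    have hsq : ∀ {X : Subgroup G}, X.Normal → ⁅g₂, t⁆ ∈ X → t * β₂ t ∈ X → t ∈ X := by
      intro X hX h1 h2
      rw [hβt (hηT hη₂ hg₂ hK₂) hg₂, show g₂ * t * g₂⁻¹ = ⁅g₂, t⁆ * t by
        rw [commutatorElement_def]; group] at h2
      have h4 : t ^ 2 ∈ X := by
        have h5 := hX.conj_mem _ h1 t⁻¹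
        have h6 : t * (⁅g₂, t⁆ * t) = t ^ 2 * (t⁻¹ * ⁅g₂, t⁆ * t⁻¹⁻¹) := by rw [sq]; group
        rw [h6] at h2
        exact (X.mul_mem_cancel_right h5).1 h2
      obtain ⟨q, hq⟩ := hodd
      have e : (t ^ 2) ^ q * t = 1 := by rw [← pow_mul, ← pow_succ, ← hq, htp]
      rw [show t = ((t ^ 2) ^ q)⁻¹ from eq_inv_of_mul_eq_one_right e]
      exact X.inv_mem (X.pow_mem h4 q)
    have htV : t ∈ vE p E₁ := hsq hVn (hGW g₂ t htW) (hZV (hW₂ t htW))
    have htZ' : t ∈ zG p G := hsq hZn (hGV g₂ t htV) (hW₂ t htW)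
    refine ht1 (eq_one_of_two htp hp2 ?_)
    have h := hZ₁ t htZ'
    rwa [hβt (hηT hη₁ hg₁ hK₁) hg₁, ← (mem_zG.1 htZ').1 g₁, mul_inv_cancel_right] at h
  -- the core
  refine hVbot (eq_bot_iff.2 (hVW.trans (C.core W hAW fun E Γ h => ?_).le))
  have hKE : K ≤ E := hKΦ.trans (hfrat h)
  refine ⟨fun w hw => hKE (hKmem.2 fun u hu => hWea.1 w hw u hu), ?_⟩
  by_cases hE : E = E₁
  · subst hE; exact hW1inv h
  by_cases hVi : Inv Γ (vE p E₁)
  · exfalso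
    haveI := h.normal
    obtain ⟨y, hy, hy1⟩ : ∃ y ∈ E, y ∉ E₁ := by
      by_contra hno
      push Not at hno
      refine hE (Subgroup.eq_of_le_of_card_ge hno ?_)
      have e := h₁.card_eq hG
      rw [h.card_eq hG] at e
      exact (Nat.eq_of_mul_eq_mul_right hp'.pos e).ge
    have hME : M ≤ E := by
      rw [← sup_zpowers_eq hG hKM hcMK hmM hmK]
      exact sup_le hKE (Subgroup.zpowers_le.2 (hm ▸ h.comm_mem x₀ v))
    have hcE : Nat.card E = p * Nat.card M := by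
      refine hcE1 ▸ ?_
      have e := h₁.card_eq hG
      rw [h.card_eq hG] at e
      exact Nat.eq_of_mul_eq_mul_right hp'.pos e
    have hMeq : M = E₁ ⊓ E := by
      refine Subgroup.eq_of_le_of_card_ge (le_inf hM1 hME) (Nat.le_of_mul_le_mul_left ?_ hp'.pos)
      rw [← hcE, ← h₁.card_inf hG fun hle => hy1 (hle hy)]
    have hvE : v ∉ E := fun hvE => hv2 (hM2 (hMeq ▸ ⟨hv, hvE⟩))
    have hMinv : Inv Γ M := by
      intro γ hγ x hx
      rw [hMeq] at hx ⊢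
      refine ⟨h₁.mem_of_centralizes hG hm₁ fun u hu => ?_, ap_mem γ hx.2⟩
      have hu' := hVi γ⁻¹ (Γ.inv_mem hγ) u hu
      have e := congrArg (ap γ) ((mem_vE.1 hu').2.1 x hx.1).symm
      rwa [ap_mul γ hx.2 (hmem E Γ h hu'), ap_mul γ (hmem E Γ h hu') hx.2, ap_ap_inv γ (hmem E Γ h hu)] at e
    have hΦK := hphiK hy (fun hyM => hy1 (hM1 hyM)) hME (by rw [hcE, mul_comm])
    have hMEn : ∀ g : G, ∀ e ∈ E, ⁅g, e⁆ ∈ M := fun g e he =>
      central_step hG h.normal hMn hME (by rw [hcE, mul_comm]) g he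
    refine h.no_regular hG hp2 hMinv hME hKn hΦK hKM (by rw [hcE, mul_comm]) hcMK (hcK h hcE)
      (g := v) hy (fun hge => hyv y hy1 ?_) ?_
    · rw [← commutatorElement_inv]; exact inv_mem hge
    · by_contra hno
      push Not at hno
      have hΦn := h.normal_of_inv (inv_phi Γ) (phi_le E)
      exact h.not_series hG hMinv (inv_phi Γ) hME (hΦK.trans hKM) le_rfl hvE (hMEn v) hno
        (fun e he => by rw [commutatorElement_def]; exact mul_mem (hΦn.conj_mem e he v) (inv_mem he))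
  · obtain ⟨hea, hco, -, -, -⟩ := C.orb_shape hc h₁ hm₁ h hVi
    have hVo : vE p E₁ ≤ orb Γ (vE p E₁) := le_orb Γ (hmem E Γ h)
    have hon := h.normal_of_inv (inv_orb Γ (vE p E₁)) (orb_le Γ _)
    have hle : orb Γ (vE p E₁) ≤ W := fun u hu => hsat u
      (h₁.mem_of_centralizes hG hm₁ fun z hz => hea.1 u hu z (hVo hz)) (hea.2 u hu) fun e _ =>
        central_step hG hon hVn hVo (by rw [hco, hcV, pow_succ]) e hu
    rw [← Subgroup.eq_of_le_of_card_ge hle (by rw [hco, hcW])]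
    exact inv_orb Γ _

end Cfsg.Agent.Local.FS.AllNormal
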