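import Cfsg.Agent.Lib.Local.FS.RankThreeAllNormal.TwoA
import Cfsg.Agent.Lib.Solv.Coprime
import Mathlib.GroupTheory.SchurZassenhaus
import Mathlib.GroupTheory.SemidirectProduct

/-!
A complement to the inner automorphisms, fixed points in cosets, commutator calculus in class two, and
the largest elementary abelian subgroup above `Ω₁Z(E₁)`.
-/

set_option autoImplicit false
set_option linter.style.haveILetI false
set_option linter.unusedSectionVars false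

open scoped commutatorElement

namespace Cfsg.Agent.Local.FS.AllNormal

universe u

variable {G : Type u} [Group G] [Finite G] {p : ℕ} [hp : Fact p.Prime]

theorem range_conj_normal : ((MulAut.conj : G →* MulAut G).range).Normal := ⟨fun n hn α => by
  obtain ⟨g, rfl⟩ := hn
  refine ⟨α g, MulEquiv.ext fun x => ?_⟩
  show α g * x * (α g)⁻¹ = α (g * α⁻¹ x * g⁻¹)
  rw [map_mul, map_mul, map_inv, show α (α⁻¹ x) = x from α.apply_symm_apply x]⟩

/-- A complement to the inner automorphisms. -/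
theorem exists_complement {A : Subgroup (MulAut G)}
    (h : Fusion.SylIn p (MulAut.conj : G →* MulAut G).range A) :
    ∃ H : Subgroup (MulAut G), H ≤ A ∧ ¬ p ∣ Nat.card H ∧
      ∀ β ∈ A, ∃ g : G, ∃ h ∈ H, ∀ x, β x = g * h x * g⁻¹ := by
  obtain ⟨N, hN⟩ : ∃ N, N = (MulAut.conj : G →* MulAut G).range.subgroupOf A := ⟨_, rfl⟩
  haveI : N.Normal := hN ▸ (range_conj_normal (G := G)).subgroupOf A
  obtain ⟨k, hk⟩ := IsPGroup.iff_card.1 h.isPGroup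
  have hidx : ¬ p ∣ N.index := hN ▸ h.not_dvd
  have hco : (Nat.card N).Coprime N.index := by
    rw [hN, Nat.card_congr (Subgroup.subgroupOfEquivOfLe h.le).toEquiv, hk]
    exact Nat.Coprime.pow_left k ((hp.out.coprime_iff_not_dvd).2 (hN ▸ hidx))
  obtain ⟨H, hH⟩ := Subgroup.exists_right_complement'_of_coprime hco
  refine ⟨H.map A.subtype, Subgroup.map_subtype_le H, ?_, fun β hβ => ?_⟩
  · rw [Subgroup.card_map_of_injective A.subtype_injective, ← hH.symm.index_eq_card]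
    exact hidx
  · have hm : (⟨β, hβ⟩ : A) ∈ N ⊔ H := hH.sup_eq_top.ge trivial
    obtain ⟨n, hn, η, hη, e⟩ := Subgroup.mem_sup_of_normal_left.1 hm
    rw [hN] at hn
    obtain ⟨g, hg⟩ : (n : MulAut G) ∈ (MulAut.conj : G →* MulAut G).range := hn
    refine ⟨g, (η : MulAut G), ⟨η, hη, rfl⟩, fun x => ?_⟩
    rw [show β = (n : MulAut G) * (η : MulAut G) from congrArg Subtype.val e.symm, ← hg]
    rfl

/-- An invariant coset of a group of automorphisms of order prime to `p` has a fixed point. -/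
theorem exists_fixed_aut (hG : IsPGroup p G) {H : Subgroup (MulAut G)} (hH : ¬ p ∣ Nat.card H)
    {K D : Subgroup G} (hK : ∀ h ∈ H, ∀ x ∈ K, h x ∈ K) (hD : ∀ h ∈ H, ∀ x ∈ D, h x ∈ D) (hDK : D ≤ K)
    {x : G} (hx : x ∈ K) (hxD : ∀ h ∈ H, x⁻¹ * h x ∈ D) :
    ∃ c ∈ K, x⁻¹ * c ∈ D ∧ ∀ h ∈ H, h c = c := by
  haveI : Finite (G ⋊[H.subtype] H) := Finite.of_equiv (G × H) SemidirectProduct.equivProd.symm
  obtain ⟨i, hi⟩ : ∃ i : G →* G ⋊[H.subtype] H, i = SemidirectProduct.inl := ⟨_, rfl⟩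
  obtain ⟨R, hR⟩ : ∃ R, R = (SemidirectProduct.inr : H →* G ⋊[H.subtype] H).range := ⟨_, rfl⟩
  have hiinj : Function.Injective i := hi ▸ SemidirectProduct.inl_injective
  have hconj : ∀ (η : H) (y : G), SemidirectProduct.inr η * i y * (SemidirectProduct.inr η)⁻¹ =
      i ((η : MulAut G) y) := fun η y => by
    rw [hi, ← map_inv, ← SemidirectProduct.inl_aut]; rfl
  have hnorm : ∀ (L : Subgroup G), (∀ h ∈ H, ∀ y ∈ L, h y ∈ L) →
      R ≤ Subgroup.normalizer (L.map i : Set (G ⋊[H.subtype] H)) := by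
    intro L hL a ha
    rw [hR] at ha
    obtain ⟨η, rfl⟩ := ha
    have h1 : ∀ (η : H), ∀ n ∈ L.map i,
        SemidirectProduct.inr η * n * (SemidirectProduct.inr η)⁻¹ ∈ L.map i := by
      rintro η _ ⟨y, hy, rfl⟩
      exact ⟨_, hL _ η.2 y hy, (hconj η y).symm⟩
    refine Subgroup.mem_normalizer_iff.2 fun n => ⟨h1 η n, fun hn => ?_⟩
    simpa [mul_assoc] using h1 η⁻¹ _ hn
  obtain ⟨k, hk⟩ := card_pow hG K
  have hco : (Nat.card R).Coprime (Nat.card (K.map i : Subgroup _)) := by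
    rw [Subgroup.card_map_of_injective hiinj, hk, hR,
      Nat.card_congr (MonoidHom.ofInjective SemidirectProduct.inr_injective).symm.toEquiv]
    exact Nat.Coprime.pow_right k ((hp.out.coprime_iff_not_dvd).2 hH).symm
  have hKp : IsPGroup p (K.map i : Subgroup _) := (hG.to_subgroup K).map i
  haveI := hKp.isNilpotent
  obtain ⟨c, hc, hcD⟩ := Solv.exists_fixed_in_coset' R (K.map i) (D.map i) (hnorm K hK) hco
    (Or.inr inferInstance) (Subgroup.map_mono hDK) (hnorm D hD) (x := i x) ⟨x, hx, rfl⟩ (fun a ha => by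
      rw [hR] at ha
      obtain ⟨η, rfl⟩ := ha
      rw [hconj, ← map_inv, ← map_mul]
      exact ⟨_, hxD _ η.2, rfl⟩)
  obtain ⟨c, hcK, rfl⟩ := hc.1
  refine ⟨c, hcK, ?_, fun h hh => ?_⟩
  · rw [← map_inv, ← map_mul] at hcD
    exact (Subgroup.mem_map_iff_mem hiinj).1 hcD
  · refine hiinj ?_
    rw [← hconj ⟨h, hh⟩ c, Subgroup.mem_centralizer_iff.1 hc.2 _ (hR ▸ ⟨_, rfl⟩), mul_inv_cancel_right]

omit [Finite G] hp in
theorem comm_mul_right {a b c : G} (h : Commute b ⁅a, c⁆) : ⁅a, b * c⁆ = ⁅a, b⁆ * ⁅a, c⁆ := by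
  rw [show ⁅a, b * c⁆ = ⁅a, b⁆ * (b * ⁅a, c⁆ * b⁻¹) by simp only [commutatorElement_def]; group, h.eq,
    mul_inv_cancel_right]

/-- A subgroup of order `p³` above `Ω₁Z(E)` absorbs all elements of order `p` centralised modulo it. -/
theorem Ctx.sat {A : Subgroup (MulAut G)} (C : Ctx p A) {E : Subgroup G} {Γ : Subgroup (MulAut E)}
    (h : Member p A E Γ) (hm : ¬ Inv Γ (zG p G)) {W : Subgroup G} (hWn : W.Normal) (hW : EA p W)
    (hWE : W ≤ E) (hVW : vE p E ≤ W) (hcW : Nat.card W = p ^ 3) (hcV : Nat.card (vE p E) = p ^ 2)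
    (hcZ : Nat.card (zG p G) = p) {x₁ : G} (hx₁ : x₁ ∈ E) (hx₁p : x₁ ^ p = 1)
    (hx₁c : ∀ e ∈ E, ⁅e, x₁⁆ ∈ vE p E) : x₁ ∈ W := by
  by_contra hx₁W
  have hG := C.pgroup
  have hodd := hp.out.odd_of_ne_two C.ne_two
  have hVab := ea_vE p E
  haveI hVn := h.vE_normal hG
  haveI := hWn
  obtain ⟨V, hV⟩ : ∃ V, V = vE p E := ⟨_, rfl⟩
  have hcen : ∀ v ∈ V, ∀ e ∈ E, v * e = e * v := fun v hv => (mem_vE.1 (hV ▸ hv)).2.1
  rw [← hV] at hVW hcV hx₁c hVab hVn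
  obtain ⟨S, hS⟩ : ∃ S : Set G, ∀ q, q ∈ S ↔ q ∈ E ∧ q ^ p = 1 ∧ ∀ e ∈ E, ⁅e, q⁆ ∈ V :=
    ⟨{q | q ∈ E ∧ q ^ p = 1 ∧ ∀ e ∈ E, ⁅e, q⁆ ∈ V}, fun _ => Iff.rfl⟩
  have hSE : ∀ q ∈ S, q ∈ E := fun q hq => ((hS q).1 hq).1
  have hWS : ∀ w ∈ W, w ∈ S := fun w hw => (hS w).2 ⟨hWE hw, hW.2 w hw, fun e _ =>
    central_step hG hWn hVn hVW (by rw [hcW, hcV, pow_succ]) e hw⟩
  have hlin : ∀ a ∈ E, ∀ b ∈ E, ∀ c ∈ S, ⁅a, b * c⁆ = ⁅a, b⁆ * ⁅a, c⁆ := fun a ha b hb c hc =>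
    comm_mul_right (hcen _ (((hS c).1 hc).2.2 a ha) b hb).symm
  have hinv : ∀ a ∈ E, ∀ c ∈ S, ⁅a, c⁻¹⁆ = ⁅a, c⁆⁻¹ := fun a ha c hc => by
    refine eq_inv_of_mul_eq_one_left ?_
    rw [← hlin a ha _ (E.inv_mem (hSE c hc)) c hc, inv_mul_cancel, commutatorElement_one_right]
  have hSmul : ∀ b ∈ S, ∀ c ∈ S, b * c ∈ S := by
    intro b hb c hc
    refine (hS _).2 ⟨E.mul_mem (hSE b hb) (hSE c hc), ?_, fun e he => ?_⟩
    · have hcb : ⁅c, b⁆ ∈ V := ((hS b).1 hb).2.2 c (hSE c hc)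
      rw [mul_pow_two hodd (hcen _ hcb b (hSE b hb)).symm (hcen _ hcb c (hSE c hc)).symm (hVab.2 _ hcb),
        ((hS b).1 hb).2.1, ((hS c).1 hc).2.1, one_mul]
    · rw [hlin e he b (hSE b hb) c hc]
      exact V.mul_mem (((hS b).1 hb).2.2 e he) (((hS c).1 hc).2.2 e he)
  have hSinv : ∀ c ∈ S, c⁻¹ ∈ S := fun c hc => (hS _).2 ⟨E.inv_mem (hSE c hc),
    by rw [inv_pow, ((hS c).1 hc).2.1, inv_one], fun e he => by
      rw [hinv e he c hc]; exact V.inv_mem (((hS c).1 hc).2.2 e he)⟩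
  have hSpow : ∀ c ∈ S, ∀ n : ℕ, c ^ n ∈ S := fun c hc n => by
    induction n with
    | zero => rw [pow_zero]; exact hWS 1 W.one_mem
    | succ n ih => rw [pow_succ]; exact hSmul _ ih c hc
  have hpow : ∀ a ∈ E, ∀ c ∈ S, ∀ n : ℕ, ⁅a, c ^ n⁆ = ⁅a, c⁆ ^ n := fun a ha c hc n => by
    induction n with
    | zero => rw [pow_zero, pow_zero, commutatorElement_one_right]
    | succ n ih => rw [pow_succ, hlin a ha _ (E.pow_mem (hSE c hc) n) c hc, ih, pow_succ]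
  -- no elementary abelian subgroup of order `p⁴`
  have key : ∀ a ∈ S, a ∉ V → ∀ b ∈ S, a * b = b * a → b ∈ V ⊔ Subgroup.zpowers a := by
    intro a ha haV b hb hab
    have hVa : ∀ {q}, q ∈ S → EA p (V ⊔ Subgroup.zpowers q) := fun {q} hq =>
      EA.sup hVab (EA.zpowers ((hS q).1 hq).2.1) fun v hv y hy => hcen v hv y
        ((Subgroup.zpowers_le.2 (hSE q hq)) hy)
    have h2 : EA p (V ⊔ Subgroup.zpowers a ⊔ Subgroup.zpowers b) := by
      refine EA.sup (hVa ha) (EA.zpowers ((hS b).1 hb).2.1) fun v hv y hy => ?_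
      obtain ⟨i, rfl⟩ := Subgroup.mem_zpowers_iff.1 hy
      have hle : V ⊔ Subgroup.zpowers a ≤ Subgroup.centralizer ({b} : Set G) := sup_le
        (fun w hw => Subgroup.mem_centralizer_singleton_iff.2 (hcen w hw b (hSE b hb)))
        (Subgroup.zpowers_le.2 (Subgroup.mem_centralizer_singleton_iff.2 hab))
      exact ((show Commute v b from Subgroup.mem_centralizer_singleton_iff.1 (hle hv)).zpow_right i).eq
    have hlt : V < V ⊔ Subgroup.zpowers a := lt_of_le_of_ne le_sup_left fun e =>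
      haV (e.ge (Subgroup.mem_sup_right (Subgroup.mem_zpowers a)))
    have h3 := card_lt_mul hG hlt
    rw [hcV, ← pow_succ] at h3
    rw [Subgroup.eq_of_le_of_card_ge (le_sup_left : _ ≤ V ⊔ Subgroup.zpowers a ⊔ Subgroup.zpowers b)
      ((EA.card_le C.rank h2).trans h3)]
    exact Subgroup.mem_sup_right (Subgroup.mem_zpowers b)
  obtain ⟨w₀, hw₀, hw₀V⟩ : ∃ w₀ ∈ W, w₀ ∉ V := by
    refine SetLike.not_le_iff_exists.1 fun hle => ?_
    have := Subgroup.card_le_of_le hle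
    rw [hcW, hcV] at this
    have := (Nat.pow_le_pow_iff_right hp.out.one_lt).1 this
    omega
  have hgenW : V ⊔ Subgroup.zpowers w₀ = W := sup_zpowers_eq hG hVW (by rw [hcW, hcV, pow_succ]) hw₀ hw₀V
  have hw₀S := hWS w₀ hw₀
  have hx₁S : x₁ ∈ S := (hS _).2 ⟨hx₁, hx₁p, hx₁c⟩
  obtain ⟨c₁, hc₁⟩ : ∃ c₁, c₁ = ⁅w₀, x₁⁆ := ⟨_, rfl⟩
  have hc₁V : c₁ ∈ V := hc₁ ▸ hx₁c w₀ (hWE hw₀)
  have hc₁1 : c₁ ≠ 1 := fun e => hx₁W (hgenW ▸ key w₀ hw₀S hw₀V x₁ hx₁S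
    (commutatorElement_eq_one_iff_mul_comm.1 (hc₁ ▸ e)))
  have hdec : ∀ q ∈ W ⊔ Subgroup.zpowers x₁, ∃ u ∈ V, ∃ i j : ℕ, q = u * w₀ ^ i * x₁ ^ j := by
    intro q hq
    obtain ⟨w, hw, y, hy, rfl⟩ := Subgroup.mem_sup_of_normal_left.1 hq
    obtain ⟨j, rfl⟩ := mem_powers_iff_mem_zpowers.2 hy
    rw [← hgenW] at hw
    obtain ⟨u, hu, z, hz, rfl⟩ := Subgroup.mem_sup_of_normal_left.1 hw
    obtain ⟨i, rfl⟩ := mem_powers_iff_mem_zpowers.2 hz
    exact ⟨u, hu, i, j, rfl⟩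
  have hexp : ∀ a ∈ E, ∀ u ∈ V, ∀ i j : ℕ,
      ⁅a, u * w₀ ^ i * x₁ ^ j⁆ = ⁅a, w₀⁆ ^ i * ⁅a, x₁⁆ ^ j := by
    intro a ha u hu i j
    have huS := hWS u (hVW hu)
    rw [hlin a ha _ (E.mul_mem (hSE u huS) (E.pow_mem (hWE hw₀) i)) _ (hSpow _ hx₁S j),
      hlin a ha _ (hSE u huS) _ (hSpow _ hw₀S i), hpow a ha _ hw₀S, hpow a ha _ hx₁S,
      commutatorElement_eq_one_iff_mul_comm.2 (hcen u hu a ha).symm, one_mul]
  by_cases hall : ∀ q ∈ S, q ∈ W ⊔ Subgroup.zpowers x₁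
  · obtain ⟨D, hD⟩ : ∃ D, D = Subgroup.zpowers c₁ := ⟨_, rfl⟩
    have hc₁E := hWE (hVW hc₁V)
    have hDi : Inv Γ D := by
      intro γ hγ z hz
      rw [hD] at hz
      obtain ⟨n, rfl⟩ := mem_powers_iff_mem_zpowers.2 hz
      rw [ap_pow γ hc₁E]
      refine D.pow_mem ?_ n
      have hγS : ∀ q ∈ S, ap γ q ∈ S := fun q hq => by
        obtain ⟨hqE, hqp, hqc⟩ := (hS q).1 hq
        refine (hS _).2 ⟨ap_mem γ hqE, by rw [← ap_pow γ hqE, hqp, ap_one], fun e he => ?_⟩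
        rw [← ap_ap_inv γ he, ← ap_comm γ (ap_mem _ he) hqE, hV]
        exact inv_vE Γ γ hγ _ (hV ▸ hqc _ (ap_mem _ he))
      obtain ⟨u, hu, i, j, hij⟩ := hdec _ (hall _ (hγS _ hx₁S))
      have hA := ap_mem γ (hWE hw₀)
      rw [hc₁, ap_comm γ (hWE hw₀) hx₁, hij, hexp _ hA u hu i j]
      obtain ⟨u', hu', i', j', hij'⟩ := hdec _ (hall _ (hγS _ hw₀S))
      refine D.mul_mem (D.pow_mem ?_ i) (D.pow_mem ?_ j) <;>
        rw [← commutatorElement_inv, D.inv_mem_iff, hij', hexp _ (by first | exact hWE hw₀ | exact hx₁) u' hu']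
      · rw [commutatorElement_self, one_pow, one_mul, ← hc₁, hD]
        exact pow_mem (Subgroup.mem_zpowers _) _
      · rw [commutatorElement_self, one_pow, mul_one, ← commutatorElement_inv, ← hc₁, hD]
        exact pow_mem (inv_mem (Subgroup.mem_zpowers _)) _
    have hDE : D ≤ E := hD ▸ Subgroup.zpowers_le.2 hc₁E
    have hcD : Nat.card D = p := hD ▸ card_zpowers_eq (hVab.2 _ hc₁V) hc₁1
    exact hm (Subgroup.eq_of_le_of_card_ge (le_zG_of_card hG (h.normal_of_inv hDi hDE) hcD.le)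
      (by rw [hcZ, hcD]) ▸ hDi)
  · push Not at hall
    obtain ⟨y, hy, hyW⟩ := hall
    obtain ⟨c₂, hc₂⟩ : ∃ c₂, c₂ = ⁅w₀, y⁆ := ⟨_, rfl⟩
    have hc₂V : c₂ ∈ V := hc₂ ▸ ((hS y).1 hy).2.2 w₀ (hWE hw₀)
    have hc₂n : c₂ ∉ Subgroup.zpowers c₁ := by
      intro hc
      obtain ⟨i, hi⟩ := mem_powers_iff_mem_zpowers.2 hc
      simp only at hi
      have hq := hSinv _ (hSpow _ hx₁S i)
      refine hyW ?_
      have h1 := key w₀ hw₀S hw₀V _ (hSmul _ hy _ hq) (commutatorElement_eq_one_iff_mul_comm.1 (by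
        rw [hlin _ (hWE hw₀) _ (hSE y hy) _ hq, hinv _ (hWE hw₀) _ (hSpow _ hx₁S i),
          hpow _ (hWE hw₀) _ hx₁S, ← hc₁, ← hc₂, hi, mul_inv_cancel]))
      rw [hgenW] at h1
      rw [show y = y * (x₁ ^ i)⁻¹ * x₁ ^ i by group]
      exact Subgroup.mul_mem_sup h1 (pow_mem (Subgroup.mem_zpowers _) i)
    have hgenV : Subgroup.zpowers c₁ ⊔ Subgroup.zpowers c₂ = V :=
      sup_zpowers_eq hG (Subgroup.zpowers_le.2 hc₁V)
        (by rw [hcV, card_zpowers_eq (hVab.2 _ hc₁V) hc₁1, sq]) hc₂V hc₂n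
    obtain ⟨a, b, hab⟩ : ∃ a b : ℕ, c₁ ^ a * c₂ ^ b = ⁅x₁, y⁆ := by
      have h3 : ⁅x₁, y⁆ ∈ Subgroup.zpowers c₁ ⊔ Subgroup.zpowers c₂ := hgenV ▸ ((hS y).1 hy).2.2 x₁ hx₁
      rw [← SetLike.mem_coe, Subgroup.coe_mul_of_left_le_normalizer_right _ _ (fun g hg => by
        refine Subgroup.mem_normalizer_iff.2 fun n => ⟨fun hn => ?_, fun hn => ?_⟩
        · rw [hVab.1 g ((Subgroup.zpowers_le.2 hc₁V) hg) n ((Subgroup.zpowers_le.2 hc₂V) hn),
            mul_inv_cancel_right]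
          exact hn
        · have e := hVab.1 g⁻¹ (inv_mem ((Subgroup.zpowers_le.2 hc₁V) hg)) _ ((Subgroup.zpowers_le.2 hc₂V) hn)
          rw [show n = g * n * g⁻¹ by
            calc n = g⁻¹ * (g * n * g⁻¹) * g⁻¹⁻¹ := by group
              _ = _ := by rw [e, mul_inv_cancel_right]]
          exact hn)] at h3
      obtain ⟨r, hr, t, ht, hrt⟩ := Set.mem_mul.1 h3
      obtain ⟨a, rfl⟩ := mem_powers_iff_mem_zpowers.2 hr
      obtain ⟨b, rfl⟩ := mem_powers_iff_mem_zpowers.2 ht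
      exact ⟨a, b, hrt⟩
    have hwb := hSinv _ (hSpow _ hw₀S b)
    have hq1 := hSmul _ hx₁S _ hwb
    have hq2 := hSmul _ hy _ (hSpow _ hw₀S a)
    have hq1W : x₁ * (w₀ ^ b)⁻¹ ∉ W := fun e => hx₁W (by
      have := W.mul_mem e (W.pow_mem hw₀ b)
      rwa [inv_mul_cancel_right] at this)
    have hcc : Commute (c₁ ^ a) (c₂ ^ b) := (show Commute c₁ c₂ from hVab.1 _ hc₁V _ hc₂V).pow_pow a b
    have h1 := key _ hq1 (fun e => hq1W (hVW e)) _ hq2 (commutatorElement_eq_one_iff_mul_comm.1 (by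
      rw [hlin _ (hSE _ hq1) _ (hSE y hy) _ (hSpow _ hw₀S a), hpow _ (hSE _ hq1) _ hw₀S,
        ← commutatorElement_inv y, hlin _ (hSE y hy) _ hx₁ _ hwb, hinv _ (hSE y hy) _ (hSpow _ hw₀S b),
        hpow _ (hSE y hy) _ hw₀S, ← commutatorElement_inv x₁ y, ← hab, ← commutatorElement_inv w₀ y, ← hc₂,
        ← commutatorElement_inv w₀ (x₁ * _), hlin _ (hWE hw₀) _ hx₁ _ hwb,
        hinv _ (hWE hw₀) _ (hSpow _ hw₀S b), hpow _ (hWE hw₀) _ hw₀S, commutatorElement_self, one_pow,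
        inv_one, mul_one, ← hc₁]
      rw [inv_pow, inv_pow, inv_inv, mul_inv_rev, inv_inv, hcc.eq, inv_mul_cancel_left, mul_inv_cancel]))
    refine hyW ?_
    have h2 : x₁ * (w₀ ^ b)⁻¹ ∈ W ⊔ Subgroup.zpowers x₁ := mul_mem
      (Subgroup.mem_sup_right (Subgroup.mem_zpowers _)) (Subgroup.mem_sup_left (inv_mem (pow_mem hw₀ b)))
    have h3 := mul_mem ((sup_le (hVW.trans le_sup_left) (Subgroup.zpowers_le.2 h2)) h1)
      (inv_mem (Subgroup.mem_sup_left (pow_mem hw₀ a) : w₀ ^ a ∈ W ⊔ Subgroup.zpowers x₁))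
    rwa [mul_inv_cancel_right] at h3

end Cfsg.Agent.Local.FS.AllNormal
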