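import Cfsg.Agent.Lib.Local.FS.RankThreeAllNormal.CaseOne

/-!
Transport of members by the automorphism group, and uniqueness of the moving member when every
`Ω₁Z` of a moving member lies in all members.
-/

set_option autoImplicit false
set_option linter.style.haveILetI false
set_option linter.unusedSectionVars false

open scoped commutatorElement

namespace Cfsg.Agent.Local.FS.AllNormal

universe u

variable {G : Type u} [Group G] [Finite G] {p : ℕ} [hp : Fact p.Prime] {A : Subgroup (MulAut G)}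

/-- The image of a member under an element of `A` is a member. -/
theorem Member.exists_map {E : Subgroup G} {Γ : Subgroup (MulAut E)} (h : Member p A E Γ) {β : MulAut G}
    (hβ : β ∈ A) : ∃ Γ' : Subgroup (MulAut (E.map β.toMonoidHom : Subgroup G)),
      Member p A (E.map β.toMonoidHom) Γ' ∧
        ∀ γ ∈ Γ, ∃ γ' ∈ Γ', ∀ x ∈ E, ap γ' (β x) = β (ap γ x) := by
  obtain ⟨e, he⟩ : ∃ e : E ≃* (E.map β.toMonoidHom : Subgroup G), ∀ x : E, (e x : G) = β (x : G) :=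
    ⟨β.subgroupMap E, fun x => rfl⟩
  obtain ⟨c, hcd⟩ : ∃ c : MulAut E →* MulAut (E.map β.toMonoidHom : Subgroup G),
      ∀ γ, c γ = e.symm.trans ((γ : E ≃* E).trans e) :=
    ⟨(MulAut.congr e).toMonoidHom, fun γ => rfl⟩
  have hsymm : ∀ x : E, e.symm ⟨β (x : G), ⟨x, x.2, rfl⟩⟩ = x := fun x =>
    e.injective (by rw [e.apply_symm_apply]; exact Subtype.ext (he x).symm)
  have hap : ∀ (γ : MulAut E), ∀ x ∈ E, ap (c γ) (β x) = β (ap γ x) := by
    intro γ x hx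
    rw [ap_apply _ (⟨x, hx, rfl⟩ : β x ∈ E.map β.toMonoidHom), ap_apply γ hx, hcd]
    show (e (γ (e.symm ⟨β x, ⟨x, hx, rfl⟩⟩)) : G) = _
    rw [hsymm ⟨x, hx⟩, he]
  have hcinj : Function.Injective c := fun a b hab => aut_ext' fun x hx => β.injective (by
    rw [← hap a x hx, ← hap b x hx, hab])
  have hcj : (cjAut E).map c = cjAut (E.map β.toMonoidHom) := by
    ext α
    constructor
    · rintro ⟨γ, ⟨g, hg⟩, rfl⟩
      refine ⟨β g, ?_⟩
      rintro _ ⟨x, hx, rfl⟩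
      show ap (c γ) (β x) = β g * β x * (β g)⁻¹
      rw [hap γ x hx, hg x hx, map_mul, map_mul, map_inv]
    · rintro ⟨g, hg⟩
      obtain ⟨δ, hδd⟩ : ∃ δ : MulAut E, δ = e.trans ((α : (E.map β.toMonoidHom : Subgroup G) ≃* _).trans e.symm) :=
        ⟨_, rfl⟩
      have hδ : c δ = α := MulEquiv.ext fun y => by
        rw [hcd, hδd]
        show e (e.symm (α (e (e.symm y)))) = α y
        rw [e.apply_symm_apply, e.apply_symm_apply]
      refine ⟨δ, ⟨β.symm g, fun x hx => ?_⟩, hδ⟩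
      refine β.injective ?_
      rw [← hap δ x hx, hδ, hg (β x) ⟨x, hx, rfl⟩, map_mul, map_mul, map_inv, MulEquiv.apply_symm_apply]
  refine ⟨Γ.map c, ⟨?_, ?_, ?_, ⟨?_, ?_, ?_⟩, ?_, ?_⟩, fun γ hγ => ⟨c γ, ⟨γ, hγ, rfl⟩, hap γ⟩⟩
  · exact h.normal.map _ β.surjective
  · rw [show (MulEquiv.toMonoidHom β) = (β : G →* G) from rfl, Subgroup.index_map_equiv, h.index]
  · intro x hx
    refine ⟨β.symm x, h.centric _ fun y hy => β.injective ?_, β.apply_symm_apply x⟩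
    rw [map_mul, map_mul, MulEquiv.apply_symm_apply]
    exact hx _ ⟨y, hy, rfl⟩
  · rw [← hcj]; exact Subgroup.map_mono h.syl.le
  · rw [← hcj]; exact h.syl.isPGroup.map c
  · rw [← hcj, Subgroup.relIndex_map_map_of_injective _ _ hcinj]; exact h.syl.not_dvd
  · intro K hK hKn hKp k hk
    obtain ⟨γ, hγ, rfl⟩ := hK hk
    obtain ⟨w, hw, hww⟩ := h.opTriv (K.comap c ⊓ Γ) inf_le_right (fun δ hδ κ hκ => by
      refine ⟨?_, Γ.mul_mem (Γ.mul_mem hδ hκ.2) (Γ.inv_mem hδ)⟩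
      show c (δ * κ * δ⁻¹) ∈ K
      rw [map_mul, map_mul, map_inv]
      exact hKn _ ⟨δ, hδ, rfl⟩ _ hκ.1) ((hKp.comap_of_injective c hcinj).to_inf_left) γ ⟨hk, hγ⟩
    refine ⟨β w, ⟨w, hw, rfl⟩, ?_⟩
    rintro _ ⟨x, hx, rfl⟩
    show ap (c γ) (β x) = _
    rw [hap γ x hx, hww x hx, map_mul, map_mul, map_inv]
    rfl
  · rintro _ ⟨γ, hγ, rfl⟩ hn
    obtain ⟨β₀, hβ₀, hβe⟩ := h.extend γ hγ (by
      refine Subgroup.mem_normalizer_iff.2 fun t => ?_
      have := Subgroup.mem_normalizer_iff.1 hn (c t)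
      rw [← hcj, ← map_inv, ← map_mul, ← map_mul, Subgroup.mem_map_iff_mem hcinj,
        Subgroup.mem_map_iff_mem hcinj] at this
      exact this)
    refine ⟨β * β₀ * β⁻¹, A.mul_mem (A.mul_mem hβ hβ₀) (A.inv_mem hβ), ?_⟩
    rintro _ ⟨x, hx, rfl⟩
    show β (β₀ (β⁻¹ (β x))) = ap (c γ) (β x)
    rw [hap γ x hx, ← hβe x hx]
    congr 2
    exact β.symm_apply_apply x

/-- Moving members stay moving. -/
theorem Member.exists_map_moving {E : Subgroup G} {Γ : Subgroup (MulAut E)} (h : Member p A E Γ)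
    (hm : ¬ Inv Γ (zG p G)) {β : MulAut G} (hβ : β ∈ A) :
    ∃ Γ' : Subgroup (MulAut (E.map β.toMonoidHom : Subgroup G)),
      Member p A (E.map β.toMonoidHom) Γ' ∧ ¬ Inv Γ' (zG p G) := by
  obtain ⟨Γ', hΓ', hmap⟩ := h.exists_map hβ
  refine ⟨Γ', hΓ', fun hinv => hm fun γ hγ z hz => ?_⟩
  obtain ⟨γ', hγ', he⟩ := hmap γ hγ
  have hzE : z ∈ E := h.centric z fun y _ => (mem_zG.1 hz).1 y
  have h1 := hinv γ' hγ' _ (map_mem_zG β hz)
  rw [he z hzE] at h1
  have h2 := map_mem_zG β⁻¹ h1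
  rwa [show β⁻¹ (β (ap γ z)) = ap γ z from β.symm_apply_apply _] at h2

/-- Every `Ω₁Z` of a moving member lies in every member. -/
def Contained (p : ℕ) (A : Subgroup (MulAut G)) : Prop :=
  ∀ (E E' : Subgroup G) (Γ : Subgroup (MulAut E)) (Γ' : Subgroup (MulAut E')),
    Member p A E Γ → ¬ Inv Γ (zG p G) → Member p A E' Γ' → vE p E ≤ E'

variable {E₁ : Subgroup G} {Γ₁ : Subgroup (MulAut E₁)}

/-- The moving member is unique. -/
theorem Ctx.unique (C : Ctx p A) (hc : Contained p A) (h₁ : Member p A E₁ Γ₁) (hm₁ : ¬ Inv Γ₁ (zG p G))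
    {E₂ : Subgroup G} {Γ₂ : Subgroup (MulAut E₂)} (h₂ : Member p A E₂ Γ₂) (hm₂ : ¬ Inv Γ₂ (zG p G)) :
    E₂ = E₁ := by
  have hG := C.pgroup
  by_contra hne
  haveI := h₁.vE_normal hG
  haveI := h₂.vE_normal hG
  have hV21 := hc E₂ E₁ Γ₂ Γ₁ h₂ hm₂ h₁
  have hV12 := hc E₁ E₂ Γ₁ Γ₂ h₁ hm₁ h₂
  have hle : ∀ {E E' : Subgroup G} {Γ : Subgroup (MulAut E)} {Γ' : Subgroup (MulAut E')},
      Member p A E Γ → ¬ Inv Γ (zG p G) → Member p A E' Γ' → ¬ vE p E ≤ vE p E' ∨ E = E' := by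
    intro E E' Γ Γ' h hm h'
    refine or_iff_not_imp_left.2 fun hle => ?_
    have hE' : E' ≤ E := fun x hx => h.mem_of_centralizes hG hm fun v hv =>
      ((mem_vE.1 (not_not.1 hle hv)).2.1 x hx).symm
    refine (Subgroup.eq_of_le_of_card_ge hE' ?_).symm
    have e := h.card_eq hG
    rw [h'.card_eq hG] at e
    exact (Nat.eq_of_mul_eq_mul_right hp.out.pos e).ge
  have hn12 : ¬ vE p E₁ ≤ vE p E₂ := (hle h₁ hm₁ h₂).resolve_right fun e => hne e.symm
  have hn21 : ¬ vE p E₂ ≤ vE p E₁ := (hle h₂ hm₂ h₁).resolve_right hne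
  obtain ⟨W, hW⟩ : ∃ W, W = vE p E₁ ⊔ vE p E₂ := ⟨_, rfl⟩
  have hEW : EA p W := hW ▸ EA.sup (ea_vE p E₁) (ea_vE p E₂) fun a ha b hb => (mem_vE.1 ha).2.1 b (hV21 hb)
  have hW3 := EA.card_le C.rank hEW
  have hlt : vE p E₁ < W := lt_of_le_of_ne (hW ▸ le_sup_left) fun e => hn21 (e.symm ▸ hW ▸ le_sup_right)
  have hcW : Nat.card W = p ^ 3 := by
    refine le_antisymm hW3 ?_
    haveI : Nontrivial G := by
      obtain ⟨x, -, hx⟩ := SetLike.not_le_iff_exists.1 hn12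
      exact ⟨⟨x, 1, fun e => hx (e ▸ one_mem _)⟩⟩
    obtain ⟨k, hk⟩ := card_pow hG (zG p G)
    have hk0 : k ≠ 0 := fun e => zG_ne_bot hG (Subgroup.card_eq_one.1 (by rw [hk, e, pow_zero]))
    have h1 := card_lt_mul hG (h₁.zG_lt hG hm₁)
    have h2 := card_lt_mul hG hlt
    rw [hk, ← pow_succ] at h1
    calc p ^ 3 ≤ p ^ (k + 1 + 1) := Nat.pow_le_pow_right hp.out.pos (by omega)
      _ = p ^ (k + 1) * p := pow_succ _ _
      _ ≤ Nat.card (vE p E₁) * p := Nat.mul_le_mul_right _ h1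
      _ ≤ Nat.card W := h2
  have hWE : W ≤ E₁ := hW ▸ sup_le (vE_le p E₁) hV21
  have hV2cZ : ∀ e ∈ E₁, ∀ b ∈ vE p E₂, ⁅e, b⁆ ∈ zG p G := by
    intro e _ b hb
    refine central_step hG inferInstance (zG_normal p) (h₂.zG_le hG) ?_ e hb
    have h1 := card_lt_mul hG (h₂.zG_lt hG hm₂)
    obtain ⟨i, hi⟩ := card_pow hG (vE p E₂)
    obtain ⟨j, hj⟩ := card_pow hG (zG p G)
    haveI : Nontrivial G := by
      obtain ⟨x, -, hx⟩ := SetLike.not_le_iff_exists.1 hn12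
      exact ⟨⟨x, 1, fun e => hx (e ▸ one_mem _)⟩⟩
    have hj0 : j ≠ 0 := fun e => zG_ne_bot hG (Subgroup.card_eq_one.1 (by rw [hj, e, pow_zero]))
    have h2 := card_lt_mul hG (lt_of_le_of_ne (hW ▸ le_sup_right : vE p E₂ ≤ W)
      fun e => hn12 (e.symm ▸ hW ▸ le_sup_left))
    rw [hi, hcW, ← pow_succ] at h2
    have h3 := (Nat.pow_le_pow_iff_right hp.out.one_lt).1 h2
    rw [hi, hj, ← pow_succ]
    exact Nat.pow_le_pow_right hp.out.pos (by omega)
  obtain ⟨x, hxE2, hxE1⟩ : ∃ x ∈ E₂, x ∉ E₁ := by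
    by_contra hno
    push Not at hno
    refine hne (Subgroup.eq_of_le_of_card_ge hno ?_)
    have e := h₁.card_eq hG
    rw [h₂.card_eq hG] at e
    exact (Nat.eq_of_mul_eq_mul_right hp.out.pos e).ge
  refine hm₁ fun g hg z hz => ?_
  by_contra hgz
  obtain ⟨γ, hγ⟩ : ∃ γ : Subgroup G, γ = img g (vE p E₂) := ⟨_, rfl⟩
  have hgn := img_normalized (E := E₁) hV21 (fun e _ n hn => (h₂.vE_normal hG).conj_mem n hn e) g
  rw [← hγ] at hgn
  -- the two conjugates commute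
  have hcom : ∀ a ∈ vE p E₂, ∀ b ∈ γ, a * b = b * a := by
    intro a ha b hb
    have hb1 : b ∈ E₁ := hγ.le.trans (img_le g _) hb
    have h1 : ⁅a, b⁆ ∈ zG p G := by rw [← commutatorElement_inv]; exact inv_mem (hV2cZ b hb1 a ha)
    obtain ⟨y, hy, hyE, rfl⟩ := mem_img.1 (hγ ▸ hb)
    have h2 : ⁅a, ap g y⁆ = ap g ⁅ap g⁻¹ a, y⁆ := by
      rw [ap_comm g (ap_mem _ (hV21 ha)) hyE, ap_ap_inv g (hV21 ha)]
    have h3 : ⁅ap g⁻¹ a, y⁆ ∈ zG p G := hV2cZ _ (ap_mem _ (hV21 ha)) y hy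
    rw [← commutatorElement_eq_one_iff_mul_comm]
    by_contra hne1
    refine hgz ?_
    have hcZ : Nat.card (zG p G) ≤ p := by
      obtain ⟨j, hj⟩ := card_pow hG (zG p G)
      have h4 := (Nat.mul_le_mul_right p (card_lt_mul hG (h₁.zG_lt hG hm₁))).trans (card_lt_mul hG hlt)
      rw [hj, hcW, mul_assoc, ← sq, ← pow_add] at h4
      have := (Nat.pow_le_pow_iff_right hp.out.one_lt).1 h4
      calc Nat.card (zG p G) = p ^ j := hj
        _ ≤ p ^ 1 := Nat.pow_le_pow_right hp.out.pos (by omega)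
        _ = p := pow_one p
    rw [h2] at h1 hne1
    have hn1 : ⁅ap g⁻¹ a, y⁆ ≠ 1 := fun e => hne1 (by rw [e, ap_one])
    have hgen := Subgroup.eq_of_le_of_card_ge (Subgroup.zpowers_le.2 h3)
      (by rw [card_zpowers_eq (mem_zG.1 h3).2 hn1]; exact hcZ)
    obtain ⟨i, hi⟩ := mem_powers_iff_mem_zpowers.2 (hgen.ge hz)
    simp only at hi
    rw [← hi, ap_pow g (vE_le p E₁ (h₁.zG_le hG h3))]
    exact pow_mem h1 i
  have hγea : EA p γ := by
    rw [hγ]
    refine ⟨fun a ha b hb => ?_, fun a ha => ?_⟩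
    · obtain ⟨a', ha', haE, rfl⟩ := mem_img.1 ha
      obtain ⟨b', hb', hbE, rfl⟩ := mem_img.1 hb
      rw [← ap_mul g haE hbE, ← ap_mul g hbE haE, (ea_vE p E₂).1 a' ha' b' hb']
    · obtain ⟨a', ha', haE, rfl⟩ := mem_img.1 ha
      rw [← ap_pow g haE, (ea_vE p E₂).2 a' ha', ap_one]
  have hγW : γ ≤ W := by
    have h1 : EA p (W ⊔ γ) := by
      refine EA.sup hEW hγea fun a ha b hb => ?_
      have hsub : W ≤ Subgroup.centralizer ({b} : Set G) := hW ▸ sup_le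
        (fun v hv => Subgroup.mem_centralizer_singleton_iff.2 ((mem_vE.1 hv).2.1 b ((hγ ▸ img_le g _) hb)))
        (fun v hv => Subgroup.mem_centralizer_singleton_iff.2 (hcom v hv b hb))
      exact Subgroup.mem_centralizer_singleton_iff.1 (hsub ha)
    exact (Subgroup.eq_of_le_of_card_ge le_sup_left (by rw [hcW]; exact EA.card_le C.rank h1)).ge.trans'
      le_sup_right
  -- commutators with `W` lie in `Ω₁Z(G)`
  have hWZ : ∀ e ∈ E₁, ∀ w ∈ W, ⁅e, w⁆ ∈ zG p G := by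
    intro e he
    haveI := zG_normal (G := G) p
    have hle' : W ≤ (Subgroup.centralizer ({QuotientGroup.mk' (zG p G) e} : Set _)).comap
        (QuotientGroup.mk' (zG p G)) := by
      rw [hW, sup_le_iff]
      constructor <;> intro v hv <;> refine Subgroup.mem_centralizer_singleton_iff.2 ?_
      · rw [← map_mul, ← map_mul, (mem_vE.1 hv).2.1 e he]
      · refine (commutatorElement_eq_one_iff_mul_comm.1 ?_).symm
        rw [← map_commutatorElement, mk_eq_one]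
        exact hV2cZ e he v hv
    intro w hw
    refine mk_eq_one.1 ?_
    rw [map_commutatorElement, commutatorElement_eq_one_iff_mul_comm]
    exact (Subgroup.mem_centralizer_singleton_iff.1 (hle' hw)).symm
  obtain ⟨b, hb, hbne⟩ : ∃ b ∈ vE p E₂, ∃ e ∈ E₁, ⁅e, b⁆ ≠ 1 := by
    by_contra hno
    push Not at hno
    refine hne (Subgroup.eq_of_le_of_card_ge (fun e he => h₂.mem_of_centralizes hG hm₂ fun w hw =>
      commutatorElement_eq_one_iff_mul_comm.1 (hno w hw e he)) ?_).symm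
    have e := h₁.card_eq hG
    rw [h₂.card_eq hG] at e
    exact (Nat.eq_of_mul_eq_mul_right hp.out.pos e).le
  obtain ⟨e, he, hbe⟩ := hbne
  have hcE := hV2cZ e he b hb
  have hcZ : Nat.card (zG p G) ≤ p := by
    obtain ⟨j, hj⟩ := card_pow hG (zG p G)
    have h4 := (Nat.mul_le_mul_right p (card_lt_mul hG (h₁.zG_lt hG hm₁))).trans (card_lt_mul hG hlt)
    rw [hj, hcW, mul_assoc, ← sq, ← pow_add] at h4
    have := (Nat.pow_le_pow_iff_right hp.out.one_lt).1 h4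
    calc Nat.card (zG p G) = p ^ j := hj
      _ ≤ p ^ 1 := Nat.pow_le_pow_right hp.out.pos (by omega)
      _ = p := pow_one p
  have hgen := Subgroup.eq_of_le_of_card_ge (Subgroup.zpowers_le.2 hcE)
    (by rw [card_zpowers_eq (mem_zG.1 hcE).2 hbe]; exact hcZ)
  obtain ⟨i, hi⟩ := mem_powers_iff_mem_zpowers.2 (hgen.ge hz)
  refine hgz ?_
  simp only at hi
  rw [← hi, ap_pow g (vE_le p E₁ (h₁.zG_le hG hcE)), ap_comm g he (hV21 hb)]
  exact pow_mem (hWZ _ (ap_mem g he) _ (hγW (hγ.symm ▸ ap_mem_img hb (hV21 hb)))) i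

end Cfsg.Agent.Local.FS.AllNormal
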